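import Cfsg.Agent.H16.D.J4
import Cfsg.Agent.H16.JM4
import Cfsg.Agent.H16.M.U33
import Cfsg.Agent.H16.P.JNT.R0

/-! Generated by tools/h16 (computation kit). -/

set_option maxRecDepth 100000
set_option maxHeartbeats 0

namespace H16.JNT

open H26 (jn)
set_option Elab.async false
open DC DJ4 JM Subgroup
def q₁ : FP 1 112 2 := FP.std 1 112 2 7 1 1
theorem ok₁ : q₁.OK := FP.std_ok (by decide +kernel)
abbrev qx := q
theorem qokx : qx.OK := qok
noncomputable def Cx : List ℕ := [cx_0, cx_1, cx_2, cx_3, cx_4, cx_5, cx_6, cx_7]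
noncomputable def Vx : List (List ℕ) := [[nat_lit 9, nat_lit 3, nat_lit 8, nat_lit 2, nat_lit 1, nat_lit 9, nat_lit 10, nat_lit 3, nat_lit 1, nat_lit 4, nat_lit 8, nat_lit 2, nat_lit 9, nat_lit 8, nat_lit 5, nat_lit 1, nat_lit 5, nat_lit 6, nat_lit 9, nat_lit 7, nat_lit 8, nat_lit 11, nat_lit 8, nat_lit 7, nat_lit 0, nat_lit 7, nat_lit 6, nat_lit 11, nat_lit 3, nat_lit 8, nat_lit 0, nat_lit 8, nat_lit 9, nat_lit 10, nat_lit 9, nat_lit 12, nat_lit 6, nat_lit 1, nat_lit 12, nat_lit 1, nat_lit 12, nat_lit 8, nat_lit 2, nat_lit 6, nat_lit 7, nat_lit 0, nat_lit 9, nat_lit 3, nat_lit 1, nat_lit 8, nat_lit 11, nat_lit 8, nat_lit 1, nat_lit 3, nat_lit 9, nat_lit 11, nat_lit 13, nat_lit 8],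
  [nat_lit 9, nat_lit 7, nat_lit 9, nat_lit 3, nat_lit 8, nat_lit 2, nat_lit 1, nat_lit 9, nat_lit 10, nat_lit 3, nat_lit 11, nat_lit 0, nat_lit 5, nat_lit 6, nat_lit 1, nat_lit 7, nat_lit 6, nat_lit 4, nat_lit 0, nat_lit 2, nat_lit 6, nat_lit 4, nat_lit 7, nat_lit 11, nat_lit 6, nat_lit 8, nat_lit 2, nat_lit 9, nat_lit 12, nat_lit 6, nat_lit 1, nat_lit 12, nat_lit 1, nat_lit 12, nat_lit 10, nat_lit 0, nat_lit 8, nat_lit 3, nat_lit 6, nat_lit 10, nat_lit 9, nat_lit 3, nat_lit 6, nat_lit 8, nat_lit 7, nat_lit 11, nat_lit 7, nat_lit 8, nat_lit 6, nat_lit 3, nat_lit 9, nat_lit 13, nat_lit 9, nat_lit 10, nat_lit 9, nat_lit 10, nat_lit 6, nat_lit 7],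
  [nat_lit 8, nat_lit 9, nat_lit 1, nat_lit 7, nat_lit 6, nat_lit 7, nat_lit 11, nat_lit 7, nat_lit 6, nat_lit 7, nat_lit 1, nat_lit 9, nat_lit 8, nat_lit 10, nat_lit 0, nat_lit 2, nat_lit 6, nat_lit 3, nat_lit 2, nat_lit 9, nat_lit 6, nat_lit 10, nat_lit 0, nat_lit 6, nat_lit 8, nat_lit 1, nat_lit 8, nat_lit 9, nat_lit 10, nat_lit 6, nat_lit 8, nat_lit 9, nat_lit 5, nat_lit 6, nat_lit 3, nat_lit 12, nat_lit 6, nat_lit 1, nat_lit 12, nat_lit 1, nat_lit 12, nat_lit 5, nat_lit 6, nat_lit 7, nat_lit 0, nat_lit 2, nat_lit 8, nat_lit 4, nat_lit 6, nat_lit 7, nat_lit 11, nat_lit 7, nat_lit 6, nat_lit 5, nat_lit 8, nat_lit 2, nat_lit 9, nat_lit 13, nat_lit 0],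
  [nat_lit 6, nat_lit 2, nat_lit 7, nat_lit 8, nat_lit 2, nat_lit 1, nat_lit 7, nat_lit 6, nat_lit 1, nat_lit 8, nat_lit 7, nat_lit 2, nat_lit 10, nat_lit 1, nat_lit 9, nat_lit 8, nat_lit 6, nat_lit 9, nat_lit 1, nat_lit 3, nat_lit 9, nat_lit 6, nat_lit 0, nat_lit 8, nat_lit 2, nat_lit 11, nat_lit 6, nat_lit 8, nat_lit 9, nat_lit 12, nat_lit 6, nat_lit 1, nat_lit 12, nat_lit 1, nat_lit 12, nat_lit 1, nat_lit 5, nat_lit 8, nat_lit 1, nat_lit 3, nat_lit 4, nat_lit 2, nat_lit 8, nat_lit 9, nat_lit 1, nat_lit 0, nat_lit 8, nat_lit 11, nat_lit 8, nat_lit 0, nat_lit 1, nat_lit 9, nat_lit 8, nat_lit 2, nat_lit 5, nat_lit 13, nat_lit 1, nat_lit 0, nat_lit 4],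
  [nat_lit 1, nat_lit 6, nat_lit 1, nat_lit 2, nat_lit 8, nat_lit 2, nat_lit 1, nat_lit 10, nat_lit 7, nat_lit 9, nat_lit 6, nat_lit 7, nat_lit 1, nat_lit 11, nat_lit 6, nat_lit 8, nat_lit 0, nat_lit 3, nat_lit 9, nat_lit 5, nat_lit 2, nat_lit 3, nat_lit 8, nat_lit 2, nat_lit 8, nat_lit 9, nat_lit 7, nat_lit 8, nat_lit 6, nat_lit 0, nat_lit 8, nat_lit 12, nat_lit 6, nat_lit 1, nat_lit 12, nat_lit 1, nat_lit 12, nat_lit 1, nat_lit 4, nat_lit 6, nat_lit 8, nat_lit 9, nat_lit 3, nat_lit 8, nat_lit 1, nat_lit 9, nat_lit 0, nat_lit 8, nat_lit 7, nat_lit 11, nat_lit 7, nat_lit 8, nat_lit 0, nat_lit 9, nat_lit 1, nat_lit 8, nat_lit 3, nat_lit 13, nat_lit 0, nat_lit 5, nat_lit 13, nat_lit 7, nat_lit 3, nat_lit 0, nat_lit 10],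
  [nat_lit 4, nat_lit 7, nat_lit 6, nat_lit 10, nat_lit 1, nat_lit 9, nat_lit 6, nat_lit 8, nat_lit 9, nat_lit 1, nat_lit 10, nat_lit 8, nat_lit 0, nat_lit 1, nat_lit 8, nat_lit 9, nat_lit 10, nat_lit 0, nat_lit 8, nat_lit 1, nat_lit 8, nat_lit 3, nat_lit 11, nat_lit 0, nat_lit 7, nat_lit 6, nat_lit 12, nat_lit 6, nat_lit 1, nat_lit 12, nat_lit 1, nat_lit 12, nat_lit 4, nat_lit 8, nat_lit 1, nat_lit 9, nat_lit 6, nat_lit 9, nat_lit 6, nat_lit 0, nat_lit 8, nat_lit 3, nat_lit 6, nat_lit 7, nat_lit 11, nat_lit 7, nat_lit 6, nat_lit 3, nat_lit 8, nat_lit 0, nat_lit 6, nat_lit 13, nat_lit 5, nat_lit 3],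
  [nat_lit 0, nat_lit 5, nat_lit 8, nat_lit 2, nat_lit 11, nat_lit 8, nat_lit 11, nat_lit 2, nat_lit 8, nat_lit 2, nat_lit 11, nat_lit 5, nat_lit 8, nat_lit 6, nat_lit 5, nat_lit 8, nat_lit 6, nat_lit 1, nat_lit 7, nat_lit 11, nat_lit 6, nat_lit 0, nat_lit 7, nat_lit 8, nat_lit 2, nat_lit 9, nat_lit 6, nat_lit 10, nat_lit 0, nat_lit 12, nat_lit 6, nat_lit 1, nat_lit 12, nat_lit 1, nat_lit 12, nat_lit 8, nat_lit 9, nat_lit 7, nat_lit 10, nat_lit 0, nat_lit 8, nat_lit 6, nat_lit 7, nat_lit 11, nat_lit 7, nat_lit 6, nat_lit 8, nat_lit 0, nat_lit 9, nat_lit 8, nat_lit 6, nat_lit 13, nat_lit 9],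
  [nat_lit 1, nat_lit 10, nat_lit 8, nat_lit 2, nat_lit 1, nat_lit 7, nat_lit 6, nat_lit 1, nat_lit 8, nat_lit 7, nat_lit 2, nat_lit 4, nat_lit 9, nat_lit 1, nat_lit 8, nat_lit 6, nat_lit 11, nat_lit 9, nat_lit 4, nat_lit 1, nat_lit 10, nat_lit 2, nat_lit 9, nat_lit 6, nat_lit 10, nat_lit 0, nat_lit 8, nat_lit 12, nat_lit 6, nat_lit 1, nat_lit 12, nat_lit 1, nat_lit 12, nat_lit 1, nat_lit 2, nat_lit 4, nat_lit 8, nat_lit 0, nat_lit 8, nat_lit 9, nat_lit 2, nat_lit 8, nat_lit 7, nat_lit 11, nat_lit 7, nat_lit 8, nat_lit 2, nat_lit 9, nat_lit 8, nat_lit 0, nat_lit 6, nat_lit 2, nat_lit 13, nat_lit 9]]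
noncomputable def gx := wds g Vx
noncomputable def LP : List (List ℕ × List ℕ) := U33.Rl.map (·, []) ++ nQ 0 []
abbrev qr := qx
theorem qokr : qr.OK := qokx
noncomputable def Cr : List ℕ := [cr_0, cr_1, cr_2, cx_0, cx_3, cx_6, cx_7]
noncomputable def Vr : List (List ℕ) := [[nat_lit 0, nat_lit 0, nat_lit 2, nat_lit 0, nat_lit 0, nat_lit 2, nat_lit 1, nat_lit 2, nat_lit 0],
  [nat_lit 1, nat_lit 2, nat_lit 1, nat_lit 1, nat_lit 1],
  [nat_lit 1, nat_lit 1, nat_lit 2, nat_lit 1, nat_lit 1, nat_lit 1, nat_lit 0],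
  [nat_lit 0],
  [nat_lit 3],
  [nat_lit 6],
  [nat_lit 7]]
noncomputable def gr := wds gx Vr
noncomputable def Lr : List (List ℕ × List ℕ) := (nP 0 [(1, 1), (2, 1)]) ++ (nQ 2 [[0], [0, 0, 1]]) ++ (nQ 3 [[0, 0], [2], [0, 1, 2, 2]])
abbrev qa := qx
theorem qoka : qa.OK := qokx
noncomputable def Ca : List ℕ := [cx_3, cx_0, ca_2, ca_3, ca_4, cx_4, ca_6, ca_7]
noncomputable def Va : List (List ℕ) := [[nat_lit 3],
  [nat_lit 0],
  [nat_lit 2, nat_lit 0, nat_lit 3, nat_lit 1, nat_lit 1, nat_lit 2, nat_lit 1, nat_lit 2, nat_lit 3],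
  [nat_lit 1, nat_lit 2, nat_lit 1, nat_lit 1, nat_lit 1],
  [nat_lit 1, nat_lit 2, nat_lit 1, nat_lit 1, nat_lit 1, nat_lit 1, nat_lit 2, nat_lit 1, nat_lit 1, nat_lit 1],
  [nat_lit 4],
  [nat_lit 4, nat_lit 4],
  [nat_lit 4, nat_lit 1, nat_lit 2, nat_lit 1, nat_lit 1, nat_lit 1, nat_lit 4]]
noncomputable def ga := wds gx Va
noncomputable def La : List (List ℕ × List ℕ) := (nP 2 [(2, 1), (3, 2), (4, 4), (5, 4), (6, 2), (7, 4)])
noncomputable def caW : List (List ℕ × List ℕ) :=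
  ([], []) ::
  ([nat_lit 5], [nat_lit 1, nat_lit 2, nat_lit 4, nat_lit 0]) ::
  ([nat_lit 6], [nat_lit 3, nat_lit 0, nat_lit 2]) ::
  ([nat_lit 7], [nat_lit 3, nat_lit 0, nat_lit 2]) ::
  ([nat_lit 6, nat_lit 5], [nat_lit 0, nat_lit 2, nat_lit 1]) ::
  ([nat_lit 7, nat_lit 5], [nat_lit 2, nat_lit 1, nat_lit 0]) ::
  ([nat_lit 7, nat_lit 6], [nat_lit 0, nat_lit 2, nat_lit 5]) ::
  ([nat_lit 5, nat_lit 7], [nat_lit 3, nat_lit 2, nat_lit 0]) ::
  ([nat_lit 6, nat_lit 7], [nat_lit 4, nat_lit 1, nat_lit 0]) ::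
  ([nat_lit 7, nat_lit 7], [nat_lit 0, nat_lit 1, nat_lit 2]) ::
  ([nat_lit 7, nat_lit 3, nat_lit 5], [nat_lit 0, nat_lit 1, nat_lit 5, nat_lit 2]) ::
  ([nat_lit 5, nat_lit 4, nat_lit 5], [nat_lit 0, nat_lit 2, nat_lit 5]) ::
  ([nat_lit 6, nat_lit 4, nat_lit 5], [nat_lit 0, nat_lit 1, nat_lit 2, nat_lit 1]) ::
  ([nat_lit 7, nat_lit 4, nat_lit 5], [nat_lit 3, nat_lit 4, nat_lit 0, nat_lit 1]) ::
  ([nat_lit 7, nat_lit 3, nat_lit 6], [nat_lit 5, nat_lit 1, nat_lit 0]) ::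
  ([nat_lit 7, nat_lit 4, nat_lit 6], [nat_lit 0, nat_lit 1]) ::
  ([nat_lit 7, nat_lit 7, nat_lit 6], [nat_lit 3, nat_lit 0, nat_lit 1]) ::
  ([nat_lit 6, nat_lit 3, nat_lit 7], [nat_lit 3, nat_lit 0, nat_lit 1, nat_lit 5]) ::
  ([nat_lit 6, nat_lit 4, nat_lit 7], [nat_lit 5, nat_lit 1, nat_lit 0]) ::
  ([nat_lit 7, nat_lit 4, nat_lit 7], [nat_lit 2, nat_lit 0, nat_lit 0]) ::
  ([nat_lit 7, nat_lit 5, nat_lit 7], [nat_lit 2, nat_lit 0]) ::
  ([nat_lit 6, nat_lit 7, nat_lit 7], [nat_lit 1, nat_lit 0, nat_lit 2]) ::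
  ([nat_lit 6, nat_lit 7, nat_lit 3, nat_lit 5], [nat_lit 2, nat_lit 0, nat_lit 5]) ::
  ([nat_lit 7, nat_lit 7, nat_lit 3, nat_lit 5], [nat_lit 4, nat_lit 1, nat_lit 0]) ::
  ([nat_lit 7, nat_lit 6, nat_lit 4, nat_lit 5], [nat_lit 2, nat_lit 5, nat_lit 2, nat_lit 0]) ::
  ([nat_lit 5, nat_lit 7, nat_lit 4, nat_lit 5], [nat_lit 0, nat_lit 5, nat_lit 2]) ::
  ([nat_lit 6, nat_lit 7, nat_lit 4, nat_lit 5], [nat_lit 0, nat_lit 2, nat_lit 2]) ::
  ([nat_lit 7, nat_lit 7, nat_lit 4, nat_lit 5], [nat_lit 0, nat_lit 2, nat_lit 1]) ::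
  ([nat_lit 7, nat_lit 4, nat_lit 6, nat_lit 5], [nat_lit 0, nat_lit 1]) ::
  ([nat_lit 6, nat_lit 3, nat_lit 7, nat_lit 5], [nat_lit 2, nat_lit 0]) ::
  ([nat_lit 5, nat_lit 4, nat_lit 7, nat_lit 5], [nat_lit 0, nat_lit 2, nat_lit 1, nat_lit 4]) ::
  ([nat_lit 7, nat_lit 4, nat_lit 7, nat_lit 5], [nat_lit 2, nat_lit 0, nat_lit 2]) ::
  ([nat_lit 6, nat_lit 7, nat_lit 3, nat_lit 6], [nat_lit 0, nat_lit 2, nat_lit 0]) ::
  ([nat_lit 6, nat_lit 3, nat_lit 7, nat_lit 6], [nat_lit 1, nat_lit 4, nat_lit 0]) ::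
  ([nat_lit 5, nat_lit 4, nat_lit 7, nat_lit 6], [nat_lit 0, nat_lit 1, nat_lit 5]) ::
  ([nat_lit 7, nat_lit 4, nat_lit 7, nat_lit 6], [nat_lit 1, nat_lit 0, nat_lit 2]) ::
  ([nat_lit 7, nat_lit 5, nat_lit 7, nat_lit 6], [nat_lit 0, nat_lit 1, nat_lit 5]) ::
  ([nat_lit 7, nat_lit 7, nat_lit 3, nat_lit 7], [nat_lit 1, nat_lit 2, nat_lit 0]) ::
  ([nat_lit 5, nat_lit 4, nat_lit 5, nat_lit 4, nat_lit 5], [nat_lit 1, nat_lit 5, nat_lit 0, nat_lit 2]) ::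
  ([nat_lit 7, nat_lit 7, nat_lit 6, nat_lit 4, nat_lit 5], [nat_lit 2, nat_lit 0]) ::
  ([nat_lit 7, nat_lit 7, nat_lit 3, nat_lit 6, nat_lit 5], [nat_lit 0, nat_lit 1]) ::
  ([nat_lit 7, nat_lit 7, nat_lit 5, nat_lit 7, nat_lit 6], [nat_lit 0, nat_lit 2, nat_lit 0]) ::
  ([nat_lit 7, nat_lit 3, nat_lit 6, nat_lit 3, nat_lit 7], [nat_lit 2, nat_lit 2, nat_lit 2, nat_lit 0]) ::
  ([nat_lit 7, nat_lit 7, nat_lit 3, nat_lit 7, nat_lit 7], [nat_lit 2, nat_lit 0]) ::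
  []
noncomputable def caE350 : List (List ℕ × ℕ × List ℕ × ℕ) :=
  ([nat_lit 3], (nat_lit 4), [nat_lit 3], (nat_lit 966350497)) ::
  ([], (nat_lit 29), [], (nat_lit 970731890)) ::
  ([nat_lit 3], (nat_lit 24), [], (nat_lit 973187434)) ::
  ([nat_lit 3], (nat_lit 36), [nat_lit 4], (nat_lit 978263436)) ::
  ([nat_lit 4], (nat_lit 9), [nat_lit 4], (nat_lit 983530160)) ::
  ([nat_lit 3], (nat_lit 34), [nat_lit 3], (nat_lit 985365752)) ::
  ([], (nat_lit 10), [nat_lit 4], (nat_lit 986803818)) ::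
  ([nat_lit 4], (nat_lit 15), [nat_lit 4], (nat_lit 987917837)) ::
  ([], (nat_lit 37), [], (nat_lit 992917427)) ::
  ([], (nat_lit 4), [nat_lit 3], (nat_lit 996787430)) ::
  []
noncomputable def caE300 : List (List ℕ × ℕ × List ℕ × ℕ) :=
  ([nat_lit 3], (nat_lit 10), [nat_lit 4], (nat_lit 848426159)) ::
  ([nat_lit 3], (nat_lit 4), [], (nat_lit 848929609)) ::
  ([], (nat_lit 27), [nat_lit 3], (nat_lit 849367975)) ::
  ([], (nat_lit 2), [], (nat_lit 851066133)) ::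
  ([], (nat_lit 9), [], (nat_lit 852020265)) ::
  ([nat_lit 4], (nat_lit 33), [], (nat_lit 852319055)) ::
  ([nat_lit 4], (nat_lit 40), [nat_lit 3], (nat_lit 852897544)) ::
  ([], (nat_lit 11), [nat_lit 4], (nat_lit 855618107)) ::
  ([nat_lit 4], (nat_lit 28), [], (nat_lit 862154647)) ::
  ([nat_lit 4], (nat_lit 3), [nat_lit 4], (nat_lit 863602616)) ::
  ([], (nat_lit 6), [nat_lit 4], (nat_lit 863990873)) ::
  ([], (nat_lit 20), [], (nat_lit 868882640)) ::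
  ([nat_lit 4], (nat_lit 42), [nat_lit 4], (nat_lit 869164695)) ::
  ([nat_lit 4], (nat_lit 7), [nat_lit 3], (nat_lit 871253401)) ::
  ([nat_lit 4], (nat_lit 11), [nat_lit 4], (nat_lit 874296107)) ::
  ([nat_lit 4], (nat_lit 35), [nat_lit 4], (nat_lit 877926263)) ::
  ([nat_lit 4], (nat_lit 26), [nat_lit 3], (nat_lit 882296829)) ::
  ([nat_lit 4], (nat_lit 40), [nat_lit 4], (nat_lit 883100654)) ::
  ([nat_lit 4], (nat_lit 18), [nat_lit 4], (nat_lit 887878156)) ::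
  ([nat_lit 3], (nat_lit 9), [nat_lit 3], (nat_lit 891965963)) ::
  ([nat_lit 3], (nat_lit 8), [nat_lit 4], (nat_lit 893593679)) ::
  ([nat_lit 3], (nat_lit 12), [], (nat_lit 894859929)) ::
  ([nat_lit 3], (nat_lit 17), [], (nat_lit 897067527)) ::
  ([nat_lit 3], (nat_lit 20), [], (nat_lit 902652600)) ::
  ([], (nat_lit 21), [nat_lit 3], (nat_lit 906232161)) ::
  ([nat_lit 3], (nat_lit 11), [nat_lit 3], (nat_lit 906273825)) ::
  ([nat_lit 3], (nat_lit 17), [nat_lit 3], (nat_lit 914629599)) ::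
  ([nat_lit 3], (nat_lit 28), [nat_lit 4], (nat_lit 916556836)) ::
  ([nat_lit 4], (nat_lit 13), [nat_lit 3], (nat_lit 916907712)) ::
  ([], (nat_lit 35), [], (nat_lit 917044854)) ::
  ([nat_lit 4], (nat_lit 27), [nat_lit 3], (nat_lit 920136597)) ::
  ([], (nat_lit 36), [], (nat_lit 921815615)) ::
  ([nat_lit 3], (nat_lit 7), [], (nat_lit 924223305)) ::
  ([nat_lit 3], (nat_lit 21), [], (nat_lit 927289856)) ::
  ([], (nat_lit 17), [nat_lit 3], (nat_lit 929729946)) ::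
  ([nat_lit 3], (nat_lit 13), [], (nat_lit 933400374)) ::
  ([nat_lit 3], (nat_lit 35), [nat_lit 3], (nat_lit 934141077)) ::
  ([nat_lit 4], (nat_lit 1), [nat_lit 3], (nat_lit 935636629)) ::
  ([nat_lit 4], (nat_lit 15), [nat_lit 3], (nat_lit 936749895)) ::
  ([nat_lit 4], (nat_lit 31), [], (nat_lit 937543020)) ::
  ([], (nat_lit 0), [], (nat_lit 939336808)) ::
  ([], (nat_lit 31), [nat_lit 3], (nat_lit 940680268)) ::
  ([nat_lit 4], (nat_lit 8), [nat_lit 4], (nat_lit 944397358)) ::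
  ([nat_lit 4], (nat_lit 27), [nat_lit 4], (nat_lit 952105586)) ::
  ([], (nat_lit 4), [nat_lit 4], (nat_lit 954175991)) ::
  ([], (nat_lit 24), [], (nat_lit 958631091)) ::
  ([nat_lit 3], (nat_lit 22), [], (nat_lit 959024080)) ::
  ([], (nat_lit 15), [nat_lit 4], (nat_lit 960135517)) ::
  ([nat_lit 4], (nat_lit 36), [nat_lit 4], (nat_lit 960233008)) ::
  ([nat_lit 3], (nat_lit 41), [], (nat_lit 963455370)) ::
  caE350
noncomputable def caE250 : List (List ℕ × ℕ × List ℕ × ℕ) :=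
  ([], (nat_lit 3), [nat_lit 4], (nat_lit 711320738)) ::
  ([nat_lit 3], (nat_lit 36), [], (nat_lit 714240881)) ::
  ([], (nat_lit 43), [], (nat_lit 714508974)) ::
  ([], (nat_lit 37), [nat_lit 3], (nat_lit 716440219)) ::
  ([nat_lit 4], (nat_lit 7), [nat_lit 4], (nat_lit 720381020)) ::
  ([nat_lit 4], (nat_lit 3), [], (nat_lit 723937681)) ::
  ([nat_lit 4], (nat_lit 13), [], (nat_lit 724292130)) ::
  ([], (nat_lit 23), [], (nat_lit 725748487)) ::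
  ([], (nat_lit 32), [nat_lit 3], (nat_lit 732864745)) ::
  ([nat_lit 3], (nat_lit 4), [nat_lit 4], (nat_lit 733640472)) ::
  ([], (nat_lit 33), [nat_lit 3], (nat_lit 736774976)) ::
  ([nat_lit 4], (nat_lit 8), [], (nat_lit 742029462)) ::
  ([], (nat_lit 7), [], (nat_lit 747478457)) ::
  ([nat_lit 4], (nat_lit 39), [nat_lit 4], (nat_lit 747739735)) ::
  ([nat_lit 3], (nat_lit 33), [nat_lit 4], (nat_lit 748180590)) ::
  ([], (nat_lit 17), [], (nat_lit 749960358)) ::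
  ([nat_lit 3], (nat_lit 10), [], (nat_lit 750227124)) ::
  ([], (nat_lit 14), [nat_lit 3], (nat_lit 752367297)) ::
  ([nat_lit 4], (nat_lit 5), [nat_lit 4], (nat_lit 760270981)) ::
  ([], (nat_lit 3), [], (nat_lit 763858517)) ::
  ([], (nat_lit 19), [], (nat_lit 764486098)) ::
  ([nat_lit 3], (nat_lit 9), [nat_lit 4], (nat_lit 767028900)) ::
  ([nat_lit 4], (nat_lit 21), [nat_lit 4], (nat_lit 767206252)) ::
  ([], (nat_lit 40), [nat_lit 3], (nat_lit 771078525)) ::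
  ([nat_lit 4], (nat_lit 1), [], (nat_lit 771529416)) ::
  ([nat_lit 4], (nat_lit 23), [], (nat_lit 772364347)) ::
  ([nat_lit 3], (nat_lit 7), [nat_lit 4], (nat_lit 775026350)) ::
  ([], (nat_lit 28), [], (nat_lit 776400104)) ::
  ([], (nat_lit 8), [nat_lit 4], (nat_lit 777274973)) ::
  ([nat_lit 3], (nat_lit 6), [nat_lit 3], (nat_lit 777832469)) ::
  ([nat_lit 4], (nat_lit 30), [nat_lit 3], (nat_lit 779391034)) ::
  ([], (nat_lit 18), [nat_lit 4], (nat_lit 780535348)) ::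
  ([], (nat_lit 33), [], (nat_lit 782826177)) ::
  ([nat_lit 4], (nat_lit 34), [nat_lit 3], (nat_lit 783386041)) ::
  ([nat_lit 3], (nat_lit 12), [nat_lit 4], (nat_lit 784281589)) ::
  ([nat_lit 3], (nat_lit 36), [nat_lit 3], (nat_lit 796343973)) ::
  ([nat_lit 4], (nat_lit 30), [nat_lit 4], (nat_lit 796788182)) ::
  ([nat_lit 4], (nat_lit 24), [nat_lit 4], (nat_lit 801175048)) ::
  ([nat_lit 3], (nat_lit 19), [], (nat_lit 802699002)) ::
  ([nat_lit 3], (nat_lit 33), [nat_lit 3], (nat_lit 805424265)) ::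
  ([nat_lit 4], (nat_lit 5), [nat_lit 3], (nat_lit 809438339)) ::
  ([nat_lit 3], (nat_lit 2), [nat_lit 4], (nat_lit 813323921)) ::
  ([nat_lit 3], (nat_lit 8), [nat_lit 3], (nat_lit 818737029)) ::
  ([nat_lit 3], (nat_lit 42), [], (nat_lit 823016233)) ::
  ([nat_lit 3], (nat_lit 5), [nat_lit 4], (nat_lit 823854283)) ::
  ([nat_lit 4], (nat_lit 2), [nat_lit 3], (nat_lit 827947693)) ::
  ([], (nat_lit 5), [], (nat_lit 829837020)) ::
  ([nat_lit 4], (nat_lit 28), [nat_lit 4], (nat_lit 836472288)) ::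
  ([nat_lit 3], (nat_lit 26), [nat_lit 4], (nat_lit 836691174)) ::
  ([nat_lit 3], (nat_lit 6), [], (nat_lit 846142990)) ::
  caE300
noncomputable def caE200 : List (List ℕ × ℕ × List ℕ × ℕ) :=
  ([nat_lit 4], (nat_lit 43), [], (nat_lit 554602354)) ::
  ([], (nat_lit 15), [], (nat_lit 555529920)) ::
  ([nat_lit 3], (nat_lit 17), [nat_lit 4], (nat_lit 555932944)) ::
  ([], (nat_lit 32), [nat_lit 4], (nat_lit 558872133)) ::
  ([nat_lit 3], (nat_lit 0), [], (nat_lit 561467820)) ::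
  ([nat_lit 4], (nat_lit 36), [], (nat_lit 563222203)) ::
  ([nat_lit 4], (nat_lit 9), [], (nat_lit 565957086)) ::
  ([], (nat_lit 5), [nat_lit 4], (nat_lit 571030902)) ::
  ([nat_lit 3], (nat_lit 32), [], (nat_lit 572761233)) ::
  ([], (nat_lit 12), [nat_lit 4], (nat_lit 575274519)) ::
  ([nat_lit 4], (nat_lit 18), [], (nat_lit 575398811)) ::
  ([], (nat_lit 25), [], (nat_lit 578325621)) ::
  ([nat_lit 3], (nat_lit 27), [nat_lit 4], (nat_lit 579838309)) ::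
  ([], (nat_lit 31), [nat_lit 4], (nat_lit 597337957)) ::
  ([], (nat_lit 18), [], (nat_lit 598200850)) ::
  ([nat_lit 3], (nat_lit 3), [], (nat_lit 600940283)) ::
  ([], (nat_lit 1), [nat_lit 3], (nat_lit 601915999)) ::
  ([nat_lit 4], (nat_lit 19), [], (nat_lit 603812096)) ::
  ([], (nat_lit 30), [nat_lit 3], (nat_lit 605769559)) ::
  ([nat_lit 4], (nat_lit 2), [], (nat_lit 609790827)) ::
  ([], (nat_lit 40), [], (nat_lit 617511526)) ::
  ([], (nat_lit 30), [nat_lit 4], (nat_lit 618757709)) ::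
  ([nat_lit 3], (nat_lit 15), [nat_lit 4], (nat_lit 623293479)) ::
  ([nat_lit 4], (nat_lit 37), [nat_lit 3], (nat_lit 626270051)) ::
  ([nat_lit 3], (nat_lit 42), [nat_lit 4], (nat_lit 633448985)) ::
  ([nat_lit 4], (nat_lit 32), [nat_lit 3], (nat_lit 634456651)) ::
  ([nat_lit 4], (nat_lit 23), [nat_lit 4], (nat_lit 637803469)) ::
  ([nat_lit 3], (nat_lit 12), [nat_lit 3], (nat_lit 641859405)) ::
  ([nat_lit 3], (nat_lit 23), [nat_lit 3], (nat_lit 643980182)) ::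
  ([nat_lit 3], (nat_lit 26), [], (nat_lit 648560104)) ::
  ([], (nat_lit 7), [nat_lit 4], (nat_lit 651699693)) ::
  ([], (nat_lit 38), [nat_lit 4], (nat_lit 652034093)) ::
  ([nat_lit 3], (nat_lit 14), [nat_lit 3], (nat_lit 654433293)) ::
  ([], (nat_lit 11), [], (nat_lit 654852309)) ::
  ([nat_lit 4], (nat_lit 7), [], (nat_lit 655021218)) ::
  ([nat_lit 3], (nat_lit 16), [nat_lit 3], (nat_lit 658266618)) ::
  ([nat_lit 4], (nat_lit 22), [nat_lit 3], (nat_lit 659861578)) ::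
  ([], (nat_lit 10), [], (nat_lit 660372410)) ::
  ([nat_lit 3], (nat_lit 37), [], (nat_lit 663295790)) ::
  ([nat_lit 3], (nat_lit 11), [], (nat_lit 663447467)) ::
  ([nat_lit 3], (nat_lit 28), [nat_lit 3], (nat_lit 669166703)) ::
  ([nat_lit 4], (nat_lit 41), [], (nat_lit 673885717)) ::
  ([nat_lit 3], (nat_lit 6), [nat_lit 4], (nat_lit 679178204)) ::
  ([], (nat_lit 25), [nat_lit 3], (nat_lit 684949926)) ::
  ([nat_lit 3], (nat_lit 16), [nat_lit 4], (nat_lit 701139807)) ::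
  ([], (nat_lit 1), [], (nat_lit 704422932)) ::
  ([nat_lit 3], (nat_lit 25), [nat_lit 4], (nat_lit 705205307)) ::
  ([nat_lit 3], (nat_lit 27), [nat_lit 3], (nat_lit 705557061)) ::
  ([], (nat_lit 18), [nat_lit 3], (nat_lit 706897107)) ::
  ([], (nat_lit 14), [nat_lit 4], (nat_lit 707776872)) ::
  caE250
noncomputable def caE150 : List (List ℕ × ℕ × List ℕ × ℕ) :=
  ([nat_lit 3], (nat_lit 39), [nat_lit 4], (nat_lit 405464308)) ::
  ([], (nat_lit 26), [], (nat_lit 406861255)) ::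
  ([nat_lit 3], (nat_lit 1), [], (nat_lit 412087808)) ::
  ([nat_lit 3], (nat_lit 31), [nat_lit 3], (nat_lit 412118789)) ::
  ([nat_lit 4], (nat_lit 1), [nat_lit 4], (nat_lit 412886135)) ::
  ([nat_lit 3], (nat_lit 37), [nat_lit 3], (nat_lit 418685121)) ::
  ([nat_lit 4], (nat_lit 37), [nat_lit 4], (nat_lit 426691288)) ::
  ([nat_lit 3], (nat_lit 30), [], (nat_lit 428800581)) ::
  ([], (nat_lit 42), [], (nat_lit 432027864)) ::
  ([nat_lit 3], (nat_lit 23), [], (nat_lit 436544429)) ::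
  ([nat_lit 3], (nat_lit 38), [nat_lit 4], (nat_lit 436758841)) ::
  ([nat_lit 4], (nat_lit 16), [nat_lit 4], (nat_lit 439108516)) ::
  ([], (nat_lit 9), [nat_lit 3], (nat_lit 442590445)) ::
  ([nat_lit 3], (nat_lit 31), [], (nat_lit 443492118)) ::
  ([nat_lit 4], (nat_lit 35), [], (nat_lit 444282275)) ::
  ([nat_lit 3], (nat_lit 8), [], (nat_lit 445022605)) ::
  ([nat_lit 3], (nat_lit 16), [], (nat_lit 448668978)) ::
  ([nat_lit 3], (nat_lit 1), [nat_lit 3], (nat_lit 453205999)) ::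
  ([], (nat_lit 31), [], (nat_lit 454948745)) ::
  ([nat_lit 4], (nat_lit 11), [nat_lit 3], (nat_lit 455584377)) ::
  ([nat_lit 4], (nat_lit 10), [nat_lit 3], (nat_lit 458254758)) ::
  ([], (nat_lit 38), [nat_lit 3], (nat_lit 459658116)) ::
  ([nat_lit 3], (nat_lit 30), [nat_lit 4], (nat_lit 463188034)) ::
  ([], (nat_lit 16), [nat_lit 3], (nat_lit 465180884)) ::
  ([nat_lit 4], (nat_lit 12), [], (nat_lit 465953710)) ::
  ([nat_lit 3], (nat_lit 22), [nat_lit 3], (nat_lit 479104909)) ::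
  ([nat_lit 3], (nat_lit 15), [nat_lit 3], (nat_lit 481794683)) ::
  ([nat_lit 3], (nat_lit 39), [], (nat_lit 486330443)) ::
  ([nat_lit 3], (nat_lit 7), [nat_lit 3], (nat_lit 492875255)) ::
  ([nat_lit 4], (nat_lit 38), [nat_lit 4], (nat_lit 498134215)) ::
  ([], (nat_lit 28), [nat_lit 4], (nat_lit 502376221)) ::
  ([nat_lit 3], (nat_lit 14), [], (nat_lit 505576255)) ::
  ([nat_lit 4], (nat_lit 20), [], (nat_lit 509847944)) ::
  ([nat_lit 4], (nat_lit 37), [], (nat_lit 511019555)) ::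
  ([nat_lit 3], (nat_lit 39), [nat_lit 3], (nat_lit 518480121)) ::
  ([nat_lit 3], (nat_lit 3), [nat_lit 4], (nat_lit 519261996)) ::
  ([], (nat_lit 8), [], (nat_lit 522647386)) ::
  ([nat_lit 3], (nat_lit 21), [nat_lit 3], (nat_lit 527949593)) ::
  ([nat_lit 4], (nat_lit 17), [], (nat_lit 530255188)) ::
  ([nat_lit 4], (nat_lit 42), [nat_lit 3], (nat_lit 533141805)) ::
  ([nat_lit 4], (nat_lit 4), [nat_lit 3], (nat_lit 533366806)) ::
  ([nat_lit 4], (nat_lit 11), [], (nat_lit 535685323)) ::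
  ([], (nat_lit 35), [nat_lit 3], (nat_lit 536386963)) ::
  ([nat_lit 4], (nat_lit 33), [nat_lit 3], (nat_lit 540170804)) ::
  ([nat_lit 3], (nat_lit 31), [nat_lit 4], (nat_lit 550571941)) ::
  ([nat_lit 3], (nat_lit 27), [], (nat_lit 551046181)) ::
  ([nat_lit 4], (nat_lit 16), [], (nat_lit 552630510)) ::
  ([nat_lit 4], (nat_lit 33), [nat_lit 4], (nat_lit 552691044)) ::
  ([nat_lit 4], (nat_lit 24), [], (nat_lit 552891455)) ::
  ([nat_lit 4], (nat_lit 26), [nat_lit 4], (nat_lit 554575654)) ::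
  caE200
noncomputable def caE100 : List (List ℕ × ℕ × List ℕ × ℕ) :=
  ([nat_lit 3], (nat_lit 22), [nat_lit 4], (nat_lit 293260483)) ::
  ([nat_lit 3], (nat_lit 38), [], (nat_lit 297866298)) ::
  ([nat_lit 4], (nat_lit 25), [nat_lit 4], (nat_lit 302263535)) ::
  ([nat_lit 3], (nat_lit 40), [nat_lit 4], (nat_lit 303659994)) ::
  ([nat_lit 4], (nat_lit 38), [], (nat_lit 306341777)) ::
  ([], (nat_lit 21), [], (nat_lit 306643685)) ::
  ([], (nat_lit 39), [nat_lit 4], (nat_lit 312036013)) ::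
  ([nat_lit 4], (nat_lit 23), [nat_lit 3], (nat_lit 316431890)) ::
  ([], (nat_lit 37), [nat_lit 4], (nat_lit 317102450)) ::
  ([nat_lit 3], (nat_lit 14), [nat_lit 4], (nat_lit 317225144)) ::
  ([], (nat_lit 11), [nat_lit 3], (nat_lit 325594225)) ::
  ([nat_lit 3], (nat_lit 40), [], (nat_lit 326851998)) ::
  ([nat_lit 3], (nat_lit 5), [], (nat_lit 327583976)) ::
  ([nat_lit 4], (nat_lit 17), [nat_lit 3], (nat_lit 329571045)) ::
  ([], (nat_lit 10), [nat_lit 3], (nat_lit 332272917)) ::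
  ([], (nat_lit 32), [], (nat_lit 332480702)) ::
  ([nat_lit 3], (nat_lit 18), [nat_lit 3], (nat_lit 332543086)) ::
  ([nat_lit 4], (nat_lit 16), [nat_lit 3], (nat_lit 345997922)) ::
  ([nat_lit 3], (nat_lit 37), [nat_lit 4], (nat_lit 349103201)) ::
  ([nat_lit 3], (nat_lit 15), [], (nat_lit 349334963)) ::
  ([nat_lit 4], (nat_lit 22), [nat_lit 4], (nat_lit 349902909)) ::
  ([nat_lit 4], (nat_lit 6), [nat_lit 4], (nat_lit 352532421)) ::
  ([], (nat_lit 13), [nat_lit 4], (nat_lit 353659962)) ::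
  ([nat_lit 3], (nat_lit 5), [nat_lit 3], (nat_lit 356880001)) ::
  ([], (nat_lit 27), [], (nat_lit 358490877)) ::
  ([nat_lit 4], (nat_lit 13), [nat_lit 4], (nat_lit 359020035)) ::
  ([], (nat_lit 22), [nat_lit 4], (nat_lit 361779828)) ::
  ([nat_lit 4], (nat_lit 29), [], (nat_lit 362065338)) ::
  ([], (nat_lit 25), [nat_lit 4], (nat_lit 363123023)) ::
  ([], (nat_lit 12), [], (nat_lit 364286208)) ::
  ([nat_lit 3], (nat_lit 35), [], (nat_lit 364796617)) ::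
  ([nat_lit 4], (nat_lit 26), [], (nat_lit 373783966)) ::
  ([], (nat_lit 42), [nat_lit 4], (nat_lit 375145878)) ::
  ([], (nat_lit 23), [nat_lit 4], (nat_lit 375334361)) ::
  ([nat_lit 3], (nat_lit 26), [nat_lit 3], (nat_lit 375921043)) ::
  ([], (nat_lit 14), [], (nat_lit 378422023)) ::
  ([nat_lit 4], (nat_lit 30), [], (nat_lit 380243657)) ::
  ([], (nat_lit 38), [], (nat_lit 380791624)) ::
  ([nat_lit 4], (nat_lit 0), [], (nat_lit 380856276)) ::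
  ([], (nat_lit 5), [nat_lit 3], (nat_lit 382180135)) ::
  ([nat_lit 3], (nat_lit 43), [], (nat_lit 383847047)) ::
  ([nat_lit 4], (nat_lit 22), [], (nat_lit 389048834)) ::
  ([], (nat_lit 22), [nat_lit 3], (nat_lit 391880733)) ::
  ([nat_lit 3], (nat_lit 11), [nat_lit 4], (nat_lit 391927082)) ::
  ([nat_lit 4], (nat_lit 31), [nat_lit 4], (nat_lit 393768126)) ::
  ([nat_lit 3], (nat_lit 25), [nat_lit 3], (nat_lit 394058437)) ::
  ([], (nat_lit 16), [nat_lit 4], (nat_lit 395225827)) ::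
  ([nat_lit 3], (nat_lit 24), [nat_lit 4], (nat_lit 399386831)) ::
  ([nat_lit 3], (nat_lit 23), [nat_lit 4], (nat_lit 401840311)) ::
  ([], (nat_lit 24), [nat_lit 4], (nat_lit 403627437)) ::
  caE150
noncomputable def caE50 : List (List ℕ × ℕ × List ℕ × ℕ) :=
  ([], (nat_lit 35), [nat_lit 4], (nat_lit 130833579)) ::
  ([nat_lit 4], (nat_lit 14), [], (nat_lit 133414445)) ::
  ([], (nat_lit 1), [nat_lit 4], (nat_lit 144215055)) ::
  ([], (nat_lit 6), [nat_lit 3], (nat_lit 146020609)) ::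
  ([nat_lit 4], (nat_lit 36), [nat_lit 3], (nat_lit 149967323)) ::
  ([nat_lit 3], (nat_lit 32), [nat_lit 4], (nat_lit 151382900)) ::
  ([], (nat_lit 30), [], (nat_lit 151508606)) ::
  ([], (nat_lit 39), [nat_lit 3], (nat_lit 152109964)) ::
  ([], (nat_lit 39), [], (nat_lit 154933834)) ::
  ([nat_lit 4], (nat_lit 14), [nat_lit 4], (nat_lit 162702514)) ::
  ([nat_lit 3], (nat_lit 2), [nat_lit 3], (nat_lit 164774311)) ::
  ([], (nat_lit 26), [nat_lit 4], (nat_lit 170563383)) ::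
  ([nat_lit 4], (nat_lit 32), [], (nat_lit 172314596)) ::
  ([], (nat_lit 15), [nat_lit 3], (nat_lit 183568054)) ::
  ([nat_lit 3], (nat_lit 25), [], (nat_lit 187182136)) ::
  ([nat_lit 4], (nat_lit 15), [], (nat_lit 189832945)) ::
  ([nat_lit 3], (nat_lit 33), [], (nat_lit 191186848)) ::
  ([nat_lit 3], (nat_lit 24), [nat_lit 3], (nat_lit 191549208)) ::
  ([nat_lit 3], (nat_lit 34), [], (nat_lit 202979220)) ::
  ([], (nat_lit 28), [nat_lit 3], (nat_lit 203827445)) ::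
  ([nat_lit 4], (nat_lit 42), [], (nat_lit 206145002)) ::
  ([nat_lit 4], (nat_lit 25), [nat_lit 3], (nat_lit 208764211)) ::
  ([], (nat_lit 13), [nat_lit 3], (nat_lit 211248677)) ::
  ([], (nat_lit 40), [nat_lit 4], (nat_lit 214713817)) ::
  ([], (nat_lit 36), [nat_lit 4], (nat_lit 215710697)) ::
  ([nat_lit 3], (nat_lit 2), [], (nat_lit 220094071)) ::
  ([nat_lit 3], (nat_lit 30), [nat_lit 3], (nat_lit 222859273)) ::
  ([], (nat_lit 2), [nat_lit 4], (nat_lit 223866408)) ::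
  ([nat_lit 4], (nat_lit 28), [nat_lit 3], (nat_lit 234808869)) ::
  ([], (nat_lit 6), [], (nat_lit 238715915)) ::
  ([nat_lit 3], (nat_lit 21), [nat_lit 4], (nat_lit 239568881)) ::
  ([], (nat_lit 34), [nat_lit 4], (nat_lit 240915112)) ::
  ([nat_lit 4], (nat_lit 38), [nat_lit 3], (nat_lit 244265357)) ::
  ([nat_lit 3], (nat_lit 35), [nat_lit 4], (nat_lit 248215131)) ::
  ([nat_lit 4], (nat_lit 17), [nat_lit 4], (nat_lit 252968771)) ::
  ([nat_lit 3], (nat_lit 34), [nat_lit 4], (nat_lit 255775825)) ::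
  ([nat_lit 4], (nat_lit 21), [nat_lit 3], (nat_lit 260021346)) ::
  ([nat_lit 4], (nat_lit 27), [], (nat_lit 262435564)) ::
  ([nat_lit 4], (nat_lit 5), [], (nat_lit 264632440)) ::
  ([nat_lit 4], (nat_lit 14), [nat_lit 3], (nat_lit 266733225)) ::
  ([nat_lit 3], (nat_lit 13), [nat_lit 4], (nat_lit 267079165)) ::
  ([nat_lit 4], (nat_lit 39), [], (nat_lit 268515275)) ::
  ([nat_lit 3], (nat_lit 13), [nat_lit 3], (nat_lit 271354895)) ::
  ([nat_lit 4], (nat_lit 4), [], (nat_lit 272483912)) ::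
  ([], (nat_lit 2), [nat_lit 3], (nat_lit 278105812)) ::
  ([nat_lit 4], (nat_lit 40), [], (nat_lit 280487459)) ::
  ([nat_lit 4], (nat_lit 12), [nat_lit 4], (nat_lit 281540630)) ::
  ([], (nat_lit 22), [], (nat_lit 281572844)) ::
  ([], (nat_lit 33), [nat_lit 4], (nat_lit 284535225)) ::
  ([nat_lit 3], (nat_lit 38), [nat_lit 3], (nat_lit 288506843)) ::
  caE100
noncomputable def caE : List (List ℕ × ℕ × List ℕ × ℕ) :=
  ([nat_lit 4], (nat_lit 25), [], (nat_lit 5763640)) ::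
  ([], (nat_lit 12), [nat_lit 3], (nat_lit 7618833)) ::
  ([], (nat_lit 34), [nat_lit 3], (nat_lit 8115111)) ::
  ([nat_lit 3], (nat_lit 32), [nat_lit 3], (nat_lit 8874182)) ::
  ([nat_lit 4], (nat_lit 6), [], (nat_lit 14124813)) ::
  ([], (nat_lit 24), [nat_lit 3], (nat_lit 23146274)) ::
  ([nat_lit 4], (nat_lit 18), [nat_lit 3], (nat_lit 26415994)) ::
  ([nat_lit 4], (nat_lit 12), [nat_lit 3], (nat_lit 28603908)) ::
  ([], (nat_lit 9), [nat_lit 4], (nat_lit 31320350)) ::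
  ([], (nat_lit 7), [nat_lit 3], (nat_lit 32992781)) ::
  ([nat_lit 3], (nat_lit 28), [], (nat_lit 33957421)) ::
  ([], (nat_lit 26), [nat_lit 3], (nat_lit 39147684)) ::
  ([], (nat_lit 41), [], (nat_lit 42536786)) ::
  ([], (nat_lit 17), [nat_lit 4], (nat_lit 43544594)) ::
  ([nat_lit 4], (nat_lit 10), [], (nat_lit 45190281)) ::
  ([nat_lit 4], (nat_lit 39), [nat_lit 3], (nat_lit 45612994)) ::
  ([], (nat_lit 4), [], (nat_lit 46373441)) ::
  ([nat_lit 4], (nat_lit 21), [], (nat_lit 46617352)) ::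
  ([], (nat_lit 23), [nat_lit 3], (nat_lit 46908703)) ::
  ([], (nat_lit 3), [nat_lit 3], (nat_lit 49208316)) ::
  ([], (nat_lit 13), [], (nat_lit 50476249)) ::
  ([], (nat_lit 34), [], (nat_lit 53534233)) ::
  ([], (nat_lit 8), [nat_lit 3], (nat_lit 55305213)) ::
  ([nat_lit 3], (nat_lit 42), [nat_lit 3], (nat_lit 67123669)) ::
  ([nat_lit 4], (nat_lit 24), [nat_lit 3], (nat_lit 68034894)) ::
  ([], (nat_lit 36), [nat_lit 3], (nat_lit 70466953)) ::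
  ([nat_lit 3], (nat_lit 9), [], (nat_lit 70568426)) ::
  ([nat_lit 3], (nat_lit 18), [nat_lit 4], (nat_lit 71300417)) ::
  ([nat_lit 4], (nat_lit 6), [nat_lit 3], (nat_lit 71948159)) ::
  ([nat_lit 3], (nat_lit 40), [nat_lit 3], (nat_lit 75706550)) ::
  ([nat_lit 3], (nat_lit 18), [], (nat_lit 76417812)) ::
  ([nat_lit 4], (nat_lit 2), [nat_lit 4], (nat_lit 80954805)) ::
  ([nat_lit 3], (nat_lit 29), [], (nat_lit 83605511)) ::
  ([nat_lit 4], (nat_lit 8), [nat_lit 3], (nat_lit 86169315)) ::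
  ([nat_lit 4], (nat_lit 10), [nat_lit 4], (nat_lit 86743091)) ::
  ([nat_lit 4], (nat_lit 34), [nat_lit 4], (nat_lit 100140602)) ::
  ([], (nat_lit 21), [nat_lit 4], (nat_lit 100290358)) ::
  ([nat_lit 3], (nat_lit 3), [nat_lit 3], (nat_lit 100603757)) ::
  ([nat_lit 3], (nat_lit 10), [nat_lit 3], (nat_lit 101689119)) ::
  ([nat_lit 4], (nat_lit 3), [nat_lit 3], (nat_lit 104505075)) ::
  ([nat_lit 4], (nat_lit 9), [nat_lit 3], (nat_lit 104530768)) ::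
  ([nat_lit 4], (nat_lit 34), [], (nat_lit 104894991)) ::
  ([], (nat_lit 27), [nat_lit 4], (nat_lit 106751385)) ::
  ([nat_lit 3], (nat_lit 1), [nat_lit 4], (nat_lit 110297169)) ::
  ([nat_lit 4], (nat_lit 35), [nat_lit 3], (nat_lit 115863743)) ::
  ([nat_lit 4], (nat_lit 4), [nat_lit 4], (nat_lit 116288522)) ::
  ([], (nat_lit 42), [nat_lit 3], (nat_lit 118944160)) ::
  ([], (nat_lit 16), [], (nat_lit 120645209)) ::
  ([nat_lit 4], (nat_lit 32), [nat_lit 4], (nat_lit 124524943)) ::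
  ([nat_lit 4], (nat_lit 31), [nat_lit 3], (nat_lit 129630584)) ::
  caE50
noncomputable def ca : Cv := ⟨(nat_lit 2), (nat_lit 5), (nat_lit 8), (nat_lit 0x200081000400002040800200080000000002040000200000020008100000800000000000000100040800004081020408100040810200081020000002040810004001020008000040810004000020408000000000004081000000000040800204000), (nat_lit 1000000007), (nat_lit 2), [nat_lit 0, nat_lit 0, nat_lit 0, nat_lit 0, nat_lit 0], [], caW, caE⟩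
abbrev qb := qx
theorem qokb : qb.OK := qokx
noncomputable def Cb : List ℕ := [cx_3, cx_0, cx_1, cx_2, cb_4, cb_5, cb_6, cx_5, cb_8, cb_9, cb_10, cb_11]
noncomputable def Vb : List (List ℕ) := [[nat_lit 3],
  [nat_lit 0],
  [nat_lit 1],
  [nat_lit 2],
  [nat_lit 0, nat_lit 0, nat_lit 0, nat_lit 0],
  [nat_lit 0, nat_lit 0, nat_lit 2, nat_lit 0, nat_lit 0, nat_lit 2, nat_lit 1, nat_lit 2, nat_lit 0],
  [nat_lit 0, nat_lit 0, nat_lit 2, nat_lit 0, nat_lit 0, nat_lit 2, nat_lit 1, nat_lit 2, nat_lit 0, nat_lit 0, nat_lit 0, nat_lit 2, nat_lit 0, nat_lit 0, nat_lit 2, nat_lit 1, nat_lit 2, nat_lit 0],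
  [nat_lit 5],
  [nat_lit 1, nat_lit 5, nat_lit 0],
  [nat_lit 2, nat_lit 5, nat_lit 2],
  [nat_lit 0, nat_lit 2, nat_lit 5, nat_lit 2, nat_lit 1],
  [nat_lit 5, nat_lit 2, nat_lit 5]]
noncomputable def gb := wds gx Vb
noncomputable def Lb : List (List ℕ × List ℕ) := (nP 5 [(1, 2), (2, 2), (3, 1), (4, 1), (5, 1), (6, 1), (7, 2), (8, 2), (9, 2), (10, 2), (11, 1)]) ++ (iP 1 12 [0, 2, 1, 3, 4, 6, 5, 7, 8, 9, 10, 11])
noncomputable def cbW : List (List ℕ × List ℕ) :=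
  ([], []) ::
  ([nat_lit 7], [nat_lit 3, nat_lit 4, nat_lit 0, nat_lit 2, nat_lit 1]) ::
  ([nat_lit 11], [nat_lit 5, nat_lit 1, nat_lit 0]) ::
  ([nat_lit 8, nat_lit 7], [nat_lit 3, nat_lit 0, nat_lit 5, nat_lit 1]) ::
  ([nat_lit 7, nat_lit 8], [nat_lit 4, nat_lit 1, nat_lit 0]) ::
  ([nat_lit 11, nat_lit 8], [nat_lit 3, nat_lit 1, nat_lit 0]) ::
  ([nat_lit 8, nat_lit 9], [nat_lit 1, nat_lit 4, nat_lit 0, nat_lit 5]) ::
  ([nat_lit 11, nat_lit 10], [nat_lit 0, nat_lit 5, nat_lit 4, nat_lit 1]) ::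
  ([nat_lit 8, nat_lit 11], [nat_lit 0, nat_lit 5, nat_lit 1]) ::
  ([nat_lit 7, nat_lit 8, nat_lit 3], [nat_lit 1, nat_lit 2, nat_lit 5, nat_lit 0]) ::
  ([nat_lit 7, nat_lit 8, nat_lit 7], [nat_lit 7, nat_lit 0, nat_lit 1]) ::
  ([nat_lit 11, nat_lit 8, nat_lit 7], [nat_lit 7, nat_lit 2, nat_lit 0, nat_lit 1, nat_lit 2]) ::
  ([nat_lit 11, nat_lit 9, nat_lit 8], [nat_lit 2, nat_lit 0, nat_lit 4, nat_lit 1]) ::
  ([nat_lit 8, nat_lit 11, nat_lit 8], [nat_lit 0, nat_lit 4, nat_lit 1]) ::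
  ([nat_lit 9, nat_lit 11, nat_lit 8], [nat_lit 0, nat_lit 2, nat_lit 5, nat_lit 1]) ::
  ([nat_lit 7, nat_lit 8, nat_lit 9], [nat_lit 1, nat_lit 5, nat_lit 0]) ::
  ([nat_lit 7, nat_lit 10, nat_lit 9], [nat_lit 1, nat_lit 0, nat_lit 2]) ::
  ([nat_lit 9, nat_lit 10, nat_lit 9], [nat_lit 0, nat_lit 1, nat_lit 5]) ::
  ([nat_lit 7, nat_lit 8, nat_lit 7, nat_lit 3], [nat_lit 4, nat_lit 1, nat_lit 0, nat_lit 7]) ::
  ([nat_lit 9, nat_lit 8, nat_lit 7, nat_lit 3], [nat_lit 0, nat_lit 4, nat_lit 1]) ::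
  ([nat_lit 8, nat_lit 7, nat_lit 8, nat_lit 3], [nat_lit 6, nat_lit 1, nat_lit 3, nat_lit 0]) ::
  ([nat_lit 9, nat_lit 8, nat_lit 9, nat_lit 3], [nat_lit 5, nat_lit 3, nat_lit 1, nat_lit 0]) ::
  ([nat_lit 8, nat_lit 9, nat_lit 10, nat_lit 3], [nat_lit 4, nat_lit 0, nat_lit 1]) ::
  ([nat_lit 8, nat_lit 9, nat_lit 1, nat_lit 7], [nat_lit 3, nat_lit 0, nat_lit 5, nat_lit 1, nat_lit 4]) ::
  ([nat_lit 8, nat_lit 7, nat_lit 10, nat_lit 9], [nat_lit 1, nat_lit 0, nat_lit 6, nat_lit 2, nat_lit 0]) ::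
  []
noncomputable def cbE1150 : List (List ℕ × ℕ × List ℕ × ℕ) :=
  ([nat_lit 2, nat_lit 2], (nat_lit 12), [], (nat_lit 996252374)) ::
  ([nat_lit 3, nat_lit 1, nat_lit 3, nat_lit 1], (nat_lit 12), [], (nat_lit 997376961)) ::
  ([nat_lit 2, nat_lit 3, nat_lit 4, nat_lit 3, nat_lit 1], (nat_lit 15), [], (nat_lit 998084024)) ::
  ([nat_lit 1, nat_lit 3, nat_lit 4], (nat_lit 14), [], (nat_lit 998412752)) ::
  ([nat_lit 4, nat_lit 2, nat_lit 3, nat_lit 1], (nat_lit 11), [], (nat_lit 999912877)) ::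
  []
noncomputable def cbE1100 : List (List ℕ × ℕ × List ℕ × ℕ) :=
  ([nat_lit 4, nat_lit 3], (nat_lit 6), [], (nat_lit 950984751)) ::
  ([nat_lit 4, nat_lit 1, nat_lit 3, nat_lit 2], (nat_lit 11), [], (nat_lit 951803622)) ::
  ([nat_lit 1, nat_lit 3], (nat_lit 10), [], (nat_lit 952378206)) ::
  ([nat_lit 2, nat_lit 2, nat_lit 3, nat_lit 2], (nat_lit 1), [], (nat_lit 956400858)) ::
  ([nat_lit 1, nat_lit 3, nat_lit 4, nat_lit 1], (nat_lit 9), [], (nat_lit 956405088)) ::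
  ([nat_lit 1, nat_lit 3, nat_lit 2, nat_lit 2], (nat_lit 21), [], (nat_lit 957485485)) ::
  ([nat_lit 4, nat_lit 1, nat_lit 3, nat_lit 1], (nat_lit 16), [], (nat_lit 958885726)) ::
  ([], (nat_lit 23), [], (nat_lit 962470270)) ::
  ([nat_lit 4, nat_lit 3, nat_lit 2, nat_lit 2], (nat_lit 5), [], (nat_lit 962545860)) ::
  ([nat_lit 4, nat_lit 1], (nat_lit 19), [], (nat_lit 962733370)) ::
  ([nat_lit 1, nat_lit 1, nat_lit 3], (nat_lit 17), [], (nat_lit 963363518)) ::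
  ([nat_lit 4, nat_lit 1], (nat_lit 21), [], (nat_lit 963510543)) ::
  ([nat_lit 3, nat_lit 1, nat_lit 3, nat_lit 4], (nat_lit 15), [], (nat_lit 964047027)) ::
  ([nat_lit 4, nat_lit 3, nat_lit 2, nat_lit 2], (nat_lit 9), [], (nat_lit 965584084)) ::
  ([nat_lit 2, nat_lit 2, nat_lit 3, nat_lit 2], (nat_lit 4), [], (nat_lit 966128527)) ::
  ([nat_lit 2], (nat_lit 4), [], (nat_lit 966996554)) ::
  ([nat_lit 2], (nat_lit 18), [], (nat_lit 967542546)) ::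
  ([nat_lit 1, nat_lit 3, nat_lit 2], (nat_lit 4), [], (nat_lit 968914254)) ::
  ([nat_lit 2, nat_lit 3, nat_lit 2, nat_lit 3], (nat_lit 9), [], (nat_lit 968996687)) ::
  ([nat_lit 2, nat_lit 3, nat_lit 1, nat_lit 3], (nat_lit 9), [], (nat_lit 969151723)) ::
  ([nat_lit 3, nat_lit 4, nat_lit 2], (nat_lit 7), [], (nat_lit 970464502)) ::
  ([nat_lit 1, nat_lit 3, nat_lit 1, nat_lit 1], (nat_lit 19), [], (nat_lit 972593696)) ::
  ([nat_lit 4, nat_lit 2, nat_lit 3], (nat_lit 14), [], (nat_lit 976766170)) ::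
  ([nat_lit 2, nat_lit 2], (nat_lit 9), [], (nat_lit 977702620)) ::
  ([nat_lit 1, nat_lit 3], (nat_lit 7), [], (nat_lit 978597454)) ::
  ([nat_lit 2, nat_lit 3, nat_lit 2, nat_lit 2], (nat_lit 3), [], (nat_lit 979169898)) ::
  ([], (nat_lit 19), [], (nat_lit 979530282)) ::
  ([nat_lit 1], (nat_lit 1), [], (nat_lit 981011547)) ::
  ([nat_lit 3], (nat_lit 5), [], (nat_lit 982282829)) ::
  ([nat_lit 4, nat_lit 1, nat_lit 3], (nat_lit 0), [], (nat_lit 982333199)) ::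
  ([nat_lit 2, nat_lit 2, nat_lit 3, nat_lit 1], (nat_lit 21), [], (nat_lit 982893531)) ::
  ([nat_lit 1, nat_lit 3, nat_lit 1, nat_lit 1], (nat_lit 12), [], (nat_lit 983248023)) ::
  ([nat_lit 4, nat_lit 1], (nat_lit 17), [], (nat_lit 983560467)) ::
  ([nat_lit 1, nat_lit 3, nat_lit 4, nat_lit 1], (nat_lit 15), [], (nat_lit 984095261)) ::
  ([nat_lit 4], (nat_lit 2), [], (nat_lit 984466554)) ::
  ([nat_lit 3, nat_lit 2, nat_lit 3], (nat_lit 18), [], (nat_lit 984578162)) ::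
  ([nat_lit 2, nat_lit 2, nat_lit 3], (nat_lit 2), [], (nat_lit 985531521)) ::
  ([nat_lit 4, nat_lit 3, nat_lit 2, nat_lit 3], (nat_lit 5), [], (nat_lit 987139717)) ::
  ([nat_lit 2, nat_lit 3, nat_lit 1, nat_lit 3], (nat_lit 20), [], (nat_lit 987269468)) ::
  ([nat_lit 2], (nat_lit 9), [], (nat_lit 988495056)) ::
  ([nat_lit 2], (nat_lit 17), [], (nat_lit 988745152)) ::
  ([nat_lit 4, nat_lit 3], (nat_lit 5), [], (nat_lit 988960863)) ::
  ([nat_lit 4, nat_lit 2], (nat_lit 9), [], (nat_lit 989057592)) ::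
  ([nat_lit 3, nat_lit 4], (nat_lit 6), [], (nat_lit 990924714)) ::
  ([nat_lit 3, nat_lit 1, nat_lit 1], (nat_lit 19), [], (nat_lit 991677044)) ::
  ([nat_lit 2, nat_lit 3, nat_lit 4, nat_lit 1], (nat_lit 10), [], (nat_lit 993143066)) ::
  ([nat_lit 2, nat_lit 3, nat_lit 1, nat_lit 1], (nat_lit 3), [], (nat_lit 994451126)) ::
  ([nat_lit 1, nat_lit 3, nat_lit 4], (nat_lit 11), [], (nat_lit 994453702)) ::
  ([nat_lit 3, nat_lit 1, nat_lit 3], (nat_lit 5), [], (nat_lit 994964950)) ::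
  ([nat_lit 2, nat_lit 3, nat_lit 2], (nat_lit 16), [], (nat_lit 995956522)) ::
  cbE1150
noncomputable def cbE1050 : List (List ℕ × ℕ × List ℕ × ℕ) :=
  ([nat_lit 4, nat_lit 1], (nat_lit 2), [], (nat_lit 913037756)) ::
  ([nat_lit 1, nat_lit 1, nat_lit 3], (nat_lit 21), [], (nat_lit 913310829)) ::
  ([nat_lit 2, nat_lit 3, nat_lit 4], (nat_lit 3), [], (nat_lit 913637034)) ::
  ([nat_lit 1, nat_lit 3, nat_lit 4, nat_lit 1], (nat_lit 16), [], (nat_lit 913754502)) ::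
  ([nat_lit 4, nat_lit 3], (nat_lit 16), [], (nat_lit 914668762)) ::
  ([nat_lit 4, nat_lit 3, nat_lit 2, nat_lit 3, nat_lit 1], (nat_lit 16), [], (nat_lit 915995403)) ::
  ([nat_lit 2, nat_lit 3, nat_lit 2, nat_lit 3, nat_lit 1], (nat_lit 16), [], (nat_lit 916049679)) ::
  ([nat_lit 3, nat_lit 2, nat_lit 3], (nat_lit 19), [], (nat_lit 916778451)) ::
  ([nat_lit 3, nat_lit 4, nat_lit 3], (nat_lit 10), [], (nat_lit 917108236)) ::
  ([nat_lit 2, nat_lit 2], (nat_lit 19), [], (nat_lit 917305373)) ::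
  ([nat_lit 3, nat_lit 2], (nat_lit 1), [], (nat_lit 918549648)) ::
  ([nat_lit 3, nat_lit 4], (nat_lit 12), [], (nat_lit 919880415)) ::
  ([nat_lit 4, nat_lit 3], (nat_lit 21), [], (nat_lit 920788732)) ::
  ([nat_lit 1], (nat_lit 22), [], (nat_lit 921976932)) ::
  ([nat_lit 3, nat_lit 2], (nat_lit 9), [], (nat_lit 922977976)) ::
  ([nat_lit 3], (nat_lit 0), [], (nat_lit 923270814)) ::
  ([nat_lit 3, nat_lit 2, nat_lit 3, nat_lit 2], (nat_lit 16), [], (nat_lit 923617688)) ::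
  ([nat_lit 1, nat_lit 3, nat_lit 2, nat_lit 2], (nat_lit 3), [], (nat_lit 924420591)) ::
  ([nat_lit 4, nat_lit 3, nat_lit 2], (nat_lit 18), [], (nat_lit 926530932)) ::
  ([], (nat_lit 22), [], (nat_lit 927135848)) ::
  ([nat_lit 3, nat_lit 2, nat_lit 2], (nat_lit 9), [], (nat_lit 928267995)) ::
  ([nat_lit 4, nat_lit 2, nat_lit 3], (nat_lit 20), [], (nat_lit 928781861)) ::
  ([nat_lit 2, nat_lit 3, nat_lit 4, nat_lit 3], (nat_lit 21), [], (nat_lit 929540565)) ::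
  ([nat_lit 3, nat_lit 1, nat_lit 3, nat_lit 1], (nat_lit 16), [], (nat_lit 930161040)) ::
  ([nat_lit 2, nat_lit 3, nat_lit 4, nat_lit 3, nat_lit 1], (nat_lit 9), [], (nat_lit 930468638)) ::
  ([nat_lit 3, nat_lit 4, nat_lit 2], (nat_lit 6), [], (nat_lit 930914168)) ::
  ([nat_lit 2, nat_lit 3, nat_lit 1, nat_lit 3], (nat_lit 19), [], (nat_lit 931854639)) ::
  ([nat_lit 4, nat_lit 2], (nat_lit 3), [], (nat_lit 931886130)) ::
  ([nat_lit 1, nat_lit 3, nat_lit 2, nat_lit 2], (nat_lit 4), [], (nat_lit 931912661)) ::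
  ([nat_lit 3, nat_lit 4, nat_lit 1], (nat_lit 16), [], (nat_lit 932555152)) ::
  ([nat_lit 3, nat_lit 2, nat_lit 3], (nat_lit 22), [], (nat_lit 932712211)) ::
  ([nat_lit 1, nat_lit 1], (nat_lit 2), [], (nat_lit 935076285)) ::
  ([nat_lit 4, nat_lit 3, nat_lit 2, nat_lit 3], (nat_lit 17), [], (nat_lit 935270317)) ::
  ([nat_lit 1, nat_lit 3], (nat_lit 16), [], (nat_lit 940072037)) ::
  ([nat_lit 1, nat_lit 3, nat_lit 4], (nat_lit 21), [], (nat_lit 940145944)) ::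
  ([nat_lit 3, nat_lit 4, nat_lit 2], (nat_lit 5), [], (nat_lit 940668683)) ::
  ([nat_lit 4, nat_lit 1], (nat_lit 15), [], (nat_lit 940793136)) ::
  ([nat_lit 4], (nat_lit 17), [], (nat_lit 941642613)) ::
  ([nat_lit 2, nat_lit 2], (nat_lit 10), [], (nat_lit 942222997)) ::
  ([nat_lit 2, nat_lit 3], (nat_lit 2), [], (nat_lit 943056931)) ::
  ([nat_lit 4, nat_lit 1, nat_lit 3], (nat_lit 3), [], (nat_lit 943354080)) ::
  ([nat_lit 4, nat_lit 3, nat_lit 2], (nat_lit 13), [], (nat_lit 944359087)) ::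
  ([nat_lit 1, nat_lit 3, nat_lit 4, nat_lit 2], (nat_lit 5), [], (nat_lit 946001458)) ::
  ([nat_lit 1, nat_lit 3, nat_lit 1, nat_lit 1], (nat_lit 6), [], (nat_lit 946792575)) ::
  ([nat_lit 3, nat_lit 2, nat_lit 3], (nat_lit 9), [], (nat_lit 947053129)) ::
  ([nat_lit 3, nat_lit 2, nat_lit 2], (nat_lit 20), [], (nat_lit 947230852)) ::
  ([nat_lit 3, nat_lit 4, nat_lit 3], (nat_lit 15), [], (nat_lit 948485908)) ::
  ([nat_lit 4, nat_lit 3, nat_lit 2], (nat_lit 6), [], (nat_lit 949597334)) ::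
  ([nat_lit 3, nat_lit 4, nat_lit 1], (nat_lit 5), [], (nat_lit 950704676)) ::
  ([nat_lit 3, nat_lit 4], (nat_lit 14), [], (nat_lit 950850869)) ::
  cbE1100
noncomputable def cbE1000 : List (List ℕ × ℕ × List ℕ × ℕ) :=
  ([nat_lit 1], (nat_lit 7), [], (nat_lit 870576601)) ::
  ([nat_lit 1, nat_lit 3], (nat_lit 8), [], (nat_lit 870671072)) ::
  ([nat_lit 3, nat_lit 1, nat_lit 3, nat_lit 1], (nat_lit 11), [], (nat_lit 870715056)) ::
  ([nat_lit 4, nat_lit 3, nat_lit 1, nat_lit 1], (nat_lit 5), [], (nat_lit 871262624)) ::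
  ([nat_lit 3, nat_lit 4, nat_lit 1], (nat_lit 3), [], (nat_lit 871955595)) ::
  ([nat_lit 3, nat_lit 2], (nat_lit 23), [], (nat_lit 873548480)) ::
  ([nat_lit 4, nat_lit 3], (nat_lit 2), [], (nat_lit 873838875)) ::
  ([nat_lit 2, nat_lit 2], (nat_lit 22), [], (nat_lit 874101794)) ::
  ([nat_lit 4, nat_lit 1], (nat_lit 16), [], (nat_lit 875297352)) ::
  ([nat_lit 1, nat_lit 1], (nat_lit 4), [], (nat_lit 876492627)) ::
  ([nat_lit 1, nat_lit 1, nat_lit 3, nat_lit 1], (nat_lit 16), [], (nat_lit 876898842)) ::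
  ([nat_lit 1, nat_lit 1, nat_lit 3, nat_lit 4], (nat_lit 5), [], (nat_lit 877236745)) ::
  ([nat_lit 3, nat_lit 4, nat_lit 3, nat_lit 1], (nat_lit 7), [], (nat_lit 878781854)) ::
  ([nat_lit 2, nat_lit 2, nat_lit 3, nat_lit 1], (nat_lit 5), [], (nat_lit 880131741)) ::
  ([nat_lit 4, nat_lit 3, nat_lit 1], (nat_lit 6), [], (nat_lit 880873479)) ::
  ([nat_lit 4, nat_lit 1, nat_lit 3, nat_lit 1, nat_lit 1], (nat_lit 4), [], (nat_lit 881594420)) ::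
  ([nat_lit 4, nat_lit 2, nat_lit 3, nat_lit 1], (nat_lit 21), [], (nat_lit 883682112)) ::
  ([nat_lit 4, nat_lit 3, nat_lit 1, nat_lit 1], (nat_lit 18), [], (nat_lit 884765267)) ::
  ([nat_lit 2, nat_lit 2, nat_lit 3, nat_lit 1], (nat_lit 15), [], (nat_lit 885083811)) ::
  ([nat_lit 3, nat_lit 2], (nat_lit 6), [], (nat_lit 885499633)) ::
  ([nat_lit 4], (nat_lit 20), [], (nat_lit 887102874)) ::
  ([nat_lit 4, nat_lit 3, nat_lit 2], (nat_lit 3), [], (nat_lit 888973171)) ::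
  ([nat_lit 4, nat_lit 2], (nat_lit 18), [], (nat_lit 890359597)) ::
  ([nat_lit 3, nat_lit 4, nat_lit 2], (nat_lit 11), [], (nat_lit 890820418)) ::
  ([nat_lit 2, nat_lit 2, nat_lit 3], (nat_lit 5), [], (nat_lit 891071444)) ::
  ([nat_lit 3, nat_lit 4, nat_lit 3, nat_lit 1], (nat_lit 4), [], (nat_lit 892319296)) ::
  ([nat_lit 2, nat_lit 2, nat_lit 3, nat_lit 1], (nat_lit 9), [], (nat_lit 892729032)) ::
  ([nat_lit 2, nat_lit 3, nat_lit 2], (nat_lit 12), [], (nat_lit 893023255)) ::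
  ([nat_lit 4, nat_lit 1, nat_lit 3], (nat_lit 19), [], (nat_lit 893034845)) ::
  ([nat_lit 3, nat_lit 1, nat_lit 3, nat_lit 4], (nat_lit 4), [], (nat_lit 893472002)) ::
  ([nat_lit 3, nat_lit 1, nat_lit 1], (nat_lit 9), [], (nat_lit 894569100)) ::
  ([nat_lit 2, nat_lit 2, nat_lit 3], (nat_lit 22), [], (nat_lit 895681974)) ::
  ([nat_lit 2, nat_lit 2], (nat_lit 14), [], (nat_lit 896640232)) ::
  ([nat_lit 3, nat_lit 1, nat_lit 3], (nat_lit 15), [], (nat_lit 896680502)) ::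
  ([nat_lit 4, nat_lit 1, nat_lit 3], (nat_lit 20), [], (nat_lit 897714968)) ::
  ([nat_lit 4], (nat_lit 22), [], (nat_lit 898059797)) ::
  ([nat_lit 3, nat_lit 2, nat_lit 3, nat_lit 2], (nat_lit 11), [], (nat_lit 898596903)) ::
  ([nat_lit 1], (nat_lit 19), [], (nat_lit 899177676)) ::
  ([nat_lit 3, nat_lit 1], (nat_lit 24), [], (nat_lit 899726152)) ::
  ([nat_lit 1, nat_lit 3, nat_lit 4, nat_lit 1], (nat_lit 12), [], (nat_lit 900180506)) ::
  ([nat_lit 2, nat_lit 2, nat_lit 3, nat_lit 2], (nat_lit 15), [], (nat_lit 902392138)) ::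
  ([nat_lit 1, nat_lit 1], (nat_lit 9), [], (nat_lit 905549432)) ::
  ([nat_lit 1, nat_lit 3, nat_lit 4, nat_lit 3], (nat_lit 15), [], (nat_lit 905606378)) ::
  ([nat_lit 4, nat_lit 2, nat_lit 3, nat_lit 2], (nat_lit 3), [], (nat_lit 905671809)) ::
  ([nat_lit 3], (nat_lit 2), [], (nat_lit 906152585)) ::
  ([nat_lit 4, nat_lit 1, nat_lit 3], (nat_lit 1), [], (nat_lit 906678217)) ::
  ([nat_lit 2, nat_lit 3, nat_lit 2, nat_lit 3], (nat_lit 6), [], (nat_lit 907517007)) ::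
  ([nat_lit 1, nat_lit 3, nat_lit 2, nat_lit 2], (nat_lit 15), [], (nat_lit 908253200)) ::
  ([nat_lit 4, nat_lit 1, nat_lit 3], (nat_lit 14), [], (nat_lit 910951210)) ::
  ([nat_lit 3, nat_lit 2, nat_lit 3, nat_lit 1], (nat_lit 10), [], (nat_lit 911737060)) ::
  cbE1050
noncomputable def cbE950 : List (List ℕ × ℕ × List ℕ × ℕ) :=
  ([nat_lit 3, nat_lit 1], (nat_lit 13), [], (nat_lit 824853483)) ::
  ([], (nat_lit 21), [], (nat_lit 825040289)) ::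
  ([nat_lit 1, nat_lit 3, nat_lit 1], (nat_lit 5), [], (nat_lit 826588230)) ::
  ([nat_lit 1, nat_lit 3, nat_lit 2, nat_lit 2], (nat_lit 6), [], (nat_lit 827366804)) ::
  ([nat_lit 2, nat_lit 3, nat_lit 2], (nat_lit 21), [], (nat_lit 828288462)) ::
  ([nat_lit 4, nat_lit 3, nat_lit 1], (nat_lit 10), [], (nat_lit 828736478)) ::
  ([nat_lit 4, nat_lit 2], (nat_lit 4), [], (nat_lit 829678581)) ::
  ([nat_lit 1, nat_lit 3, nat_lit 4], (nat_lit 3), [], (nat_lit 829786969)) ::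
  ([nat_lit 4, nat_lit 3, nat_lit 1, nat_lit 1], (nat_lit 22), [], (nat_lit 829929153)) ::
  ([nat_lit 3, nat_lit 1, nat_lit 1], (nat_lit 5), [], (nat_lit 832888737)) ::
  ([nat_lit 3, nat_lit 4, nat_lit 3], (nat_lit 5), [], (nat_lit 833866703)) ::
  ([nat_lit 2, nat_lit 2], (nat_lit 16), [], (nat_lit 834316300)) ::
  ([nat_lit 4, nat_lit 1], (nat_lit 5), [], (nat_lit 837666127)) ::
  ([nat_lit 3, nat_lit 1, nat_lit 1], (nat_lit 7), [], (nat_lit 837916696)) ::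
  ([nat_lit 2, nat_lit 3, nat_lit 2, nat_lit 3, nat_lit 1], (nat_lit 12), [], (nat_lit 838698427)) ::
  ([nat_lit 1, nat_lit 3, nat_lit 4], (nat_lit 5), [], (nat_lit 838985706)) ::
  ([nat_lit 2, nat_lit 2, nat_lit 3, nat_lit 2], (nat_lit 19), [], (nat_lit 840802477)) ::
  ([nat_lit 2, nat_lit 3, nat_lit 2, nat_lit 3], (nat_lit 21), [], (nat_lit 842293061)) ::
  ([nat_lit 3, nat_lit 2, nat_lit 2], (nat_lit 14), [], (nat_lit 842536682)) ::
  ([nat_lit 2], (nat_lit 11), [], (nat_lit 842785575)) ::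
  ([], (nat_lit 10), [], (nat_lit 843184772)) ::
  ([nat_lit 2, nat_lit 2, nat_lit 3, nat_lit 2], (nat_lit 3), [], (nat_lit 844734139)) ::
  ([nat_lit 1, nat_lit 1], (nat_lit 11), [], (nat_lit 845031115)) ::
  ([nat_lit 3, nat_lit 2], (nat_lit 14), [], (nat_lit 845109052)) ::
  ([nat_lit 1, nat_lit 3, nat_lit 2], (nat_lit 21), [], (nat_lit 845704856)) ::
  ([nat_lit 3, nat_lit 2, nat_lit 3, nat_lit 2], (nat_lit 21), [], (nat_lit 847237525)) ::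
  ([nat_lit 3, nat_lit 4, nat_lit 3], (nat_lit 19), [], (nat_lit 849625477)) ::
  ([nat_lit 2, nat_lit 3, nat_lit 1, nat_lit 3], (nat_lit 15), [], (nat_lit 849794896)) ::
  ([nat_lit 4, nat_lit 3, nat_lit 1, nat_lit 1], (nat_lit 19), [], (nat_lit 849827971)) ::
  ([nat_lit 4, nat_lit 2, nat_lit 3], (nat_lit 9), [], (nat_lit 851455309)) ::
  ([nat_lit 1, nat_lit 1], (nat_lit 5), [], (nat_lit 852128823)) ::
  ([nat_lit 1, nat_lit 1], (nat_lit 13), [], (nat_lit 853492265)) ::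
  ([nat_lit 3, nat_lit 4, nat_lit 2], (nat_lit 9), [], (nat_lit 854205648)) ::
  ([nat_lit 4, nat_lit 2, nat_lit 3, nat_lit 1], (nat_lit 15), [], (nat_lit 855812367)) ::
  ([nat_lit 3, nat_lit 2, nat_lit 3, nat_lit 2, nat_lit 2], (nat_lit 10), [], (nat_lit 855861846)) ::
  ([nat_lit 3, nat_lit 1, nat_lit 3], (nat_lit 16), [], (nat_lit 856581792)) ::
  ([nat_lit 3, nat_lit 2, nat_lit 3, nat_lit 1], (nat_lit 13), [], (nat_lit 857212735)) ::
  ([nat_lit 4, nat_lit 1], (nat_lit 18), [], (nat_lit 857259020)) ::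
  ([nat_lit 1], (nat_lit 9), [], (nat_lit 859565962)) ::
  ([nat_lit 3, nat_lit 1, nat_lit 1], (nat_lit 4), [], (nat_lit 860760647)) ::
  ([nat_lit 4, nat_lit 3, nat_lit 2, nat_lit 2], (nat_lit 6), [], (nat_lit 861056670)) ::
  ([nat_lit 3, nat_lit 4], (nat_lit 24), [], (nat_lit 861737978)) ::
  ([nat_lit 3, nat_lit 1, nat_lit 3], (nat_lit 3), [], (nat_lit 862451700)) ::
  ([nat_lit 3, nat_lit 1, nat_lit 3, nat_lit 4], (nat_lit 11), [], (nat_lit 863404677)) ::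
  ([nat_lit 1, nat_lit 3, nat_lit 4, nat_lit 2], (nat_lit 19), [], (nat_lit 864260796)) ::
  ([nat_lit 2, nat_lit 3, nat_lit 4, nat_lit 2], (nat_lit 6), [], (nat_lit 864469125)) ::
  ([nat_lit 1, nat_lit 3], (nat_lit 22), [], (nat_lit 866783268)) ::
  ([nat_lit 2, nat_lit 3, nat_lit 1, nat_lit 1], (nat_lit 20), [], (nat_lit 867250245)) ::
  ([nat_lit 1], (nat_lit 23), [], (nat_lit 867876117)) ::
  ([nat_lit 4, nat_lit 2, nat_lit 3], (nat_lit 6), [], (nat_lit 869364559)) ::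
  cbE1000
noncomputable def cbE900 : List (List ℕ × ℕ × List ℕ × ℕ) :=
  ([nat_lit 2, nat_lit 3, nat_lit 1, nat_lit 1], (nat_lit 21), [], (nat_lit 783828253)) ::
  ([nat_lit 1, nat_lit 1], (nat_lit 12), [], (nat_lit 783845086)) ::
  ([nat_lit 4, nat_lit 3, nat_lit 2, nat_lit 3, nat_lit 1], (nat_lit 5), [], (nat_lit 784121706)) ::
  ([nat_lit 3, nat_lit 1], (nat_lit 3), [], (nat_lit 786302351)) ::
  ([nat_lit 3, nat_lit 2], (nat_lit 24), [], (nat_lit 787770350)) ::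
  ([nat_lit 1, nat_lit 3, nat_lit 2, nat_lit 2], (nat_lit 8), [], (nat_lit 787810736)) ::
  ([nat_lit 1, nat_lit 3], (nat_lit 6), [], (nat_lit 788298734)) ::
  ([], (nat_lit 6), [], (nat_lit 789181741)) ::
  ([nat_lit 4], (nat_lit 10), [], (nat_lit 790221753)) ::
  ([nat_lit 3, nat_lit 4, nat_lit 2], (nat_lit 21), [], (nat_lit 790489180)) ::
  ([nat_lit 1, nat_lit 3, nat_lit 2], (nat_lit 3), [], (nat_lit 790763780)) ::
  ([nat_lit 3, nat_lit 4, nat_lit 2], (nat_lit 19), [], (nat_lit 790855988)) ::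
  ([nat_lit 3, nat_lit 2, nat_lit 3, nat_lit 1], (nat_lit 16), [], (nat_lit 792106882)) ::
  ([nat_lit 1, nat_lit 3, nat_lit 4, nat_lit 3, nat_lit 2], (nat_lit 3), [], (nat_lit 794590223)) ::
  ([nat_lit 3, nat_lit 4, nat_lit 3, nat_lit 2], (nat_lit 11), [], (nat_lit 795491043)) ::
  ([], (nat_lit 17), [], (nat_lit 795975009)) ::
  ([nat_lit 1, nat_lit 3, nat_lit 4], (nat_lit 12), [], (nat_lit 796255755)) ::
  ([nat_lit 4, nat_lit 1, nat_lit 3, nat_lit 1, nat_lit 1], (nat_lit 21), [], (nat_lit 796361510)) ::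
  ([nat_lit 4, nat_lit 1], (nat_lit 11), [], (nat_lit 796452288)) ::
  ([nat_lit 4, nat_lit 3, nat_lit 2], (nat_lit 9), [], (nat_lit 796688166)) ::
  ([nat_lit 1], (nat_lit 20), [], (nat_lit 798162495)) ::
  ([nat_lit 1, nat_lit 3, nat_lit 1], (nat_lit 15), [], (nat_lit 801610125)) ::
  ([nat_lit 3, nat_lit 4, nat_lit 3, nat_lit 2], (nat_lit 15), [], (nat_lit 803936420)) ::
  ([nat_lit 3, nat_lit 1], (nat_lit 9), [], (nat_lit 804769441)) ::
  ([nat_lit 4, nat_lit 3, nat_lit 1], (nat_lit 1), [], (nat_lit 806158692)) ::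
  ([nat_lit 4, nat_lit 3, nat_lit 2], (nat_lit 11), [], (nat_lit 806455148)) ::
  ([nat_lit 1, nat_lit 1, nat_lit 3], (nat_lit 10), [], (nat_lit 810830646)) ::
  ([nat_lit 4, nat_lit 1, nat_lit 3, nat_lit 1, nat_lit 1], (nat_lit 9), [], (nat_lit 811395759)) ::
  ([nat_lit 2, nat_lit 3, nat_lit 4, nat_lit 1], (nat_lit 7), [], (nat_lit 811521284)) ::
  ([nat_lit 4, nat_lit 2, nat_lit 3], (nat_lit 15), [], (nat_lit 811613252)) ::
  ([nat_lit 1, nat_lit 3, nat_lit 4, nat_lit 3, nat_lit 2], (nat_lit 6), [], (nat_lit 811935498)) ::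
  ([nat_lit 2, nat_lit 3, nat_lit 2, nat_lit 2], (nat_lit 21), [], (nat_lit 812776516)) ::
  ([nat_lit 2, nat_lit 2, nat_lit 3], (nat_lit 6), [], (nat_lit 812956445)) ::
  ([nat_lit 3], (nat_lit 21), [], (nat_lit 813120070)) ::
  ([nat_lit 1, nat_lit 1], (nat_lit 8), [], (nat_lit 814328635)) ::
  ([nat_lit 2, nat_lit 3, nat_lit 2, nat_lit 3, nat_lit 1], (nat_lit 4), [], (nat_lit 814634939)) ::
  ([nat_lit 1, nat_lit 1, nat_lit 3, nat_lit 4], (nat_lit 3), [], (nat_lit 814992739)) ::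
  ([nat_lit 1, nat_lit 3, nat_lit 4, nat_lit 2], (nat_lit 7), [], (nat_lit 815193041)) ::
  ([nat_lit 3, nat_lit 4, nat_lit 3], (nat_lit 7), [], (nat_lit 816080398)) ::
  ([nat_lit 4, nat_lit 3, nat_lit 2, nat_lit 3, nat_lit 1], (nat_lit 10), [], (nat_lit 816802244)) ::
  ([nat_lit 2, nat_lit 3, nat_lit 2], (nat_lit 10), [], (nat_lit 816804212)) ::
  ([nat_lit 4, nat_lit 3, nat_lit 2, nat_lit 2], (nat_lit 10), [], (nat_lit 818916256)) ::
  ([nat_lit 2, nat_lit 3], (nat_lit 0), [], (nat_lit 819863776)) ::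
  ([nat_lit 1, nat_lit 3, nat_lit 1], (nat_lit 17), [], (nat_lit 820050408)) ::
  ([nat_lit 1, nat_lit 3, nat_lit 2, nat_lit 2], (nat_lit 9), [], (nat_lit 821657121)) ::
  ([nat_lit 3, nat_lit 1, nat_lit 3], (nat_lit 1), [], (nat_lit 822562772)) ::
  ([nat_lit 2, nat_lit 3, nat_lit 1, nat_lit 3], (nat_lit 7), [], (nat_lit 823130641)) ::
  ([nat_lit 1, nat_lit 1], (nat_lit 24), [], (nat_lit 823693918)) ::
  ([nat_lit 2, nat_lit 2, nat_lit 3], (nat_lit 4), [], (nat_lit 824364383)) ::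
  ([nat_lit 2], (nat_lit 23), [], (nat_lit 824583895)) ::
  cbE950
noncomputable def cbE850 : List (List ℕ × ℕ × List ℕ × ℕ) :=
  ([nat_lit 4, nat_lit 1, nat_lit 3, nat_lit 1], (nat_lit 12), [], (nat_lit 734034726)) ::
  ([nat_lit 2, nat_lit 3, nat_lit 4, nat_lit 1], (nat_lit 22), [], (nat_lit 735751757)) ::
  ([nat_lit 2, nat_lit 3], (nat_lit 1), [], (nat_lit 738729653)) ::
  ([nat_lit 3, nat_lit 4, nat_lit 1], (nat_lit 10), [], (nat_lit 738890628)) ::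
  ([nat_lit 1, nat_lit 1, nat_lit 3, nat_lit 4], (nat_lit 21), [], (nat_lit 739041162)) ::
  ([nat_lit 3, nat_lit 1, nat_lit 3, nat_lit 1], (nat_lit 10), [], (nat_lit 740358376)) ::
  ([nat_lit 3, nat_lit 1, nat_lit 1], (nat_lit 24), [], (nat_lit 740520781)) ::
  ([nat_lit 4, nat_lit 2], (nat_lit 2), [], (nat_lit 741956092)) ::
  ([nat_lit 3, nat_lit 1, nat_lit 3], (nat_lit 4), [], (nat_lit 741963439)) ::
  ([nat_lit 3], (nat_lit 1), [], (nat_lit 743485545)) ::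
  ([nat_lit 1, nat_lit 1], (nat_lit 6), [], (nat_lit 744777148)) ::
  ([nat_lit 4, nat_lit 3, nat_lit 1], (nat_lit 5), [], (nat_lit 744909616)) ::
  ([nat_lit 3, nat_lit 2, nat_lit 3], (nat_lit 5), [], (nat_lit 746508422)) ::
  ([nat_lit 1, nat_lit 3, nat_lit 1, nat_lit 1], (nat_lit 15), [], (nat_lit 747524438)) ::
  ([nat_lit 1, nat_lit 3, nat_lit 4, nat_lit 2], (nat_lit 16), [], (nat_lit 750209741)) ::
  ([nat_lit 4, nat_lit 1, nat_lit 3, nat_lit 2], (nat_lit 6), [], (nat_lit 750941687)) ::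
  ([nat_lit 2, nat_lit 2], (nat_lit 7), [], (nat_lit 751156135)) ::
  ([nat_lit 2, nat_lit 3, nat_lit 1, nat_lit 3], (nat_lit 3), [], (nat_lit 751299816)) ::
  ([nat_lit 4, nat_lit 1, nat_lit 3, nat_lit 1, nat_lit 1], (nat_lit 10), [], (nat_lit 751484346)) ::
  ([nat_lit 3, nat_lit 2, nat_lit 3], (nat_lit 12), [], (nat_lit 751858628)) ::
  ([nat_lit 1, nat_lit 3, nat_lit 1, nat_lit 1], (nat_lit 5), [], (nat_lit 752409416)) ::
  ([nat_lit 2, nat_lit 3, nat_lit 1], (nat_lit 10), [], (nat_lit 753703833)) ::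
  ([nat_lit 2, nat_lit 3, nat_lit 1, nat_lit 1], (nat_lit 18), [], (nat_lit 754550287)) ::
  ([nat_lit 3, nat_lit 2, nat_lit 3, nat_lit 2, nat_lit 2], (nat_lit 21), [], (nat_lit 754850121)) ::
  ([nat_lit 4, nat_lit 3, nat_lit 2, nat_lit 3], (nat_lit 15), [], (nat_lit 756661242)) ::
  ([nat_lit 3, nat_lit 4, nat_lit 3], (nat_lit 20), [], (nat_lit 756798310)) ::
  ([nat_lit 3, nat_lit 2], (nat_lit 22), [], (nat_lit 758281492)) ::
  ([nat_lit 3], (nat_lit 12), [], (nat_lit 759619913)) ::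
  ([nat_lit 1, nat_lit 1, nat_lit 3, nat_lit 4], (nat_lit 6), [], (nat_lit 762710458)) ::
  ([nat_lit 3, nat_lit 1], (nat_lit 21), [], (nat_lit 764287935)) ::
  ([nat_lit 3, nat_lit 1, nat_lit 1], (nat_lit 17), [], (nat_lit 764464424)) ::
  ([nat_lit 3, nat_lit 1], (nat_lit 6), [], (nat_lit 764880923)) ::
  ([nat_lit 2, nat_lit 3, nat_lit 4, nat_lit 1], (nat_lit 16), [], (nat_lit 765842050)) ::
  ([nat_lit 2, nat_lit 2, nat_lit 3, nat_lit 1, nat_lit 1], (nat_lit 12), [], (nat_lit 767190299)) ::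
  ([nat_lit 2, nat_lit 3, nat_lit 1, nat_lit 3], (nat_lit 6), [], (nat_lit 767451856)) ::
  ([nat_lit 4, nat_lit 1, nat_lit 3, nat_lit 1], (nat_lit 10), [], (nat_lit 768799613)) ::
  ([nat_lit 4], (nat_lit 15), [], (nat_lit 769181176)) ::
  ([nat_lit 1, nat_lit 3, nat_lit 4, nat_lit 2], (nat_lit 11), [], (nat_lit 769643642)) ::
  ([nat_lit 2, nat_lit 3, nat_lit 4, nat_lit 1], (nat_lit 21), [], (nat_lit 769807492)) ::
  ([nat_lit 2, nat_lit 3, nat_lit 4, nat_lit 1], (nat_lit 4), [], (nat_lit 772013291)) ::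
  ([nat_lit 3, nat_lit 1], (nat_lit 11), [], (nat_lit 773382107)) ::
  ([nat_lit 2, nat_lit 3, nat_lit 4, nat_lit 1], (nat_lit 18), [], (nat_lit 773983875)) ::
  ([nat_lit 1, nat_lit 3], (nat_lit 21), [], (nat_lit 775170231)) ::
  ([nat_lit 3, nat_lit 1, nat_lit 1], (nat_lit 1), [], (nat_lit 775328948)) ::
  ([nat_lit 1, nat_lit 3, nat_lit 4, nat_lit 3], (nat_lit 4), [], (nat_lit 775331808)) ::
  ([nat_lit 3, nat_lit 2], (nat_lit 3), [], (nat_lit 775493886)) ::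
  ([nat_lit 1, nat_lit 3, nat_lit 4, nat_lit 3, nat_lit 2], (nat_lit 10), [], (nat_lit 775750827)) ::
  ([nat_lit 3], (nat_lit 19), [], (nat_lit 777221889)) ::
  ([nat_lit 3, nat_lit 4], (nat_lit 16), [], (nat_lit 777493490)) ::
  ([nat_lit 1, nat_lit 3, nat_lit 4, nat_lit 1], (nat_lit 22), [], (nat_lit 778226366)) ::
  cbE900
noncomputable def cbE800 : List (List ℕ × ℕ × List ℕ × ℕ) :=
  ([nat_lit 2, nat_lit 2], (nat_lit 2), [], (nat_lit 687607271)) ::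
  ([nat_lit 3, nat_lit 4, nat_lit 3, nat_lit 1], (nat_lit 11), [], (nat_lit 689605407)) ::
  ([nat_lit 2], (nat_lit 1), [], (nat_lit 690919778)) ::
  ([nat_lit 3, nat_lit 4, nat_lit 1], (nat_lit 7), [], (nat_lit 691593938)) ::
  ([nat_lit 2, nat_lit 3, nat_lit 2, nat_lit 2], (nat_lit 6), [], (nat_lit 691974387)) ::
  ([nat_lit 3, nat_lit 4], (nat_lit 9), [], (nat_lit 692741256)) ::
  ([nat_lit 4, nat_lit 1], (nat_lit 22), [], (nat_lit 693915471)) ::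
  ([nat_lit 3, nat_lit 1, nat_lit 3], (nat_lit 21), [], (nat_lit 694950662)) ::
  ([nat_lit 2, nat_lit 3], (nat_lit 3), [], (nat_lit 695112520)) ::
  ([nat_lit 4, nat_lit 3, nat_lit 1, nat_lit 1], (nat_lit 16), [], (nat_lit 696113245)) ::
  ([nat_lit 3], (nat_lit 7), [], (nat_lit 697209930)) ::
  ([nat_lit 1, nat_lit 3, nat_lit 2], (nat_lit 12), [], (nat_lit 697313981)) ::
  ([nat_lit 4, nat_lit 1, nat_lit 3], (nat_lit 4), [], (nat_lit 698398429)) ::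
  ([nat_lit 3, nat_lit 4, nat_lit 1], (nat_lit 11), [], (nat_lit 699426558)) ::
  ([nat_lit 1, nat_lit 3, nat_lit 4, nat_lit 2], (nat_lit 4), [], (nat_lit 699967631)) ::
  ([nat_lit 1, nat_lit 3, nat_lit 4, nat_lit 3, nat_lit 2], (nat_lit 15), [], (nat_lit 700713838)) ::
  ([nat_lit 2, nat_lit 3, nat_lit 2], (nat_lit 7), [], (nat_lit 701698702)) ::
  ([nat_lit 3, nat_lit 1], (nat_lit 18), [], (nat_lit 701969275)) ::
  ([nat_lit 4, nat_lit 3], (nat_lit 3), [], (nat_lit 703369097)) ::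
  ([nat_lit 3, nat_lit 4, nat_lit 3, nat_lit 2], (nat_lit 6), [], (nat_lit 703686546)) ::
  ([nat_lit 4, nat_lit 2], (nat_lit 12), [], (nat_lit 704919943)) ::
  ([nat_lit 4, nat_lit 1], (nat_lit 14), [], (nat_lit 705642907)) ::
  ([nat_lit 3, nat_lit 1], (nat_lit 4), [], (nat_lit 707205910)) ::
  ([nat_lit 3, nat_lit 4, nat_lit 2], (nat_lit 18), [], (nat_lit 707376009)) ::
  ([nat_lit 3, nat_lit 4, nat_lit 3], (nat_lit 21), [], (nat_lit 707627719)) ::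
  ([nat_lit 2, nat_lit 3, nat_lit 2, nat_lit 2], (nat_lit 5), [], (nat_lit 707872036)) ::
  ([nat_lit 3, nat_lit 2], (nat_lit 13), [], (nat_lit 710469644)) ::
  ([nat_lit 4, nat_lit 3, nat_lit 2, nat_lit 2], (nat_lit 15), [], (nat_lit 711355588)) ::
  ([nat_lit 3, nat_lit 4, nat_lit 3, nat_lit 1], (nat_lit 5), [], (nat_lit 711662909)) ::
  ([nat_lit 4, nat_lit 2], (nat_lit 11), [], (nat_lit 712243209)) ::
  ([nat_lit 1, nat_lit 3], (nat_lit 13), [], (nat_lit 712609229)) ::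
  ([nat_lit 4, nat_lit 3, nat_lit 2, nat_lit 2], (nat_lit 21), [], (nat_lit 713175403)) ::
  ([nat_lit 4, nat_lit 2], (nat_lit 17), [], (nat_lit 714614856)) ::
  ([nat_lit 4, nat_lit 2, nat_lit 3, nat_lit 1], (nat_lit 9), [], (nat_lit 715678509)) ::
  ([nat_lit 2, nat_lit 2, nat_lit 3], (nat_lit 21), [], (nat_lit 716489607)) ::
  ([nat_lit 1], (nat_lit 15), [], (nat_lit 716608778)) ::
  ([nat_lit 1, nat_lit 3, nat_lit 2], (nat_lit 16), [], (nat_lit 719003734)) ::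
  ([nat_lit 3, nat_lit 4], (nat_lit 10), [], (nat_lit 720975595)) ::
  ([nat_lit 2, nat_lit 3, nat_lit 4], (nat_lit 11), [], (nat_lit 721923326)) ::
  ([nat_lit 2, nat_lit 2, nat_lit 3], (nat_lit 14), [], (nat_lit 724227482)) ::
  ([nat_lit 1, nat_lit 3, nat_lit 2, nat_lit 2], (nat_lit 10), [], (nat_lit 724333241)) ::
  ([nat_lit 4], (nat_lit 11), [], (nat_lit 724848863)) ::
  ([nat_lit 1, nat_lit 1, nat_lit 3, nat_lit 2], (nat_lit 4), [], (nat_lit 724888677)) ::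
  ([nat_lit 2, nat_lit 3, nat_lit 1, nat_lit 3], (nat_lit 5), [], (nat_lit 725554623)) ::
  ([nat_lit 2, nat_lit 3, nat_lit 2, nat_lit 2], (nat_lit 4), [], (nat_lit 727472098)) ::
  ([nat_lit 3, nat_lit 1, nat_lit 1], (nat_lit 16), [], (nat_lit 728791829)) ::
  ([nat_lit 3, nat_lit 4, nat_lit 2], (nat_lit 8), [], (nat_lit 728800505)) ::
  ([nat_lit 2, nat_lit 3], (nat_lit 4), [], (nat_lit 731476011)) ::
  ([nat_lit 4, nat_lit 1, nat_lit 3, nat_lit 1], (nat_lit 7), [], (nat_lit 731631227)) ::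
  ([nat_lit 4, nat_lit 3, nat_lit 2, nat_lit 3], (nat_lit 21), [], (nat_lit 733942146)) ::
  cbE850
noncomputable def cbE750 : List (List ℕ × ℕ × List ℕ × ℕ) :=
  ([nat_lit 3], (nat_lit 10), [], (nat_lit 653098314)) ::
  ([nat_lit 3, nat_lit 1, nat_lit 3, nat_lit 4], (nat_lit 9), [], (nat_lit 654601532)) ::
  ([nat_lit 2, nat_lit 3, nat_lit 1], (nat_lit 1), [], (nat_lit 654920027)) ::
  ([nat_lit 4, nat_lit 3, nat_lit 2], (nat_lit 21), [], (nat_lit 655300131)) ::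
  ([nat_lit 3, nat_lit 2, nat_lit 2], (nat_lit 4), [], (nat_lit 655611030)) ::
  ([nat_lit 3, nat_lit 2, nat_lit 2], (nat_lit 2), [], (nat_lit 656088874)) ::
  ([nat_lit 3, nat_lit 1, nat_lit 3, nat_lit 1], (nat_lit 6), [], (nat_lit 656574141)) ::
  ([nat_lit 2, nat_lit 3, nat_lit 1, nat_lit 3, nat_lit 1], (nat_lit 10), [], (nat_lit 656693144)) ::
  ([nat_lit 1, nat_lit 3, nat_lit 1], (nat_lit 7), [], (nat_lit 657344492)) ::
  ([nat_lit 3, nat_lit 2], (nat_lit 10), [], (nat_lit 657953505)) ::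
  ([nat_lit 2, nat_lit 3, nat_lit 1, nat_lit 1], (nat_lit 17), [], (nat_lit 658126770)) ::
  ([nat_lit 1, nat_lit 3, nat_lit 4, nat_lit 3], (nat_lit 12), [], (nat_lit 660661312)) ::
  ([nat_lit 2, nat_lit 2, nat_lit 3, nat_lit 2], (nat_lit 5), [], (nat_lit 660928522)) ::
  ([nat_lit 3, nat_lit 4, nat_lit 3], (nat_lit 3), [], (nat_lit 661515655)) ::
  ([nat_lit 1, nat_lit 1, nat_lit 3, nat_lit 2], (nat_lit 1), [], (nat_lit 662701802)) ::
  ([nat_lit 2], (nat_lit 5), [], (nat_lit 663112783)) ::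
  ([nat_lit 3, nat_lit 2, nat_lit 2], (nat_lit 11), [], (nat_lit 663203134)) ::
  ([nat_lit 4, nat_lit 3, nat_lit 2, nat_lit 3, nat_lit 1], (nat_lit 21), [], (nat_lit 664258310)) ::
  ([nat_lit 1, nat_lit 1, nat_lit 3], (nat_lit 18), [], (nat_lit 664394484)) ::
  ([nat_lit 1], (nat_lit 18), [], (nat_lit 665181400)) ::
  ([nat_lit 3, nat_lit 4, nat_lit 2], (nat_lit 10), [], (nat_lit 665284410)) ::
  ([nat_lit 2, nat_lit 3, nat_lit 4, nat_lit 1], (nat_lit 15), [], (nat_lit 667178478)) ::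
  ([nat_lit 1, nat_lit 3], (nat_lit 15), [], (nat_lit 667244445)) ::
  ([nat_lit 3, nat_lit 2], (nat_lit 17), [], (nat_lit 667977560)) ::
  ([nat_lit 2, nat_lit 3, nat_lit 2], (nat_lit 19), [], (nat_lit 668087856)) ::
  ([nat_lit 4, nat_lit 2, nat_lit 3, nat_lit 1], (nat_lit 4), [], (nat_lit 668998367)) ::
  ([nat_lit 3, nat_lit 1, nat_lit 3], (nat_lit 9), [], (nat_lit 669824243)) ::
  ([nat_lit 1, nat_lit 3, nat_lit 1], (nat_lit 3), [], (nat_lit 670258451)) ::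
  ([nat_lit 1, nat_lit 3, nat_lit 4], (nat_lit 22), [], (nat_lit 671631054)) ::
  ([nat_lit 1, nat_lit 1, nat_lit 3, nat_lit 1], (nat_lit 18), [], (nat_lit 672780122)) ::
  ([nat_lit 2, nat_lit 3], (nat_lit 22), [], (nat_lit 676927523)) ::
  ([nat_lit 1, nat_lit 3, nat_lit 1, nat_lit 1], (nat_lit 13), [], (nat_lit 677873933)) ::
  ([nat_lit 3, nat_lit 4, nat_lit 3], (nat_lit 14), [], (nat_lit 678009444)) ::
  ([nat_lit 1, nat_lit 1, nat_lit 3, nat_lit 2], (nat_lit 10), [], (nat_lit 678380867)) ::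
  ([nat_lit 4], (nat_lit 12), [], (nat_lit 679088287)) ::
  ([nat_lit 4, nat_lit 1], (nat_lit 6), [], (nat_lit 681472433)) ::
  ([nat_lit 2, nat_lit 3, nat_lit 1], (nat_lit 9), [], (nat_lit 681847799)) ::
  ([nat_lit 2, nat_lit 3, nat_lit 4, nat_lit 3], (nat_lit 16), [], (nat_lit 681877588)) ::
  ([nat_lit 1, nat_lit 3, nat_lit 1, nat_lit 1], (nat_lit 11), [], (nat_lit 682221967)) ::
  ([nat_lit 3, nat_lit 2, nat_lit 3, nat_lit 2], (nat_lit 3), [], (nat_lit 682555311)) ::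
  ([nat_lit 3, nat_lit 4, nat_lit 3, nat_lit 2], (nat_lit 4), [], (nat_lit 683249418)) ::
  ([nat_lit 4, nat_lit 3, nat_lit 2, nat_lit 2], (nat_lit 12), [], (nat_lit 683858500)) ::
  ([nat_lit 1], (nat_lit 8), [], (nat_lit 684060932)) ::
  ([nat_lit 2, nat_lit 3, nat_lit 4, nat_lit 2], (nat_lit 4), [], (nat_lit 684656752)) ::
  ([nat_lit 2, nat_lit 3, nat_lit 2], (nat_lit 6), [], (nat_lit 684793558)) ::
  ([nat_lit 2, nat_lit 3, nat_lit 1], (nat_lit 11), [], (nat_lit 684888180)) ::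
  ([nat_lit 3, nat_lit 2, nat_lit 3, nat_lit 2, nat_lit 2], (nat_lit 16), [], (nat_lit 684896162)) ::
  ([nat_lit 2, nat_lit 3], (nat_lit 8), [], (nat_lit 684938876)) ::
  ([nat_lit 1, nat_lit 1, nat_lit 3, nat_lit 4], (nat_lit 10), [], (nat_lit 685138142)) ::
  ([nat_lit 3, nat_lit 4, nat_lit 3], (nat_lit 9), [], (nat_lit 687340637)) ::
  cbE800
noncomputable def cbE700 : List (List ℕ × ℕ × List ℕ × ℕ) :=
  ([nat_lit 4, nat_lit 3, nat_lit 1], (nat_lit 11), [], (nat_lit 610095120)) ::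
  ([nat_lit 2, nat_lit 2, nat_lit 3, nat_lit 1, nat_lit 1], (nat_lit 15), [], (nat_lit 611705741)) ::
  ([nat_lit 2, nat_lit 3, nat_lit 4], (nat_lit 7), [], (nat_lit 612518951)) ::
  ([nat_lit 3], (nat_lit 14), [], (nat_lit 613011792)) ::
  ([nat_lit 1, nat_lit 3, nat_lit 4, nat_lit 2], (nat_lit 9), [], (nat_lit 613970078)) ::
  ([nat_lit 1, nat_lit 3, nat_lit 2], (nat_lit 18), [], (nat_lit 614906686)) ::
  ([nat_lit 1, nat_lit 3], (nat_lit 9), [], (nat_lit 620080329)) ::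
  ([nat_lit 4], (nat_lit 19), [], (nat_lit 621521373)) ::
  ([nat_lit 4, nat_lit 3, nat_lit 2], (nat_lit 20), [], (nat_lit 623073502)) ::
  ([nat_lit 1, nat_lit 1], (nat_lit 19), [], (nat_lit 624757324)) ::
  ([nat_lit 4, nat_lit 1, nat_lit 3, nat_lit 1], (nat_lit 1), [], (nat_lit 625073242)) ::
  ([nat_lit 1, nat_lit 1, nat_lit 3, nat_lit 4], (nat_lit 4), [], (nat_lit 625165783)) ::
  ([nat_lit 2, nat_lit 3, nat_lit 2, nat_lit 2], (nat_lit 10), [], (nat_lit 625597394)) ::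
  ([nat_lit 3], (nat_lit 23), [], (nat_lit 625752180)) ::
  ([nat_lit 2, nat_lit 3, nat_lit 4, nat_lit 3, nat_lit 1], (nat_lit 10), [], (nat_lit 625930699)) ::
  ([nat_lit 4, nat_lit 3, nat_lit 2], (nat_lit 17), [], (nat_lit 625972069)) ::
  ([nat_lit 3], (nat_lit 4), [], (nat_lit 626593751)) ::
  ([nat_lit 4, nat_lit 2], (nat_lit 20), [], (nat_lit 626871586)) ::
  ([nat_lit 1, nat_lit 1, nat_lit 3, nat_lit 1], (nat_lit 4), [], (nat_lit 629371360)) ::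
  ([nat_lit 1, nat_lit 3, nat_lit 4], (nat_lit 9), [], (nat_lit 629593193)) ::
  ([nat_lit 3, nat_lit 4, nat_lit 3, nat_lit 2], (nat_lit 5), [], (nat_lit 630008763)) ::
  ([nat_lit 3, nat_lit 2, nat_lit 3, nat_lit 1], (nat_lit 21), [], (nat_lit 630534589)) ::
  ([nat_lit 4, nat_lit 3, nat_lit 2, nat_lit 3], (nat_lit 16), [], (nat_lit 630799281)) ::
  ([nat_lit 4, nat_lit 3, nat_lit 2], (nat_lit 12), [], (nat_lit 631702055)) ::
  ([nat_lit 1, nat_lit 3], (nat_lit 5), [], (nat_lit 632438219)) ::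
  ([nat_lit 3, nat_lit 4, nat_lit 1], (nat_lit 14), [], (nat_lit 632652199)) ::
  ([nat_lit 1, nat_lit 3, nat_lit 2, nat_lit 2], (nat_lit 2), [], (nat_lit 633380107)) ::
  ([nat_lit 2, nat_lit 3, nat_lit 1, nat_lit 3, nat_lit 1], (nat_lit 21), [], (nat_lit 634238639)) ::
  ([], (nat_lit 18), [], (nat_lit 636517788)) ::
  ([nat_lit 4, nat_lit 3], (nat_lit 14), [], (nat_lit 637356147)) ::
  ([nat_lit 2, nat_lit 2, nat_lit 3], (nat_lit 15), [], (nat_lit 637947217)) ::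
  ([nat_lit 1, nat_lit 3, nat_lit 4, nat_lit 3], (nat_lit 5), [], (nat_lit 639024112)) ::
  ([nat_lit 3, nat_lit 4], (nat_lit 19), [], (nat_lit 639322731)) ::
  ([nat_lit 1, nat_lit 1, nat_lit 3, nat_lit 2], (nat_lit 16), [], (nat_lit 642095671)) ::
  ([nat_lit 2, nat_lit 2], (nat_lit 4), [], (nat_lit 642235061)) ::
  ([nat_lit 4, nat_lit 1], (nat_lit 4), [], (nat_lit 642548274)) ::
  ([nat_lit 2, nat_lit 2], (nat_lit 5), [], (nat_lit 642600819)) ::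
  ([nat_lit 2, nat_lit 3, nat_lit 1, nat_lit 1], (nat_lit 4), [], (nat_lit 643209587)) ::
  ([nat_lit 1, nat_lit 1, nat_lit 3], (nat_lit 9), [], (nat_lit 643948793)) ::
  ([nat_lit 2], (nat_lit 3), [], (nat_lit 644728008)) ::
  ([nat_lit 3, nat_lit 4, nat_lit 1], (nat_lit 21), [], (nat_lit 644775549)) ::
  ([nat_lit 1, nat_lit 1, nat_lit 3, nat_lit 1], (nat_lit 12), [], (nat_lit 644889229)) ::
  ([nat_lit 2, nat_lit 3, nat_lit 4, nat_lit 1], (nat_lit 3), [], (nat_lit 646236639)) ::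
  ([nat_lit 2, nat_lit 3, nat_lit 2], (nat_lit 22), [], (nat_lit 647143653)) ::
  ([nat_lit 3, nat_lit 1, nat_lit 3], (nat_lit 18), [], (nat_lit 650321079)) ::
  ([nat_lit 2, nat_lit 3, nat_lit 4, nat_lit 1], (nat_lit 12), [], (nat_lit 650458625)) ::
  ([nat_lit 2, nat_lit 2, nat_lit 3, nat_lit 1, nat_lit 1], (nat_lit 16), [], (nat_lit 651349425)) ::
  ([nat_lit 2, nat_lit 3, nat_lit 4, nat_lit 1], (nat_lit 17), [], (nat_lit 651983870)) ::
  ([nat_lit 3, nat_lit 1, nat_lit 3], (nat_lit 10), [], (nat_lit 652361673)) ::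
  ([nat_lit 1, nat_lit 3, nat_lit 1], (nat_lit 18), [], (nat_lit 652808758)) ::
  cbE750
noncomputable def cbE650 : List (List ℕ × ℕ × List ℕ × ℕ) :=
  ([nat_lit 4, nat_lit 3], (nat_lit 13), [], (nat_lit 573102351)) ::
  ([nat_lit 4, nat_lit 3, nat_lit 1, nat_lit 1], (nat_lit 1), [], (nat_lit 573105225)) ::
  ([nat_lit 3, nat_lit 2, nat_lit 2], (nat_lit 12), [], (nat_lit 575394226)) ::
  ([nat_lit 1, nat_lit 3], (nat_lit 17), [], (nat_lit 576799007)) ::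
  ([nat_lit 1, nat_lit 1, nat_lit 3, nat_lit 1], (nat_lit 9), [], (nat_lit 577350595)) ::
  ([nat_lit 2, nat_lit 3, nat_lit 1, nat_lit 3], (nat_lit 1), [], (nat_lit 578173695)) ::
  ([nat_lit 3], (nat_lit 8), [], (nat_lit 578370707)) ::
  ([nat_lit 2, nat_lit 2, nat_lit 3, nat_lit 1, nat_lit 1], (nat_lit 5), [], (nat_lit 578481096)) ::
  ([nat_lit 4, nat_lit 3, nat_lit 2, nat_lit 3], (nat_lit 10), [], (nat_lit 579420111)) ::
  ([nat_lit 2, nat_lit 3, nat_lit 2, nat_lit 3, nat_lit 1], (nat_lit 21), [], (nat_lit 579700287)) ::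
  ([nat_lit 2, nat_lit 3], (nat_lit 13), [], (nat_lit 580018497)) ::
  ([nat_lit 2, nat_lit 3, nat_lit 4], (nat_lit 15), [], (nat_lit 580545314)) ::
  ([nat_lit 2, nat_lit 3, nat_lit 2], (nat_lit 20), [], (nat_lit 583643376)) ::
  ([], (nat_lit 13), [], (nat_lit 584314842)) ::
  ([nat_lit 2, nat_lit 3, nat_lit 2], (nat_lit 13), [], (nat_lit 585971904)) ::
  ([nat_lit 1, nat_lit 3, nat_lit 4, nat_lit 3], (nat_lit 3), [], (nat_lit 586750933)) ::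
  ([nat_lit 4, nat_lit 1, nat_lit 3], (nat_lit 5), [], (nat_lit 589353898)) ::
  ([nat_lit 1, nat_lit 3, nat_lit 4], (nat_lit 15), [], (nat_lit 591915097)) ::
  ([nat_lit 1, nat_lit 3, nat_lit 2], (nat_lit 11), [], (nat_lit 592048329)) ::
  ([nat_lit 1, nat_lit 1, nat_lit 3, nat_lit 2], (nat_lit 15), [], (nat_lit 592054685)) ::
  ([nat_lit 4, nat_lit 3, nat_lit 2], (nat_lit 1), [], (nat_lit 592575480)) ::
  ([nat_lit 1, nat_lit 1, nat_lit 3], (nat_lit 3), [], (nat_lit 592609990)) ::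
  ([nat_lit 4], (nat_lit 6), [], (nat_lit 593584571)) ::
  ([nat_lit 2, nat_lit 3, nat_lit 1, nat_lit 3], (nat_lit 16), [], (nat_lit 594626068)) ::
  ([nat_lit 1, nat_lit 3, nat_lit 2], (nat_lit 6), [], (nat_lit 595213233)) ::
  ([nat_lit 4, nat_lit 2], (nat_lit 6), [], (nat_lit 595498421)) ::
  ([nat_lit 3, nat_lit 4], (nat_lit 11), [], (nat_lit 596579789)) ::
  ([nat_lit 2, nat_lit 2, nat_lit 3, nat_lit 1, nat_lit 1], (nat_lit 6), [], (nat_lit 596781561)) ::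
  ([nat_lit 1, nat_lit 1], (nat_lit 20), [], (nat_lit 597308452)) ::
  ([nat_lit 4, nat_lit 1], (nat_lit 8), [], (nat_lit 598493084)) ::
  ([nat_lit 2, nat_lit 2], (nat_lit 20), [], (nat_lit 599173829)) ::
  ([nat_lit 2], (nat_lit 15), [], (nat_lit 599202525)) ::
  ([nat_lit 2, nat_lit 2], (nat_lit 11), [], (nat_lit 600151654)) ::
  ([nat_lit 3, nat_lit 1], (nat_lit 16), [], (nat_lit 601005375)) ::
  ([nat_lit 3], (nat_lit 13), [], (nat_lit 601417006)) ::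
  ([nat_lit 2, nat_lit 2, nat_lit 3], (nat_lit 8), [], (nat_lit 601832916)) ::
  ([nat_lit 2, nat_lit 3, nat_lit 1], (nat_lit 12), [], (nat_lit 602186543)) ::
  ([nat_lit 4], (nat_lit 8), [], (nat_lit 602307867)) ::
  ([nat_lit 1, nat_lit 3, nat_lit 4, nat_lit 1], (nat_lit 7), [], (nat_lit 602384614)) ::
  ([nat_lit 4, nat_lit 1, nat_lit 3], (nat_lit 22), [], (nat_lit 602456146)) ::
  ([nat_lit 2, nat_lit 3], (nat_lit 10), [], (nat_lit 603200893)) ::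
  ([nat_lit 3, nat_lit 1, nat_lit 3], (nat_lit 19), [], (nat_lit 603405887)) ::
  ([nat_lit 4, nat_lit 3, nat_lit 1], (nat_lit 21), [], (nat_lit 603496301)) ::
  ([nat_lit 1, nat_lit 3], (nat_lit 2), [], (nat_lit 603567796)) ::
  ([nat_lit 4, nat_lit 3, nat_lit 2, nat_lit 3, nat_lit 1], (nat_lit 6), [], (nat_lit 605432810)) ::
  ([nat_lit 4, nat_lit 1, nat_lit 3], (nat_lit 23), [], (nat_lit 606744963)) ::
  ([nat_lit 4, nat_lit 3], (nat_lit 7), [], (nat_lit 607864508)) ::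
  ([nat_lit 1, nat_lit 3, nat_lit 1], (nat_lit 13), [], (nat_lit 608225588)) ::
  ([nat_lit 2], (nat_lit 13), [], (nat_lit 609736958)) ::
  ([nat_lit 3, nat_lit 2, nat_lit 3, nat_lit 2, nat_lit 2], (nat_lit 5), [], (nat_lit 609879344)) ::
  cbE700
noncomputable def cbE600 : List (List ℕ × ℕ × List ℕ × ℕ) :=
  ([nat_lit 4, nat_lit 3, nat_lit 2, nat_lit 3], (nat_lit 9), [], (nat_lit 530631086)) ::
  ([nat_lit 2, nat_lit 3, nat_lit 4, nat_lit 2], (nat_lit 5), [], (nat_lit 530714007)) ::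
  ([nat_lit 4, nat_lit 3, nat_lit 1, nat_lit 1], (nat_lit 14), [], (nat_lit 530909703)) ::
  ([nat_lit 4, nat_lit 3, nat_lit 1, nat_lit 1], (nat_lit 12), [], (nat_lit 531015022)) ::
  ([nat_lit 4, nat_lit 2], (nat_lit 10), [], (nat_lit 532470514)) ::
  ([nat_lit 2, nat_lit 3, nat_lit 1, nat_lit 3, nat_lit 1], (nat_lit 5), [], (nat_lit 532538810)) ::
  ([nat_lit 2, nat_lit 2, nat_lit 3], (nat_lit 1), [], (nat_lit 533633487)) ::
  ([nat_lit 2, nat_lit 3, nat_lit 1], (nat_lit 4), [], (nat_lit 535812167)) ::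
  ([nat_lit 3, nat_lit 1, nat_lit 3, nat_lit 4], (nat_lit 10), [], (nat_lit 536845928)) ::
  ([nat_lit 4, nat_lit 3, nat_lit 2, nat_lit 3, nat_lit 1], (nat_lit 12), [], (nat_lit 537748372)) ::
  ([nat_lit 4, nat_lit 2, nat_lit 3], (nat_lit 10), [], (nat_lit 539241668)) ::
  ([nat_lit 2, nat_lit 3, nat_lit 4, nat_lit 3], (nat_lit 3), [], (nat_lit 539327263)) ::
  ([nat_lit 4, nat_lit 3, nat_lit 2], (nat_lit 16), [], (nat_lit 539445598)) ::
  ([nat_lit 3, nat_lit 2, nat_lit 3, nat_lit 1], (nat_lit 17), [], (nat_lit 539471129)) ::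
  ([nat_lit 4, nat_lit 1, nat_lit 3, nat_lit 1], (nat_lit 15), [], (nat_lit 541416656)) ::
  ([nat_lit 1, nat_lit 3, nat_lit 4, nat_lit 2], (nat_lit 10), [], (nat_lit 543060302)) ::
  ([nat_lit 3, nat_lit 4, nat_lit 3], (nat_lit 16), [], (nat_lit 543073547)) ::
  ([nat_lit 2, nat_lit 2, nat_lit 3], (nat_lit 16), [], (nat_lit 543387737)) ::
  ([nat_lit 1, nat_lit 1, nat_lit 3, nat_lit 2], (nat_lit 12), [], (nat_lit 543971667)) ::
  ([nat_lit 3, nat_lit 2, nat_lit 3, nat_lit 2, nat_lit 2], (nat_lit 9), [], (nat_lit 544308220)) ::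
  ([nat_lit 3, nat_lit 2, nat_lit 3], (nat_lit 20), [], (nat_lit 544798902)) ::
  ([nat_lit 4, nat_lit 1], (nat_lit 9), [], (nat_lit 546708471)) ::
  ([nat_lit 2, nat_lit 3, nat_lit 2, nat_lit 2], (nat_lit 15), [], (nat_lit 546924194)) ::
  ([nat_lit 1, nat_lit 1, nat_lit 3, nat_lit 2], (nat_lit 13), [], (nat_lit 547937004)) ::
  ([nat_lit 3, nat_lit 4, nat_lit 1], (nat_lit 15), [], (nat_lit 548200721)) ::
  ([nat_lit 3, nat_lit 2, nat_lit 3, nat_lit 2], (nat_lit 4), [], (nat_lit 548767872)) ::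
  ([nat_lit 3, nat_lit 1, nat_lit 1], (nat_lit 14), [], (nat_lit 549060856)) ::
  ([nat_lit 4, nat_lit 1, nat_lit 3, nat_lit 1, nat_lit 1], (nat_lit 3), [], (nat_lit 551429849)) ::
  ([nat_lit 3, nat_lit 4, nat_lit 2], (nat_lit 4), [], (nat_lit 552285503)) ::
  ([nat_lit 2], (nat_lit 24), [], (nat_lit 558477456)) ::
  ([], (nat_lit 1), [], (nat_lit 558952786)) ::
  ([nat_lit 4, nat_lit 3, nat_lit 2], (nat_lit 19), [], (nat_lit 561073799)) ::
  ([nat_lit 3, nat_lit 1, nat_lit 3], (nat_lit 12), [], (nat_lit 561236661)) ::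
  ([nat_lit 4, nat_lit 1, nat_lit 3, nat_lit 1, nat_lit 1], (nat_lit 15), [], (nat_lit 562311051)) ::
  ([nat_lit 1, nat_lit 3, nat_lit 2], (nat_lit 13), [], (nat_lit 562719017)) ::
  ([nat_lit 1, nat_lit 3, nat_lit 1, nat_lit 1], (nat_lit 16), [], (nat_lit 562728333)) ::
  ([nat_lit 3, nat_lit 4, nat_lit 3, nat_lit 2], (nat_lit 9), [], (nat_lit 563020262)) ::
  ([nat_lit 2, nat_lit 3, nat_lit 4, nat_lit 1], (nat_lit 9), [], (nat_lit 563734351)) ::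
  ([], (nat_lit 16), [], (nat_lit 565696806)) ::
  ([nat_lit 3, nat_lit 4], (nat_lit 20), [], (nat_lit 565806462)) ::
  ([nat_lit 3, nat_lit 4, nat_lit 3], (nat_lit 4), [], (nat_lit 568059963)) ::
  ([nat_lit 3, nat_lit 2, nat_lit 3, nat_lit 2, nat_lit 2], (nat_lit 6), [], (nat_lit 568217752)) ::
  ([nat_lit 3, nat_lit 4, nat_lit 2], (nat_lit 3), [], (nat_lit 568643146)) ::
  ([nat_lit 1, nat_lit 3, nat_lit 1], (nat_lit 10), [], (nat_lit 570139739)) ::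
  ([nat_lit 3, nat_lit 2, nat_lit 3, nat_lit 2], (nat_lit 9), [], (nat_lit 570186590)) ::
  ([nat_lit 1, nat_lit 3, nat_lit 2], (nat_lit 9), [], (nat_lit 570842634)) ::
  ([nat_lit 2, nat_lit 3, nat_lit 4, nat_lit 3, nat_lit 1], (nat_lit 16), [], (nat_lit 571921662)) ::
  ([nat_lit 4, nat_lit 2, nat_lit 3, nat_lit 2], (nat_lit 15), [], (nat_lit 572097374)) ::
  ([nat_lit 4, nat_lit 3, nat_lit 2, nat_lit 2], (nat_lit 4), [], (nat_lit 572208413)) ::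
  ([nat_lit 2, nat_lit 3, nat_lit 4], (nat_lit 12), [], (nat_lit 572751163)) ::
  cbE650
noncomputable def cbE550 : List (List ℕ × ℕ × List ℕ × ℕ) :=
  ([nat_lit 4, nat_lit 3, nat_lit 1, nat_lit 1], (nat_lit 20), [], (nat_lit 484858537)) ::
  ([nat_lit 4, nat_lit 2, nat_lit 3, nat_lit 2], (nat_lit 16), [], (nat_lit 485028249)) ::
  ([nat_lit 2, nat_lit 3, nat_lit 2, nat_lit 3], (nat_lit 10), [], (nat_lit 486335691)) ::
  ([nat_lit 4, nat_lit 1], (nat_lit 7), [], (nat_lit 487183597)) ::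
  ([nat_lit 4, nat_lit 1], (nat_lit 10), [], (nat_lit 488592319)) ::
  ([nat_lit 4, nat_lit 3, nat_lit 1], (nat_lit 4), [], (nat_lit 491295486)) ::
  ([nat_lit 2, nat_lit 2, nat_lit 3, nat_lit 1], (nat_lit 12), [], (nat_lit 491331713)) ::
  ([nat_lit 3, nat_lit 2, nat_lit 3], (nat_lit 17), [], (nat_lit 491351384)) ::
  ([nat_lit 1, nat_lit 3], (nat_lit 1), [], (nat_lit 492689829)) ::
  ([nat_lit 2, nat_lit 3, nat_lit 1, nat_lit 3, nat_lit 1], (nat_lit 9), [], (nat_lit 493579467)) ::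
  ([nat_lit 1, nat_lit 1, nat_lit 3], (nat_lit 15), [], (nat_lit 493794836)) ::
  ([nat_lit 2], (nat_lit 22), [], (nat_lit 494093639)) ::
  ([nat_lit 1, nat_lit 3, nat_lit 4, nat_lit 1], (nat_lit 5), [], (nat_lit 494985422)) ::
  ([nat_lit 3, nat_lit 4, nat_lit 3, nat_lit 1], (nat_lit 18), [], (nat_lit 495971881)) ::
  ([nat_lit 3, nat_lit 4], (nat_lit 15), [], (nat_lit 498865716)) ::
  ([nat_lit 1, nat_lit 3, nat_lit 1, nat_lit 1], (nat_lit 20), [], (nat_lit 500440323)) ::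
  ([nat_lit 2, nat_lit 3, nat_lit 4, nat_lit 1], (nat_lit 14), [], (nat_lit 500476590)) ::
  ([nat_lit 1, nat_lit 1, nat_lit 3, nat_lit 1], (nat_lit 6), [], (nat_lit 500899643)) ::
  ([nat_lit 3, nat_lit 2, nat_lit 3, nat_lit 1], (nat_lit 6), [], (nat_lit 501326569)) ::
  ([nat_lit 2, nat_lit 2], (nat_lit 15), [], (nat_lit 503265591)) ::
  ([nat_lit 2, nat_lit 2], (nat_lit 24), [], (nat_lit 504152816)) ::
  ([nat_lit 4, nat_lit 3, nat_lit 2], (nat_lit 14), [], (nat_lit 505232021)) ::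
  ([nat_lit 4, nat_lit 2], (nat_lit 5), [], (nat_lit 506317350)) ::
  ([nat_lit 2, nat_lit 3, nat_lit 4, nat_lit 3], (nat_lit 9), [], (nat_lit 506533134)) ::
  ([nat_lit 2, nat_lit 3, nat_lit 2, nat_lit 3, nat_lit 1], (nat_lit 15), [], (nat_lit 506641655)) ::
  ([nat_lit 4], (nat_lit 5), [], (nat_lit 508173729)) ::
  ([nat_lit 2, nat_lit 3, nat_lit 1], (nat_lit 16), [], (nat_lit 508636536)) ::
  ([nat_lit 4, nat_lit 3, nat_lit 2, nat_lit 3], (nat_lit 12), [], (nat_lit 509928230)) ::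
  ([nat_lit 4, nat_lit 3, nat_lit 2, nat_lit 3, nat_lit 1], (nat_lit 9), [], (nat_lit 510353563)) ::
  ([nat_lit 3, nat_lit 2, nat_lit 3, nat_lit 1], (nat_lit 11), [], (nat_lit 510569905)) ::
  ([nat_lit 2, nat_lit 3], (nat_lit 21), [], (nat_lit 512124153)) ::
  ([nat_lit 3, nat_lit 1, nat_lit 3], (nat_lit 17), [], (nat_lit 512296850)) ::
  ([nat_lit 3, nat_lit 2, nat_lit 2], (nat_lit 19), [], (nat_lit 513246129)) ::
  ([nat_lit 3, nat_lit 2, nat_lit 2], (nat_lit 5), [], (nat_lit 513928520)) ::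
  ([nat_lit 2, nat_lit 3, nat_lit 1, nat_lit 1], (nat_lit 6), [], (nat_lit 514279707)) ::
  ([nat_lit 3, nat_lit 2, nat_lit 2], (nat_lit 6), [], (nat_lit 515757562)) ::
  ([nat_lit 2, nat_lit 2, nat_lit 3], (nat_lit 7), [], (nat_lit 517505665)) ::
  ([nat_lit 4, nat_lit 3, nat_lit 2], (nat_lit 5), [], (nat_lit 517718840)) ::
  ([nat_lit 4, nat_lit 2, nat_lit 3, nat_lit 1], (nat_lit 13), [], (nat_lit 520098082)) ::
  ([nat_lit 2, nat_lit 2, nat_lit 3, nat_lit 1, nat_lit 1], (nat_lit 21), [], (nat_lit 521602911)) ::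
  ([nat_lit 4, nat_lit 1, nat_lit 3, nat_lit 2], (nat_lit 16), [], (nat_lit 523935285)) ::
  ([nat_lit 2, nat_lit 3, nat_lit 1], (nat_lit 3), [], (nat_lit 523943058)) ::
  ([nat_lit 3, nat_lit 1, nat_lit 1], (nat_lit 13), [], (nat_lit 525313348)) ::
  ([nat_lit 2, nat_lit 3, nat_lit 4, nat_lit 3, nat_lit 1], (nat_lit 5), [], (nat_lit 526284046)) ::
  ([nat_lit 2], (nat_lit 2), [], (nat_lit 526385657)) ::
  ([nat_lit 4, nat_lit 3, nat_lit 1], (nat_lit 9), [], (nat_lit 527149459)) ::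
  ([nat_lit 1, nat_lit 3, nat_lit 2, nat_lit 2], (nat_lit 12), [], (nat_lit 528541927)) ::
  ([nat_lit 2, nat_lit 3, nat_lit 2, nat_lit 3], (nat_lit 16), [], (nat_lit 529374295)) ::
  ([nat_lit 1, nat_lit 3, nat_lit 4, nat_lit 3], (nat_lit 21), [], (nat_lit 529934736)) ::
  ([nat_lit 3, nat_lit 2, nat_lit 3, nat_lit 2], (nat_lit 6), [], (nat_lit 530601443)) ::
  cbE600
noncomputable def cbE500 : List (List ℕ × ℕ × List ℕ × ℕ) :=
  ([nat_lit 4, nat_lit 3], (nat_lit 10), [], (nat_lit 450843810)) ::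
  ([nat_lit 2, nat_lit 2], (nat_lit 17), [], (nat_lit 451084799)) ::
  ([nat_lit 1, nat_lit 3, nat_lit 1, nat_lit 1], (nat_lit 10), [], (nat_lit 452079266)) ::
  ([nat_lit 1, nat_lit 3, nat_lit 1], (nat_lit 16), [], (nat_lit 452548820)) ::
  ([nat_lit 1, nat_lit 1], (nat_lit 23), [], (nat_lit 452598235)) ::
  ([nat_lit 2, nat_lit 3, nat_lit 4, nat_lit 3], (nat_lit 5), [], (nat_lit 453446456)) ::
  ([nat_lit 4, nat_lit 2, nat_lit 3], (nat_lit 8), [], (nat_lit 453477939)) ::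
  ([nat_lit 4, nat_lit 1, nat_lit 3, nat_lit 2], (nat_lit 21), [], (nat_lit 453617599)) ::
  ([nat_lit 3, nat_lit 2, nat_lit 3, nat_lit 2], (nat_lit 10), [], (nat_lit 454011575)) ::
  ([nat_lit 3, nat_lit 4], (nat_lit 7), [], (nat_lit 454935788)) ::
  ([nat_lit 2, nat_lit 3, nat_lit 4, nat_lit 2], (nat_lit 9), [], (nat_lit 456571751)) ::
  ([nat_lit 4, nat_lit 1, nat_lit 3], (nat_lit 13), [], (nat_lit 456652871)) ::
  ([nat_lit 1, nat_lit 3, nat_lit 1], (nat_lit 12), [], (nat_lit 457913754)) ::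
  ([nat_lit 3, nat_lit 4, nat_lit 3, nat_lit 1], (nat_lit 15), [], (nat_lit 459297171)) ::
  ([nat_lit 3, nat_lit 2, nat_lit 2], (nat_lit 10), [], (nat_lit 459423713)) ::
  ([nat_lit 3, nat_lit 1, nat_lit 3], (nat_lit 22), [], (nat_lit 460397860)) ::
  ([nat_lit 1], (nat_lit 4), [], (nat_lit 462687491)) ::
  ([nat_lit 1, nat_lit 1, nat_lit 3], (nat_lit 12), [], (nat_lit 463378973)) ::
  ([nat_lit 3], (nat_lit 20), [], (nat_lit 464394041)) ::
  ([nat_lit 3, nat_lit 1, nat_lit 3, nat_lit 4], (nat_lit 6), [], (nat_lit 464418081)) ::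
  ([nat_lit 1, nat_lit 1, nat_lit 3, nat_lit 1], (nat_lit 13), [], (nat_lit 466160565)) ::
  ([nat_lit 1], (nat_lit 6), [], (nat_lit 466297257)) ::
  ([nat_lit 4, nat_lit 1, nat_lit 3, nat_lit 1], (nat_lit 5), [], (nat_lit 466399320)) ::
  ([nat_lit 2, nat_lit 3, nat_lit 2], (nat_lit 9), [], (nat_lit 466657737)) ::
  ([nat_lit 4, nat_lit 2, nat_lit 3, nat_lit 2], (nat_lit 19), [], (nat_lit 466882880)) ::
  ([nat_lit 1, nat_lit 1, nat_lit 3, nat_lit 4], (nat_lit 9), [], (nat_lit 467148315)) ::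
  ([nat_lit 2, nat_lit 3, nat_lit 2, nat_lit 2], (nat_lit 9), [], (nat_lit 468807419)) ::
  ([nat_lit 1, nat_lit 3, nat_lit 4, nat_lit 1], (nat_lit 19), [], (nat_lit 469144067)) ::
  ([nat_lit 4], (nat_lit 4), [], (nat_lit 469158137)) ::
  ([nat_lit 2, nat_lit 3, nat_lit 1], (nat_lit 5), [], (nat_lit 469928123)) ::
  ([nat_lit 1, nat_lit 3, nat_lit 2], (nat_lit 15), [], (nat_lit 472140433)) ::
  ([nat_lit 3, nat_lit 4, nat_lit 3, nat_lit 2], (nat_lit 12), [], (nat_lit 472443254)) ::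
  ([nat_lit 3, nat_lit 1, nat_lit 1], (nat_lit 15), [], (nat_lit 472444239)) ::
  ([], (nat_lit 14), [], (nat_lit 472756803)) ::
  ([nat_lit 1], (nat_lit 11), [], (nat_lit 472768687)) ::
  ([nat_lit 1, nat_lit 3, nat_lit 4], (nat_lit 19), [], (nat_lit 472954988)) ::
  ([nat_lit 2, nat_lit 2, nat_lit 3, nat_lit 1, nat_lit 1], (nat_lit 3), [], (nat_lit 473032968)) ::
  ([nat_lit 2, nat_lit 3, nat_lit 4], (nat_lit 24), [], (nat_lit 474747568)) ::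
  ([nat_lit 4, nat_lit 1, nat_lit 3, nat_lit 2], (nat_lit 12), [], (nat_lit 475016943)) ::
  ([nat_lit 2, nat_lit 3, nat_lit 4, nat_lit 2], (nat_lit 16), [], (nat_lit 475153544)) ::
  ([nat_lit 3, nat_lit 4], (nat_lit 5), [], (nat_lit 475269156)) ::
  ([nat_lit 3, nat_lit 4, nat_lit 2], (nat_lit 12), [], (nat_lit 475616795)) ::
  ([nat_lit 4, nat_lit 2, nat_lit 3], (nat_lit 5), [], (nat_lit 476331912)) ::
  ([nat_lit 3], (nat_lit 6), [], (nat_lit 477951975)) ::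
  ([nat_lit 1, nat_lit 1, nat_lit 3, nat_lit 4], (nat_lit 12), [], (nat_lit 478003829)) ::
  ([nat_lit 4], (nat_lit 3), [], (nat_lit 479602898)) ::
  ([nat_lit 1, nat_lit 3, nat_lit 4, nat_lit 3, nat_lit 2], (nat_lit 9), [], (nat_lit 480627002)) ::
  ([nat_lit 3, nat_lit 2], (nat_lit 18), [], (nat_lit 481476907)) ::
  ([nat_lit 1, nat_lit 3, nat_lit 1], (nat_lit 4), [], (nat_lit 481820501)) ::
  ([nat_lit 2, nat_lit 3, nat_lit 1], (nat_lit 13), [], (nat_lit 484761413)) ::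
  cbE550
noncomputable def cbE450 : List (List ℕ × ℕ × List ℕ × ℕ) :=
  ([nat_lit 3, nat_lit 2, nat_lit 3, nat_lit 1], (nat_lit 9), [], (nat_lit 402234377)) ::
  ([nat_lit 3, nat_lit 1, nat_lit 3], (nat_lit 14), [], (nat_lit 403469756)) ::
  ([nat_lit 3, nat_lit 1, nat_lit 1], (nat_lit 3), [], (nat_lit 403678830)) ::
  ([nat_lit 1, nat_lit 3, nat_lit 4], (nat_lit 16), [], (nat_lit 405063026)) ::
  ([nat_lit 2, nat_lit 3, nat_lit 2], (nat_lit 1), [], (nat_lit 406500354)) ::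
  ([nat_lit 2, nat_lit 3, nat_lit 1, nat_lit 3, nat_lit 1], (nat_lit 16), [], (nat_lit 407254889)) ::
  ([nat_lit 4, nat_lit 2], (nat_lit 16), [], (nat_lit 409732713)) ::
  ([nat_lit 3, nat_lit 1, nat_lit 1], (nat_lit 10), [], (nat_lit 410172701)) ::
  ([nat_lit 2, nat_lit 2], (nat_lit 3), [], (nat_lit 411877055)) ::
  ([nat_lit 3, nat_lit 2], (nat_lit 19), [], (nat_lit 414049266)) ::
  ([nat_lit 3, nat_lit 4, nat_lit 1], (nat_lit 19), [], (nat_lit 414481947)) ::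
  ([nat_lit 2], (nat_lit 20), [], (nat_lit 414890075)) ::
  ([nat_lit 1, nat_lit 3, nat_lit 4, nat_lit 3, nat_lit 2], (nat_lit 21), [], (nat_lit 415437297)) ::
  ([nat_lit 2, nat_lit 3], (nat_lit 17), [], (nat_lit 415524223)) ::
  ([nat_lit 3, nat_lit 1], (nat_lit 7), [], (nat_lit 417076038)) ::
  ([nat_lit 3], (nat_lit 16), [], (nat_lit 417251771)) ::
  ([nat_lit 4, nat_lit 3], (nat_lit 22), [], (nat_lit 417450005)) ::
  ([nat_lit 2, nat_lit 3, nat_lit 1, nat_lit 1], (nat_lit 16), [], (nat_lit 418729403)) ::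
  ([nat_lit 3], (nat_lit 3), [], (nat_lit 419773819)) ::
  ([nat_lit 3, nat_lit 4], (nat_lit 3), [], (nat_lit 420527209)) ::
  ([nat_lit 4, nat_lit 3, nat_lit 2, nat_lit 3], (nat_lit 18), [], (nat_lit 420857003)) ::
  ([nat_lit 1, nat_lit 3, nat_lit 1, nat_lit 1], (nat_lit 1), [], (nat_lit 421033199)) ::
  ([nat_lit 4, nat_lit 2], (nat_lit 23), [], (nat_lit 422286428)) ::
  ([nat_lit 4, nat_lit 2], (nat_lit 15), [], (nat_lit 422434828)) ::
  ([nat_lit 4, nat_lit 1], (nat_lit 24), [], (nat_lit 425263044)) ::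
  ([nat_lit 2, nat_lit 3, nat_lit 2], (nat_lit 5), [], (nat_lit 425331375)) ::
  ([nat_lit 3, nat_lit 1, nat_lit 3, nat_lit 1], (nat_lit 7), [], (nat_lit 425763009)) ::
  ([nat_lit 1, nat_lit 1, nat_lit 3, nat_lit 1], (nat_lit 10), [], (nat_lit 425992618)) ::
  ([nat_lit 2], (nat_lit 21), [], (nat_lit 426041103)) ::
  ([nat_lit 4, nat_lit 3, nat_lit 1, nat_lit 1], (nat_lit 4), [], (nat_lit 427399203)) ::
  ([nat_lit 2, nat_lit 3, nat_lit 4, nat_lit 3], (nat_lit 4), [], (nat_lit 427676737)) ::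
  ([nat_lit 3, nat_lit 2, nat_lit 3, nat_lit 2], (nat_lit 12), [], (nat_lit 427714864)) ::
  ([nat_lit 1, nat_lit 1, nat_lit 3, nat_lit 1], (nat_lit 3), [], (nat_lit 428066579)) ::
  ([nat_lit 3, nat_lit 2], (nat_lit 11), [], (nat_lit 430221302)) ::
  ([nat_lit 2, nat_lit 3], (nat_lit 5), [], (nat_lit 430550129)) ::
  ([nat_lit 2, nat_lit 3, nat_lit 1, nat_lit 3], (nat_lit 10), [], (nat_lit 431948909)) ::
  ([nat_lit 1, nat_lit 1], (nat_lit 22), [], (nat_lit 435093789)) ::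
  ([nat_lit 2, nat_lit 3, nat_lit 1, nat_lit 1], (nat_lit 22), [], (nat_lit 435101141)) ::
  ([nat_lit 4, nat_lit 3, nat_lit 1, nat_lit 1], (nat_lit 13), [], (nat_lit 436441077)) ::
  ([nat_lit 2, nat_lit 3, nat_lit 4, nat_lit 3], (nat_lit 12), [], (nat_lit 437051931)) ::
  ([nat_lit 1, nat_lit 3, nat_lit 4, nat_lit 2], (nat_lit 21), [], (nat_lit 438350344)) ::
  ([nat_lit 3, nat_lit 1, nat_lit 1], (nat_lit 18), [], (nat_lit 439308219)) ::
  ([nat_lit 3, nat_lit 2], (nat_lit 12), [], (nat_lit 442319112)) ::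
  ([nat_lit 2, nat_lit 3, nat_lit 4, nat_lit 2], (nat_lit 10), [], (nat_lit 443755848)) ::
  ([nat_lit 3, nat_lit 2, nat_lit 3], (nat_lit 3), [], (nat_lit 444058825)) ::
  ([nat_lit 2, nat_lit 2, nat_lit 3, nat_lit 1, nat_lit 1], (nat_lit 9), [], (nat_lit 444251654)) ::
  ([nat_lit 2, nat_lit 2, nat_lit 3, nat_lit 1], (nat_lit 16), [], (nat_lit 447425860)) ::
  ([nat_lit 1, nat_lit 1, nat_lit 3, nat_lit 1], (nat_lit 7), [], (nat_lit 449747042)) ::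
  ([nat_lit 2, nat_lit 3, nat_lit 1], (nat_lit 6), [], (nat_lit 450382433)) ::
  ([nat_lit 2, nat_lit 3, nat_lit 4], (nat_lit 21), [], (nat_lit 450658276)) ::
  cbE500
noncomputable def cbE400 : List (List ℕ × ℕ × List ℕ × ℕ) :=
  ([nat_lit 4, nat_lit 1, nat_lit 3, nat_lit 2], (nat_lit 15), [], (nat_lit 356931900)) ::
  ([nat_lit 1, nat_lit 1, nat_lit 3], (nat_lit 6), [], (nat_lit 357318384)) ::
  ([nat_lit 1, nat_lit 3, nat_lit 4, nat_lit 1], (nat_lit 20), [], (nat_lit 359186852)) ::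
  ([nat_lit 4, nat_lit 1, nat_lit 3, nat_lit 2], (nat_lit 5), [], (nat_lit 359329007)) ::
  ([nat_lit 2, nat_lit 2], (nat_lit 23), [], (nat_lit 359583805)) ::
  ([nat_lit 3, nat_lit 2, nat_lit 3], (nat_lit 15), [], (nat_lit 359628660)) ::
  ([nat_lit 4, nat_lit 1, nat_lit 3, nat_lit 2], (nat_lit 10), [], (nat_lit 360687730)) ::
  ([nat_lit 3, nat_lit 2], (nat_lit 4), [], (nat_lit 360949521)) ::
  ([nat_lit 3, nat_lit 2, nat_lit 3, nat_lit 1], (nat_lit 18), [], (nat_lit 361231741)) ::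
  ([nat_lit 2, nat_lit 2], (nat_lit 6), [], (nat_lit 363347233)) ::
  ([nat_lit 4, nat_lit 1, nat_lit 3], (nat_lit 9), [], (nat_lit 364742794)) ::
  ([nat_lit 3, nat_lit 4, nat_lit 3, nat_lit 2], (nat_lit 16), [], (nat_lit 366928098)) ::
  ([nat_lit 1, nat_lit 1], (nat_lit 10), [], (nat_lit 367781487)) ::
  ([nat_lit 4, nat_lit 2, nat_lit 3, nat_lit 2], (nat_lit 22), [], (nat_lit 367993726)) ::
  ([nat_lit 4, nat_lit 3, nat_lit 1, nat_lit 1], (nat_lit 6), [], (nat_lit 368375565)) ::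
  ([nat_lit 4, nat_lit 2, nat_lit 3, nat_lit 1], (nat_lit 5), [], (nat_lit 368794566)) ::
  ([nat_lit 4, nat_lit 2, nat_lit 3, nat_lit 1], (nat_lit 18), [], (nat_lit 368853218)) ::
  ([nat_lit 1, nat_lit 3, nat_lit 1], (nat_lit 9), [], (nat_lit 370036018)) ::
  ([nat_lit 3, nat_lit 4, nat_lit 1], (nat_lit 12), [], (nat_lit 370972912)) ::
  ([nat_lit 3, nat_lit 4, nat_lit 2], (nat_lit 22), [], (nat_lit 371360528)) ::
  ([nat_lit 2, nat_lit 2, nat_lit 3, nat_lit 2], (nat_lit 6), [], (nat_lit 372523451)) ::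
  ([nat_lit 2, nat_lit 3, nat_lit 4, nat_lit 3, nat_lit 1], (nat_lit 21), [], (nat_lit 373790979)) ::
  ([nat_lit 4, nat_lit 2, nat_lit 3, nat_lit 1], (nat_lit 10), [], (nat_lit 374379653)) ::
  ([nat_lit 3, nat_lit 1, nat_lit 3], (nat_lit 7), [], (nat_lit 376014672)) ::
  ([nat_lit 1, nat_lit 3, nat_lit 4, nat_lit 3, nat_lit 2], (nat_lit 5), [], (nat_lit 376028075)) ::
  ([nat_lit 3, nat_lit 4, nat_lit 3, nat_lit 1], (nat_lit 3), [], (nat_lit 376835925)) ::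
  ([nat_lit 2, nat_lit 2, nat_lit 3, nat_lit 1], (nat_lit 10), [], (nat_lit 378154911)) ::
  ([nat_lit 4, nat_lit 1, nat_lit 3, nat_lit 1, nat_lit 1], (nat_lit 16), [], (nat_lit 380560339)) ::
  ([nat_lit 2, nat_lit 3, nat_lit 4, nat_lit 1], (nat_lit 19), [], (nat_lit 381402178)) ::
  ([nat_lit 4, nat_lit 1, nat_lit 3, nat_lit 2], (nat_lit 4), [], (nat_lit 382518349)) ::
  ([nat_lit 1, nat_lit 3, nat_lit 4, nat_lit 1], (nat_lit 21), [], (nat_lit 382705836)) ::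
  ([nat_lit 1, nat_lit 3], (nat_lit 12), [], (nat_lit 383353242)) ::
  ([nat_lit 3, nat_lit 1, nat_lit 3, nat_lit 1], (nat_lit 15), [], (nat_lit 384005475)) ::
  ([nat_lit 4, nat_lit 3, nat_lit 1], (nat_lit 12), [], (nat_lit 384520361)) ::
  ([nat_lit 3, nat_lit 4], (nat_lit 2), [], (nat_lit 385003974)) ::
  ([nat_lit 2, nat_lit 3, nat_lit 1, nat_lit 1], (nat_lit 10), [], (nat_lit 385733397)) ::
  ([nat_lit 3, nat_lit 4], (nat_lit 22), [], (nat_lit 387918280)) ::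
  ([nat_lit 3, nat_lit 1, nat_lit 1], (nat_lit 22), [], (nat_lit 390278914)) ::
  ([nat_lit 2, nat_lit 2, nat_lit 3], (nat_lit 20), [], (nat_lit 391435133)) ::
  ([nat_lit 4, nat_lit 3, nat_lit 2], (nat_lit 15), [], (nat_lit 391830162)) ::
  ([nat_lit 4, nat_lit 1, nat_lit 3, nat_lit 2], (nat_lit 9), [], (nat_lit 392754150)) ::
  ([nat_lit 4, nat_lit 1, nat_lit 3, nat_lit 1], (nat_lit 21), [], (nat_lit 394592883)) ::
  ([nat_lit 4, nat_lit 2, nat_lit 3, nat_lit 2], (nat_lit 5), [], (nat_lit 395159594)) ::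
  ([nat_lit 2, nat_lit 3], (nat_lit 16), [], (nat_lit 395736141)) ::
  ([nat_lit 3, nat_lit 4, nat_lit 3, nat_lit 1], (nat_lit 16), [], (nat_lit 396860543)) ::
  ([nat_lit 1, nat_lit 1, nat_lit 3, nat_lit 2], (nat_lit 5), [], (nat_lit 397659052)) ::
  ([nat_lit 4, nat_lit 1, nat_lit 3], (nat_lit 10), [], (nat_lit 398514483)) ::
  ([nat_lit 1, nat_lit 1], (nat_lit 14), [], (nat_lit 398951027)) ::
  ([], (nat_lit 9), [], (nat_lit 399899673)) ::
  ([nat_lit 2], (nat_lit 8), [], (nat_lit 400892735)) ::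
  cbE450
noncomputable def cbE350 : List (List ℕ × ℕ × List ℕ × ℕ) :=
  ([nat_lit 4, nat_lit 2, nat_lit 3, nat_lit 2], (nat_lit 10), [], (nat_lit 316347549)) ::
  ([nat_lit 2, nat_lit 2, nat_lit 3], (nat_lit 0), [], (nat_lit 316461033)) ::
  ([nat_lit 3, nat_lit 1, nat_lit 3], (nat_lit 23), [], (nat_lit 317030960)) ::
  ([nat_lit 2, nat_lit 3, nat_lit 4, nat_lit 2], (nat_lit 3), [], (nat_lit 317340540)) ::
  ([nat_lit 3, nat_lit 1, nat_lit 3, nat_lit 4], (nat_lit 3), [], (nat_lit 317575361)) ::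
  ([nat_lit 2, nat_lit 2, nat_lit 3], (nat_lit 13), [], (nat_lit 321860891)) ::
  ([nat_lit 1, nat_lit 3, nat_lit 1], (nat_lit 11), [], (nat_lit 322848767)) ::
  ([nat_lit 4, nat_lit 3, nat_lit 1], (nat_lit 3), [], (nat_lit 323149815)) ::
  ([nat_lit 2, nat_lit 3, nat_lit 1, nat_lit 3, nat_lit 1], (nat_lit 4), [], (nat_lit 323448435)) ::
  ([nat_lit 3, nat_lit 4, nat_lit 3], (nat_lit 6), [], (nat_lit 323805759)) ::
  ([nat_lit 3, nat_lit 1, nat_lit 1], (nat_lit 11), [], (nat_lit 324840153)) ::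
  ([nat_lit 1], (nat_lit 12), [], (nat_lit 325385299)) ::
  ([nat_lit 4, nat_lit 2], (nat_lit 7), [], (nat_lit 325835232)) ::
  ([nat_lit 3, nat_lit 4, nat_lit 1], (nat_lit 4), [], (nat_lit 326699770)) ::
  ([nat_lit 2, nat_lit 2, nat_lit 3], (nat_lit 12), [], (nat_lit 327576888)) ::
  ([nat_lit 2, nat_lit 3, nat_lit 2, nat_lit 3, nat_lit 1], (nat_lit 3), [], (nat_lit 328690805)) ::
  ([nat_lit 3, nat_lit 4, nat_lit 2], (nat_lit 2), [], (nat_lit 329332218)) ::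
  ([nat_lit 1, nat_lit 3, nat_lit 2], (nat_lit 10), [], (nat_lit 330124275)) ::
  ([nat_lit 2, nat_lit 2, nat_lit 3, nat_lit 1, nat_lit 1], (nat_lit 10), [], (nat_lit 331792353)) ::
  ([nat_lit 2, nat_lit 3, nat_lit 2], (nat_lit 4), [], (nat_lit 332509269)) ::
  ([nat_lit 3, nat_lit 2, nat_lit 3], (nat_lit 7), [], (nat_lit 333914211)) ::
  ([], (nat_lit 2), [], (nat_lit 335130737)) ::
  ([nat_lit 3, nat_lit 2, nat_lit 3], (nat_lit 14), [], (nat_lit 336112961)) ::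
  ([nat_lit 3, nat_lit 4, nat_lit 3, nat_lit 1], (nat_lit 10), [], (nat_lit 336314280)) ::
  ([nat_lit 1, nat_lit 1, nat_lit 3], (nat_lit 1), [], (nat_lit 337431692)) ::
  ([nat_lit 3, nat_lit 4, nat_lit 3, nat_lit 2], (nat_lit 3), [], (nat_lit 337991060)) ::
  ([nat_lit 3, nat_lit 4, nat_lit 1], (nat_lit 18), [], (nat_lit 338135613)) ::
  ([nat_lit 1, nat_lit 3, nat_lit 4, nat_lit 1], (nat_lit 11), [], (nat_lit 338426270)) ::
  ([nat_lit 1, nat_lit 1, nat_lit 3, nat_lit 1], (nat_lit 11), [], (nat_lit 338707091)) ::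
  ([nat_lit 2, nat_lit 3, nat_lit 2, nat_lit 3], (nat_lit 3), [], (nat_lit 338885452)) ::
  ([nat_lit 1, nat_lit 3], (nat_lit 23), [], (nat_lit 339758291)) ::
  ([nat_lit 4, nat_lit 3, nat_lit 1, nat_lit 1], (nat_lit 10), [], (nat_lit 339772530)) ::
  ([nat_lit 2, nat_lit 3, nat_lit 1, nat_lit 1], (nat_lit 15), [], (nat_lit 339773959)) ::
  ([nat_lit 1, nat_lit 1], (nat_lit 3), [], (nat_lit 340983330)) ::
  ([nat_lit 3, nat_lit 2], (nat_lit 7), [], (nat_lit 341247981)) ::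
  ([nat_lit 1, nat_lit 3], (nat_lit 20), [], (nat_lit 342593688)) ::
  ([nat_lit 3, nat_lit 2, nat_lit 2], (nat_lit 3), [], (nat_lit 343461841)) ::
  ([nat_lit 1, nat_lit 1, nat_lit 3, nat_lit 4], (nat_lit 16), [], (nat_lit 343852669)) ::
  ([nat_lit 2, nat_lit 3, nat_lit 1, nat_lit 3, nat_lit 1], (nat_lit 6), [], (nat_lit 345303431)) ::
  ([nat_lit 3, nat_lit 1], (nat_lit 15), [], (nat_lit 345940775)) ::
  ([nat_lit 4, nat_lit 3, nat_lit 1], (nat_lit 7), [], (nat_lit 346010781)) ::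
  ([nat_lit 1, nat_lit 3, nat_lit 1], (nat_lit 21), [], (nat_lit 347671552)) ::
  ([nat_lit 1, nat_lit 3, nat_lit 4, nat_lit 2], (nat_lit 6), [], (nat_lit 347839177)) ::
  ([nat_lit 4, nat_lit 1, nat_lit 3, nat_lit 1, nat_lit 1], (nat_lit 5), [], (nat_lit 348415696)) ::
  ([nat_lit 4, nat_lit 2, nat_lit 3], (nat_lit 1), [], (nat_lit 348599357)) ::
  ([nat_lit 1, nat_lit 1], (nat_lit 17), [], (nat_lit 351656443)) ::
  ([nat_lit 4], (nat_lit 14), [], (nat_lit 351882165)) ::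
  ([nat_lit 4, nat_lit 3, nat_lit 2], (nat_lit 4), [], (nat_lit 353857232)) ::
  ([nat_lit 2, nat_lit 3, nat_lit 2, nat_lit 3, nat_lit 1], (nat_lit 9), [], (nat_lit 354117669)) ::
  ([nat_lit 2, nat_lit 2, nat_lit 3, nat_lit 1], (nat_lit 6), [], (nat_lit 354700089)) ::
  cbE400
noncomputable def cbE300 : List (List ℕ × ℕ × List ℕ × ℕ) :=
  ([nat_lit 2, nat_lit 2, nat_lit 3, nat_lit 2], (nat_lit 21), [], (nat_lit 274945454)) ::
  ([nat_lit 2, nat_lit 3, nat_lit 4, nat_lit 1], (nat_lit 20), [], (nat_lit 275903098)) ::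
  ([nat_lit 3], (nat_lit 22), [], (nat_lit 276164840)) ::
  ([nat_lit 3, nat_lit 2, nat_lit 3, nat_lit 1], (nat_lit 12), [], (nat_lit 276808026)) ::
  ([nat_lit 3, nat_lit 1], (nat_lit 10), [], (nat_lit 276878644)) ::
  ([nat_lit 3, nat_lit 2, nat_lit 3, nat_lit 1], (nat_lit 5), [], (nat_lit 277854805)) ::
  ([], (nat_lit 11), [], (nat_lit 277996756)) ::
  ([nat_lit 1], (nat_lit 21), [], (nat_lit 278276726)) ::
  ([nat_lit 4, nat_lit 3, nat_lit 2, nat_lit 2], (nat_lit 3), [], (nat_lit 279602898)) ::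
  ([nat_lit 4, nat_lit 3, nat_lit 2], (nat_lit 22), [], (nat_lit 280756267)) ::
  ([nat_lit 2, nat_lit 3, nat_lit 4, nat_lit 3, nat_lit 1], (nat_lit 12), [], (nat_lit 282199559)) ::
  ([nat_lit 4, nat_lit 1, nat_lit 3, nat_lit 1], (nat_lit 17), [], (nat_lit 283968069)) ::
  ([nat_lit 4, nat_lit 1, nat_lit 3, nat_lit 2], (nat_lit 13), [], (nat_lit 285002037)) ::
  ([nat_lit 4, nat_lit 3, nat_lit 1], (nat_lit 17), [], (nat_lit 285444734)) ::
  ([nat_lit 1, nat_lit 1, nat_lit 3, nat_lit 2], (nat_lit 6), [], (nat_lit 286470930)) ::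
  ([nat_lit 3, nat_lit 1, nat_lit 3], (nat_lit 20), [], (nat_lit 287531006)) ::
  ([nat_lit 4, nat_lit 3], (nat_lit 8), [], (nat_lit 289584134)) ::
  ([nat_lit 4, nat_lit 2], (nat_lit 19), [], (nat_lit 290305524)) ::
  ([nat_lit 2, nat_lit 3, nat_lit 4, nat_lit 3, nat_lit 1], (nat_lit 6), [], (nat_lit 290684241)) ::
  ([nat_lit 2, nat_lit 2, nat_lit 3], (nat_lit 9), [], (nat_lit 291865925)) ::
  ([nat_lit 3, nat_lit 1], (nat_lit 1), [], (nat_lit 292796302)) ::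
  ([nat_lit 1, nat_lit 3, nat_lit 1], (nat_lit 6), [], (nat_lit 293251436)) ::
  ([nat_lit 3, nat_lit 2], (nat_lit 16), [], (nat_lit 294252106)) ::
  ([nat_lit 2, nat_lit 3, nat_lit 1, nat_lit 3], (nat_lit 22), [], (nat_lit 295031455)) ::
  ([nat_lit 1], (nat_lit 17), [], (nat_lit 296112446)) ::
  ([nat_lit 2, nat_lit 3], (nat_lit 9), [], (nat_lit 297236977)) ::
  ([nat_lit 2, nat_lit 3, nat_lit 1, nat_lit 1], (nat_lit 14), [], (nat_lit 297837207)) ::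
  ([nat_lit 3, nat_lit 1, nat_lit 3, nat_lit 4], (nat_lit 12), [], (nat_lit 297898597)) ::
  ([nat_lit 2, nat_lit 3], (nat_lit 6), [], (nat_lit 298908595)) ::
  ([nat_lit 2, nat_lit 3, nat_lit 4, nat_lit 3], (nat_lit 6), [], (nat_lit 299837547)) ::
  ([], (nat_lit 5), [], (nat_lit 299865888)) ::
  ([nat_lit 3, nat_lit 1, nat_lit 3, nat_lit 1], (nat_lit 3), [], (nat_lit 301513705)) ::
  ([nat_lit 3, nat_lit 2, nat_lit 3, nat_lit 2, nat_lit 2], (nat_lit 3), [], (nat_lit 302632742)) ::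
  ([nat_lit 2, nat_lit 2, nat_lit 3, nat_lit 2], (nat_lit 16), [], (nat_lit 303885030)) ::
  ([nat_lit 2, nat_lit 3, nat_lit 1, nat_lit 1], (nat_lit 12), [], (nat_lit 304103721)) ::
  ([nat_lit 1, nat_lit 3, nat_lit 4, nat_lit 1], (nat_lit 14), [], (nat_lit 306150947)) ::
  ([nat_lit 1, nat_lit 3, nat_lit 1], (nat_lit 1), [], (nat_lit 307097984)) ::
  ([nat_lit 1, nat_lit 3, nat_lit 1, nat_lit 1], (nat_lit 14), [], (nat_lit 308428981)) ::
  ([nat_lit 1, nat_lit 3, nat_lit 1, nat_lit 1], (nat_lit 3), [], (nat_lit 308461199)) ::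
  ([nat_lit 4, nat_lit 3, nat_lit 1], (nat_lit 18), [], (nat_lit 308980272)) ::
  ([nat_lit 3, nat_lit 2, nat_lit 3], (nat_lit 21), [], (nat_lit 309365012)) ::
  ([nat_lit 1, nat_lit 3, nat_lit 4, nat_lit 2], (nat_lit 22), [], (nat_lit 309835707)) ::
  ([nat_lit 3, nat_lit 1, nat_lit 1], (nat_lit 21), [], (nat_lit 310072817)) ::
  ([nat_lit 1, nat_lit 1, nat_lit 3], (nat_lit 16), [], (nat_lit 310504390)) ::
  ([nat_lit 3, nat_lit 2], (nat_lit 20), [], (nat_lit 312091555)) ::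
  ([nat_lit 1, nat_lit 1], (nat_lit 16), [], (nat_lit 314431432)) ::
  ([nat_lit 2, nat_lit 3, nat_lit 1], (nat_lit 15), [], (nat_lit 314954532)) ::
  ([nat_lit 4, nat_lit 2, nat_lit 3, nat_lit 2], (nat_lit 6), [], (nat_lit 315094426)) ::
  ([nat_lit 2, nat_lit 3, nat_lit 2, nat_lit 3], (nat_lit 5), [], (nat_lit 315748329)) ::
  ([nat_lit 2, nat_lit 2, nat_lit 3, nat_lit 2], (nat_lit 13), [], (nat_lit 315935445)) ::
  cbE350
noncomputable def cbE250 : List (List ℕ × ℕ × List ℕ × ℕ) :=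
  ([nat_lit 4, nat_lit 1, nat_lit 3, nat_lit 1], (nat_lit 3), [], (nat_lit 228439924)) ::
  ([nat_lit 1, nat_lit 3, nat_lit 2], (nat_lit 17), [], (nat_lit 228722227)) ::
  ([nat_lit 3, nat_lit 1], (nat_lit 23), [], (nat_lit 229809344)) ::
  ([nat_lit 1, nat_lit 3, nat_lit 4, nat_lit 3, nat_lit 2], (nat_lit 12), [], (nat_lit 230856640)) ::
  ([nat_lit 2, nat_lit 3, nat_lit 1], (nat_lit 21), [], (nat_lit 233774102)) ::
  ([nat_lit 4, nat_lit 1, nat_lit 3, nat_lit 2], (nat_lit 1), [], (nat_lit 235012223)) ::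
  ([nat_lit 2, nat_lit 3, nat_lit 1, nat_lit 3, nat_lit 1], (nat_lit 12), [], (nat_lit 235737249)) ::
  ([nat_lit 3, nat_lit 4, nat_lit 3, nat_lit 1], (nat_lit 6), [], (nat_lit 236916672)) ::
  ([nat_lit 3, nat_lit 1, nat_lit 1], (nat_lit 23), [], (nat_lit 237016107)) ::
  ([nat_lit 3], (nat_lit 15), [], (nat_lit 237106229)) ::
  ([nat_lit 1, nat_lit 3, nat_lit 2, nat_lit 2], (nat_lit 16), [], (nat_lit 237395911)) ::
  ([nat_lit 1, nat_lit 1, nat_lit 3], (nat_lit 4), [], (nat_lit 237856580)) ::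
  ([nat_lit 1, nat_lit 3, nat_lit 4, nat_lit 1], (nat_lit 18), [], (nat_lit 239461531)) ::
  ([nat_lit 2, nat_lit 3, nat_lit 4], (nat_lit 5), [], (nat_lit 240572202)) ::
  ([nat_lit 1], (nat_lit 14), [], (nat_lit 240787099)) ::
  ([nat_lit 4, nat_lit 3, nat_lit 1, nat_lit 1], (nat_lit 3), [], (nat_lit 242340683)) ::
  ([nat_lit 3, nat_lit 4, nat_lit 3], (nat_lit 22), [], (nat_lit 246043613)) ::
  ([nat_lit 3, nat_lit 1, nat_lit 3, nat_lit 1], (nat_lit 9), [], (nat_lit 246095920)) ::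
  ([nat_lit 2, nat_lit 3, nat_lit 1, nat_lit 3], (nat_lit 4), [], (nat_lit 247286178)) ::
  ([nat_lit 2, nat_lit 3, nat_lit 1, nat_lit 1], (nat_lit 19), [], (nat_lit 249214899)) ::
  ([nat_lit 4, nat_lit 2], (nat_lit 14), [], (nat_lit 250082247)) ::
  ([nat_lit 4, nat_lit 1, nat_lit 3], (nat_lit 15), [], (nat_lit 251274738)) ::
  ([nat_lit 1, nat_lit 3, nat_lit 4], (nat_lit 6), [], (nat_lit 252973550)) ::
  ([nat_lit 3, nat_lit 4], (nat_lit 4), [], (nat_lit 253846178)) ::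
  ([nat_lit 3, nat_lit 1, nat_lit 3, nat_lit 4], (nat_lit 16), [], (nat_lit 257041347)) ::
  ([nat_lit 1, nat_lit 3, nat_lit 4, nat_lit 3], (nat_lit 6), [], (nat_lit 257680403)) ::
  ([nat_lit 1, nat_lit 1, nat_lit 3], (nat_lit 13), [], (nat_lit 258308569)) ::
  ([nat_lit 1, nat_lit 3, nat_lit 4], (nat_lit 20), [], (nat_lit 258761387)) ::
  ([nat_lit 3, nat_lit 2, nat_lit 2], (nat_lit 18), [], (nat_lit 259631091)) ::
  ([nat_lit 2, nat_lit 3, nat_lit 1, nat_lit 1], (nat_lit 5), [], (nat_lit 259792751)) ::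
  ([nat_lit 4, nat_lit 1, nat_lit 3, nat_lit 2], (nat_lit 18), [], (nat_lit 259896723)) ::
  ([nat_lit 2, nat_lit 2, nat_lit 3, nat_lit 2], (nat_lit 10), [], (nat_lit 260296933)) ::
  ([nat_lit 4, nat_lit 3], (nat_lit 12), [], (nat_lit 261240261)) ::
  ([nat_lit 2, nat_lit 3, nat_lit 2, nat_lit 3, nat_lit 1], (nat_lit 10), [], (nat_lit 261877757)) ::
  ([nat_lit 1, nat_lit 3, nat_lit 2, nat_lit 2], (nat_lit 5), [], (nat_lit 262767459)) ::
  ([nat_lit 4, nat_lit 3, nat_lit 1], (nat_lit 13), [], (nat_lit 263399389)) ::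
  ([nat_lit 4, nat_lit 3, nat_lit 2, nat_lit 2], (nat_lit 16), [], (nat_lit 264802521)) ::
  ([], (nat_lit 8), [], (nat_lit 266875041)) ::
  ([nat_lit 3, nat_lit 4], (nat_lit 8), [], (nat_lit 266948743)) ::
  ([nat_lit 4, nat_lit 3, nat_lit 2, nat_lit 3, nat_lit 1], (nat_lit 3), [], (nat_lit 267625277)) ::
  ([nat_lit 3, nat_lit 2, nat_lit 3, nat_lit 2], (nat_lit 15), [], (nat_lit 268676008)) ::
  ([nat_lit 2, nat_lit 2, nat_lit 3, nat_lit 2], (nat_lit 14), [], (nat_lit 268835391)) ::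
  ([nat_lit 3, nat_lit 1, nat_lit 3, nat_lit 4], (nat_lit 5), [], (nat_lit 269407178)) ::
  ([nat_lit 4, nat_lit 3], (nat_lit 20), [], (nat_lit 269837927)) ::
  ([nat_lit 1, nat_lit 3, nat_lit 4, nat_lit 1], (nat_lit 6), [], (nat_lit 269875184)) ::
  ([nat_lit 1], (nat_lit 10), [], (nat_lit 271535622)) ::
  ([nat_lit 2, nat_lit 3], (nat_lit 7), [], (nat_lit 271774005)) ::
  ([nat_lit 3, nat_lit 4], (nat_lit 23), [], (nat_lit 273126681)) ::
  ([nat_lit 4, nat_lit 3, nat_lit 1], (nat_lit 16), [], (nat_lit 273294295)) ::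
  ([nat_lit 3, nat_lit 1, nat_lit 3], (nat_lit 0), [], (nat_lit 274704669)) ::
  cbE300
noncomputable def cbE200 : List (List ℕ × ℕ × List ℕ × ℕ) :=
  ([nat_lit 3, nat_lit 1], (nat_lit 12), [], (nat_lit 183618700)) ::
  ([nat_lit 1, nat_lit 3, nat_lit 4, nat_lit 1], (nat_lit 17), [], (nat_lit 184364495)) ::
  ([nat_lit 2, nat_lit 3, nat_lit 2, nat_lit 3, nat_lit 1], (nat_lit 6), [], (nat_lit 184639705)) ::
  ([nat_lit 2, nat_lit 3], (nat_lit 12), [], (nat_lit 184904463)) ::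
  ([nat_lit 3, nat_lit 1, nat_lit 3, nat_lit 1], (nat_lit 5), [], (nat_lit 185191995)) ::
  ([nat_lit 1, nat_lit 3, nat_lit 4, nat_lit 1], (nat_lit 3), [], (nat_lit 185231923)) ::
  ([nat_lit 2, nat_lit 2, nat_lit 3, nat_lit 2], (nat_lit 20), [], (nat_lit 186757124)) ::
  ([nat_lit 4, nat_lit 3], (nat_lit 19), [], (nat_lit 187511249)) ::
  ([nat_lit 2], (nat_lit 7), [], (nat_lit 190733877)) ::
  ([nat_lit 1, nat_lit 1, nat_lit 3, nat_lit 1], (nat_lit 15), [], (nat_lit 192503725)) ::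
  ([nat_lit 4, nat_lit 2, nat_lit 3], (nat_lit 16), [], (nat_lit 193729823)) ::
  ([nat_lit 4, nat_lit 3, nat_lit 1, nat_lit 1], (nat_lit 15), [], (nat_lit 194285523)) ::
  ([nat_lit 1, nat_lit 3, nat_lit 4], (nat_lit 4), [], (nat_lit 195624070)) ::
  ([nat_lit 2, nat_lit 3, nat_lit 4, nat_lit 3], (nat_lit 10), [], (nat_lit 195873074)) ::
  ([nat_lit 3, nat_lit 1], (nat_lit 17), [], (nat_lit 196018087)) ::
  ([nat_lit 3, nat_lit 2, nat_lit 3, nat_lit 1], (nat_lit 1), [], (nat_lit 197068596)) ::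
  ([nat_lit 2, nat_lit 3], (nat_lit 15), [], (nat_lit 197190038)) ::
  ([nat_lit 1, nat_lit 3], (nat_lit 4), [], (nat_lit 197318437)) ::
  ([nat_lit 1, nat_lit 1], (nat_lit 15), [], (nat_lit 197388757)) ::
  ([nat_lit 1, nat_lit 3, nat_lit 1, nat_lit 1], (nat_lit 21), [], (nat_lit 198892324)) ::
  ([nat_lit 1, nat_lit 3, nat_lit 4, nat_lit 1], (nat_lit 4), [], (nat_lit 199489694)) ::
  ([nat_lit 2, nat_lit 3, nat_lit 2, nat_lit 3], (nat_lit 12), [], (nat_lit 199654734)) ::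
  ([nat_lit 4, nat_lit 1], (nat_lit 12), [], (nat_lit 200496001)) ::
  ([nat_lit 4, nat_lit 2], (nat_lit 8), [], (nat_lit 200711196)) ::
  ([nat_lit 4, nat_lit 2, nat_lit 3], (nat_lit 19), [], (nat_lit 202093926)) ::
  ([nat_lit 3, nat_lit 2, nat_lit 3, nat_lit 2], (nat_lit 5), [], (nat_lit 202461484)) ::
  ([nat_lit 3, nat_lit 4, nat_lit 1], (nat_lit 9), [], (nat_lit 202614054)) ::
  ([nat_lit 2, nat_lit 3, nat_lit 2, nat_lit 3, nat_lit 1], (nat_lit 5), [], (nat_lit 203332574)) ::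
  ([nat_lit 4, nat_lit 2, nat_lit 3], (nat_lit 4), [], (nat_lit 205456820)) ::
  ([nat_lit 4], (nat_lit 7), [], (nat_lit 208213404)) ::
  ([nat_lit 4, nat_lit 2, nat_lit 3, nat_lit 2], (nat_lit 21), [], (nat_lit 209603061)) ::
  ([nat_lit 1, nat_lit 1, nat_lit 3, nat_lit 2], (nat_lit 3), [], (nat_lit 211307755)) ::
  ([nat_lit 4, nat_lit 2, nat_lit 3, nat_lit 1], (nat_lit 1), [], (nat_lit 213168530)) ::
  ([nat_lit 3, nat_lit 2, nat_lit 3, nat_lit 2, nat_lit 2], (nat_lit 4), [], (nat_lit 215009459)) ::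
  ([nat_lit 1, nat_lit 3, nat_lit 2], (nat_lit 1), [], (nat_lit 215870983)) ::
  ([nat_lit 1, nat_lit 3, nat_lit 4, nat_lit 3], (nat_lit 9), [], (nat_lit 216293623)) ::
  ([nat_lit 1, nat_lit 1, nat_lit 3, nat_lit 1], (nat_lit 5), [], (nat_lit 216454634)) ::
  ([nat_lit 2, nat_lit 3, nat_lit 2, nat_lit 2], (nat_lit 16), [], (nat_lit 216570787)) ::
  ([nat_lit 2, nat_lit 3, nat_lit 4, nat_lit 1], (nat_lit 6), [], (nat_lit 217118247)) ::
  ([nat_lit 4, nat_lit 2, nat_lit 3, nat_lit 2], (nat_lit 20), [], (nat_lit 217605439)) ::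
  ([nat_lit 1], (nat_lit 16), [], (nat_lit 217948495)) ::
  ([nat_lit 3, nat_lit 1, nat_lit 3, nat_lit 1], (nat_lit 21), [], (nat_lit 218869770)) ::
  ([nat_lit 2, nat_lit 3, nat_lit 2], (nat_lit 15), [], (nat_lit 219490146)) ::
  ([nat_lit 4, nat_lit 3], (nat_lit 4), [], (nat_lit 220736086)) ::
  ([nat_lit 4, nat_lit 1], (nat_lit 20), [], (nat_lit 222166712)) ::
  ([nat_lit 1, nat_lit 1, nat_lit 3, nat_lit 2], (nat_lit 21), [], (nat_lit 222466872)) ::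
  ([nat_lit 4, nat_lit 2, nat_lit 3, nat_lit 1], (nat_lit 6), [], (nat_lit 224365464)) ::
  ([nat_lit 2, nat_lit 3, nat_lit 1, nat_lit 1], (nat_lit 1), [], (nat_lit 225483714)) ::
  ([nat_lit 2, nat_lit 3, nat_lit 4], (nat_lit 10), [], (nat_lit 225602401)) ::
  ([nat_lit 2, nat_lit 3, nat_lit 1, nat_lit 3], (nat_lit 13), [], (nat_lit 227054919)) ::
  cbE250
noncomputable def cbE150 : List (List ℕ × ℕ × List ℕ × ℕ) :=
  ([nat_lit 4, nat_lit 1, nat_lit 3, nat_lit 1, nat_lit 1], (nat_lit 13), [], (nat_lit 131927377)) ::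
  ([nat_lit 4, nat_lit 1, nat_lit 3, nat_lit 2], (nat_lit 3), [], (nat_lit 133335783)) ::
  ([nat_lit 1], (nat_lit 3), [], (nat_lit 133710288)) ::
  ([nat_lit 3, nat_lit 4, nat_lit 3, nat_lit 2], (nat_lit 21), [], (nat_lit 135405778)) ::
  ([nat_lit 2, nat_lit 3, nat_lit 2, nat_lit 3], (nat_lit 15), [], (nat_lit 135830308)) ::
  ([nat_lit 4, nat_lit 2, nat_lit 3], (nat_lit 3), [], (nat_lit 139476919)) ::
  ([nat_lit 4, nat_lit 2, nat_lit 3, nat_lit 1], (nat_lit 17), [], (nat_lit 141479909)) ::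
  ([nat_lit 1, nat_lit 1, nat_lit 3, nat_lit 1], (nat_lit 1), [], (nat_lit 144875507)) ::
  ([nat_lit 1, nat_lit 3, nat_lit 4, nat_lit 2], (nat_lit 3), [], (nat_lit 146072704)) ::
  ([nat_lit 3, nat_lit 2, nat_lit 3], (nat_lit 10), [], (nat_lit 146362805)) ::
  ([nat_lit 2, nat_lit 3, nat_lit 2, nat_lit 2], (nat_lit 11), [], (nat_lit 148143728)) ::
  ([nat_lit 3, nat_lit 1, nat_lit 3, nat_lit 1], (nat_lit 4), [], (nat_lit 148350869)) ::
  ([], (nat_lit 24), [], (nat_lit 148673329)) ::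
  ([nat_lit 3, nat_lit 2, nat_lit 2], (nat_lit 15), [], (nat_lit 149538622)) ::
  ([nat_lit 4, nat_lit 1], (nat_lit 3), [], (nat_lit 150094454)) ::
  ([nat_lit 2, nat_lit 3, nat_lit 2, nat_lit 3], (nat_lit 4), [], (nat_lit 150805690)) ::
  ([nat_lit 3, nat_lit 4, nat_lit 1], (nat_lit 17), [], (nat_lit 150916590)) ::
  ([nat_lit 3, nat_lit 1, nat_lit 1], (nat_lit 12), [], (nat_lit 151625361)) ::
  ([nat_lit 4], (nat_lit 23), [], (nat_lit 151682832)) ::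
  ([nat_lit 3, nat_lit 2], (nat_lit 15), [], (nat_lit 152133142)) ::
  ([nat_lit 4, nat_lit 2, nat_lit 3], (nat_lit 2), [], (nat_lit 153165617)) ::
  ([nat_lit 4, nat_lit 3, nat_lit 1, nat_lit 1], (nat_lit 21), [], (nat_lit 153807315)) ::
  ([nat_lit 3, nat_lit 4, nat_lit 2], (nat_lit 15), [], (nat_lit 155474117)) ::
  ([nat_lit 4, nat_lit 3, nat_lit 2, nat_lit 3, nat_lit 1], (nat_lit 4), [], (nat_lit 156980732)) ::
  ([nat_lit 3, nat_lit 2, nat_lit 3, nat_lit 2, nat_lit 2], (nat_lit 15), [], (nat_lit 157020174)) ::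
  ([nat_lit 3], (nat_lit 9), [], (nat_lit 158271385)) ::
  ([], (nat_lit 4), [], (nat_lit 158437115)) ::
  ([nat_lit 4, nat_lit 3, nat_lit 2, nat_lit 3], (nat_lit 3), [], (nat_lit 162135534)) ::
  ([nat_lit 1, nat_lit 1, nat_lit 3], (nat_lit 0), [], (nat_lit 162842259)) ::
  ([nat_lit 2, nat_lit 3, nat_lit 4], (nat_lit 4), [], (nat_lit 163673017)) ::
  ([nat_lit 3, nat_lit 1, nat_lit 1], (nat_lit 20), [], (nat_lit 164721858)) ::
  ([nat_lit 2, nat_lit 2, nat_lit 3], (nat_lit 3), [], (nat_lit 164728541)) ::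
  ([nat_lit 3, nat_lit 2, nat_lit 3, nat_lit 1], (nat_lit 15), [], (nat_lit 165964355)) ::
  ([nat_lit 4, nat_lit 1, nat_lit 3, nat_lit 1, nat_lit 1], (nat_lit 6), [], (nat_lit 165971579)) ::
  ([nat_lit 1, nat_lit 3, nat_lit 4, nat_lit 2], (nat_lit 15), [], (nat_lit 167772728)) ::
  ([nat_lit 2, nat_lit 3, nat_lit 4, nat_lit 3], (nat_lit 15), [], (nat_lit 168767778)) ::
  ([nat_lit 3, nat_lit 2, nat_lit 3], (nat_lit 16), [], (nat_lit 168913418)) ::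
  ([nat_lit 4], (nat_lit 24), [], (nat_lit 169756719)) ::
  ([nat_lit 2, nat_lit 3, nat_lit 1], (nat_lit 18), [], (nat_lit 169942709)) ::
  ([nat_lit 4], (nat_lit 21), [], (nat_lit 170409418)) ::
  ([nat_lit 2, nat_lit 3], (nat_lit 19), [], (nat_lit 170424702)) ::
  ([nat_lit 4, nat_lit 1, nat_lit 3], (nat_lit 12), [], (nat_lit 171869030)) ::
  ([nat_lit 1, nat_lit 3, nat_lit 4, nat_lit 3, nat_lit 2], (nat_lit 16), [], (nat_lit 172123014)) ::
  ([nat_lit 2, nat_lit 3, nat_lit 4], (nat_lit 6), [], (nat_lit 172250656)) ::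
  ([nat_lit 3, nat_lit 2, nat_lit 2], (nat_lit 22), [], (nat_lit 175613850)) ::
  ([nat_lit 3, nat_lit 4, nat_lit 2], (nat_lit 17), [], (nat_lit 176748774)) ::
  ([nat_lit 4, nat_lit 2], (nat_lit 21), [], (nat_lit 176945053)) ::
  ([nat_lit 2, nat_lit 3, nat_lit 4, nat_lit 2], (nat_lit 12), [], (nat_lit 178194498)) ::
  ([nat_lit 1, nat_lit 3, nat_lit 4, nat_lit 3], (nat_lit 16), [], (nat_lit 179275922)) ::
  ([nat_lit 3, nat_lit 1], (nat_lit 5), [], (nat_lit 179300697)) ::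
  cbE200
noncomputable def cbE100 : List (List ℕ × ℕ × List ℕ × ℕ) :=
  ([nat_lit 3, nat_lit 2, nat_lit 3], (nat_lit 4), [], (nat_lit 90819475)) ::
  ([nat_lit 1, nat_lit 3], (nat_lit 0), [], (nat_lit 90925201)) ::
  ([nat_lit 3, nat_lit 1, nat_lit 3, nat_lit 1], (nat_lit 13), [], (nat_lit 92810918)) ::
  ([nat_lit 2, nat_lit 3, nat_lit 4, nat_lit 3, nat_lit 1], (nat_lit 3), [], (nat_lit 94284572)) ::
  ([nat_lit 1, nat_lit 1, nat_lit 3, nat_lit 1], (nat_lit 17), [], (nat_lit 94999472)) ::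
  ([nat_lit 2, nat_lit 3, nat_lit 4, nat_lit 2], (nat_lit 15), [], (nat_lit 95147847)) ::
  ([nat_lit 3, nat_lit 1, nat_lit 3, nat_lit 4], (nat_lit 21), [], (nat_lit 96186360)) ::
  ([nat_lit 3, nat_lit 2, nat_lit 3, nat_lit 2, nat_lit 2], (nat_lit 12), [], (nat_lit 99485596)) ::
  ([nat_lit 3, nat_lit 4, nat_lit 2], (nat_lit 20), [], (nat_lit 99955501)) ::
  ([nat_lit 2, nat_lit 3, nat_lit 4], (nat_lit 9), [], (nat_lit 100720415)) ::
  ([nat_lit 2, nat_lit 2, nat_lit 3, nat_lit 2], (nat_lit 22), [], (nat_lit 103140201)) ::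
  ([nat_lit 2], (nat_lit 14), [], (nat_lit 103279843)) ::
  ([nat_lit 2, nat_lit 2, nat_lit 3, nat_lit 1], (nat_lit 4), [], (nat_lit 104651924)) ::
  ([nat_lit 4, nat_lit 3], (nat_lit 23), [], (nat_lit 106652719)) ::
  ([nat_lit 3, nat_lit 4, nat_lit 3, nat_lit 1], (nat_lit 21), [], (nat_lit 107826271)) ::
  ([nat_lit 1], (nat_lit 5), [], (nat_lit 108289774)) ::
  ([nat_lit 2, nat_lit 2, nat_lit 3, nat_lit 1, nat_lit 1], (nat_lit 4), [], (nat_lit 109109246)) ::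
  ([nat_lit 4], (nat_lit 9), [], (nat_lit 109117969)) ::
  ([nat_lit 3, nat_lit 2, nat_lit 2], (nat_lit 16), [], (nat_lit 113285676)) ::
  ([nat_lit 4, nat_lit 1, nat_lit 3], (nat_lit 7), [], (nat_lit 113349119)) ::
  ([nat_lit 1, nat_lit 1], (nat_lit 7), [], (nat_lit 113598197)) ::
  ([nat_lit 1, nat_lit 3, nat_lit 2], (nat_lit 5), [], (nat_lit 114985143)) ::
  ([nat_lit 4, nat_lit 1, nat_lit 3, nat_lit 1, nat_lit 1], (nat_lit 12), [], (nat_lit 115349173)) ::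
  ([nat_lit 3, nat_lit 4, nat_lit 3], (nat_lit 12), [], (nat_lit 115553728)) ::
  ([nat_lit 4, nat_lit 2, nat_lit 3], (nat_lit 13), [], (nat_lit 116921518)) ::
  ([nat_lit 1, nat_lit 1], (nat_lit 1), [], (nat_lit 117102382)) ::
  ([nat_lit 1, nat_lit 1], (nat_lit 21), [], (nat_lit 117528441)) ::
  ([], (nat_lit 3), [], (nat_lit 118496979)) ::
  ([nat_lit 3, nat_lit 4, nat_lit 1], (nat_lit 22), [], (nat_lit 118988984)) ::
  ([nat_lit 2, nat_lit 3, nat_lit 1, nat_lit 3, nat_lit 1], (nat_lit 15), [], (nat_lit 119445657)) ::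
  ([nat_lit 1, nat_lit 1], (nat_lit 18), [], (nat_lit 119675635)) ::
  ([nat_lit 1, nat_lit 3], (nat_lit 19), [], (nat_lit 119738064)) ::
  ([nat_lit 4, nat_lit 1, nat_lit 3], (nat_lit 21), [], (nat_lit 120017897)) ::
  ([nat_lit 2, nat_lit 3, nat_lit 2], (nat_lit 3), [], (nat_lit 120351277)) ::
  ([nat_lit 4, nat_lit 1, nat_lit 3], (nat_lit 6), [], (nat_lit 120648315)) ::
  ([nat_lit 1, nat_lit 3, nat_lit 1, nat_lit 1], (nat_lit 9), [], (nat_lit 122798771)) ::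
  ([nat_lit 1], (nat_lit 2), [], (nat_lit 123031399)) ::
  ([nat_lit 4, nat_lit 2, nat_lit 3], (nat_lit 12), [], (nat_lit 123988604)) ::
  ([nat_lit 3, nat_lit 1, nat_lit 3], (nat_lit 6), [], (nat_lit 124306979)) ::
  ([nat_lit 2, nat_lit 3, nat_lit 2], (nat_lit 11), [], (nat_lit 124672991)) ::
  ([nat_lit 2, nat_lit 2], (nat_lit 18), [], (nat_lit 125257684)) ::
  ([nat_lit 2, nat_lit 3, nat_lit 4, nat_lit 3, nat_lit 1], (nat_lit 4), [], (nat_lit 125488291)) ::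
  ([nat_lit 2, nat_lit 2], (nat_lit 21), [], (nat_lit 126941705)) ::
  ([nat_lit 2, nat_lit 3, nat_lit 2, nat_lit 2], (nat_lit 12), [], (nat_lit 127181160)) ::
  ([nat_lit 2, nat_lit 3, nat_lit 4], (nat_lit 16), [], (nat_lit 127303758)) ::
  ([nat_lit 4, nat_lit 2, nat_lit 3, nat_lit 2], (nat_lit 14), [], (nat_lit 128216697)) ::
  ([nat_lit 1], (nat_lit 24), [], (nat_lit 129518428)) ::
  ([nat_lit 4], (nat_lit 16), [], (nat_lit 130155597)) ::
  ([nat_lit 2, nat_lit 2, nat_lit 3, nat_lit 1], (nat_lit 3), [], (nat_lit 130667634)) ::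
  ([nat_lit 1, nat_lit 3, nat_lit 4], (nat_lit 10), [], (nat_lit 131685793)) ::
  cbE150
noncomputable def cbE50 : List (List ℕ × ℕ × List ℕ × ℕ) :=
  ([], (nat_lit 15), [], (nat_lit 45033611)) ::
  ([nat_lit 1, nat_lit 3], (nat_lit 3), [], (nat_lit 45379491)) ::
  ([nat_lit 2, nat_lit 3, nat_lit 1, nat_lit 3, nat_lit 1], (nat_lit 3), [], (nat_lit 45466827)) ::
  ([nat_lit 4, nat_lit 1, nat_lit 3, nat_lit 1], (nat_lit 18), [], (nat_lit 47140056)) ::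
  ([nat_lit 1, nat_lit 1, nat_lit 3], (nat_lit 5), [], (nat_lit 48649648)) ::
  ([nat_lit 4, nat_lit 3], (nat_lit 0), [], (nat_lit 48658021)) ::
  ([nat_lit 1, nat_lit 1, nat_lit 3, nat_lit 1], (nat_lit 21), [], (nat_lit 49357702)) ::
  ([nat_lit 3, nat_lit 1, nat_lit 3], (nat_lit 13), [], (nat_lit 51084889)) ::
  ([nat_lit 3, nat_lit 4, nat_lit 1], (nat_lit 6), [], (nat_lit 53399268)) ::
  ([nat_lit 2, nat_lit 3, nat_lit 4, nat_lit 1], (nat_lit 5), [], (nat_lit 54567575)) ::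
  ([nat_lit 1, nat_lit 3], (nat_lit 14), [], (nat_lit 57001771)) ::
  ([nat_lit 1, nat_lit 3, nat_lit 1, nat_lit 1], (nat_lit 4), [], (nat_lit 58694074)) ::
  ([nat_lit 4], (nat_lit 18), [], (nat_lit 60364199)) ::
  ([nat_lit 2, nat_lit 2, nat_lit 3, nat_lit 2], (nat_lit 9), [], (nat_lit 63776109)) ::
  ([nat_lit 4, nat_lit 2, nat_lit 3, nat_lit 1], (nat_lit 3), [], (nat_lit 65905830)) ::
  ([nat_lit 1, nat_lit 3, nat_lit 1, nat_lit 1], (nat_lit 7), [], (nat_lit 66912538)) ::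
  ([nat_lit 4, nat_lit 2, nat_lit 3, nat_lit 2], (nat_lit 4), [], (nat_lit 66935814)) ::
  ([nat_lit 4, nat_lit 3, nat_lit 1, nat_lit 1], (nat_lit 9), [], (nat_lit 67144716)) ::
  ([nat_lit 3], (nat_lit 17), [], (nat_lit 67998126)) ::
  ([], (nat_lit 0), [], (nat_lit 69746833)) ::
  ([nat_lit 1, nat_lit 3, nat_lit 4, nat_lit 3], (nat_lit 10), [], (nat_lit 70549217)) ::
  ([nat_lit 4, nat_lit 3, nat_lit 2, nat_lit 3, nat_lit 1], (nat_lit 15), [], (nat_lit 70911078)) ::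
  ([nat_lit 2, nat_lit 3, nat_lit 1, nat_lit 3], (nat_lit 21), [], (nat_lit 71331036)) ::
  ([nat_lit 3, nat_lit 4, nat_lit 3, nat_lit 1], (nat_lit 17), [], (nat_lit 72047684)) ::
  ([nat_lit 4, nat_lit 1], (nat_lit 23), [], (nat_lit 72599880)) ::
  ([nat_lit 3, nat_lit 2, nat_lit 3], (nat_lit 13), [], (nat_lit 73851426)) ::
  ([nat_lit 2, nat_lit 2, nat_lit 3], (nat_lit 19), [], (nat_lit 73943747)) ::
  ([nat_lit 3, nat_lit 4, nat_lit 1], (nat_lit 20), [], (nat_lit 73982060)) ::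
  ([nat_lit 2, nat_lit 3, nat_lit 2], (nat_lit 14), [], (nat_lit 75072286)) ::
  ([nat_lit 4, nat_lit 3], (nat_lit 15), [], (nat_lit 75902446)) ::
  ([nat_lit 3, nat_lit 2, nat_lit 2], (nat_lit 21), [], (nat_lit 76808802)) ::
  ([nat_lit 3, nat_lit 1, nat_lit 3, nat_lit 1], (nat_lit 1), [], (nat_lit 77207240)) ::
  ([nat_lit 4, nat_lit 3, nat_lit 2], (nat_lit 10), [], (nat_lit 78402353)) ::
  ([nat_lit 1, nat_lit 3, nat_lit 4, nat_lit 2], (nat_lit 20), [], (nat_lit 78440511)) ::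
  ([nat_lit 3, nat_lit 4, nat_lit 3, nat_lit 2], (nat_lit 10), [], (nat_lit 78527799)) ::
  ([nat_lit 4, nat_lit 3, nat_lit 1, nat_lit 1], (nat_lit 17), [], (nat_lit 78949007)) ::
  ([nat_lit 3, nat_lit 2], (nat_lit 21), [], (nat_lit 79262306)) ::
  ([nat_lit 1, nat_lit 3, nat_lit 1, nat_lit 1], (nat_lit 22), [], (nat_lit 79972150)) ::
  ([nat_lit 2], (nat_lit 19), [], (nat_lit 79979168)) ::
  ([nat_lit 2, nat_lit 2, nat_lit 3, nat_lit 2], (nat_lit 12), [], (nat_lit 80485661)) ::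
  ([nat_lit 4, nat_lit 1, nat_lit 3], (nat_lit 16), [], (nat_lit 80596762)) ::
  ([nat_lit 3], (nat_lit 18), [], (nat_lit 81615132)) ::
  ([nat_lit 3, nat_lit 4, nat_lit 2], (nat_lit 14), [], (nat_lit 83396606)) ::
  ([nat_lit 2, nat_lit 3, nat_lit 1, nat_lit 3], (nat_lit 12), [], (nat_lit 83475334)) ::
  ([nat_lit 3, nat_lit 2, nat_lit 3, nat_lit 1], (nat_lit 3), [], (nat_lit 86943420)) ::
  ([nat_lit 4, nat_lit 2, nat_lit 3, nat_lit 2], (nat_lit 9), [], (nat_lit 87319572)) ::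
  ([nat_lit 4, nat_lit 1, nat_lit 3, nat_lit 1], (nat_lit 4), [], (nat_lit 88523193)) ::
  ([nat_lit 3, nat_lit 2, nat_lit 2], (nat_lit 17), [], (nat_lit 88771974)) ::
  ([nat_lit 1, nat_lit 3, nat_lit 4, nat_lit 2], (nat_lit 14), [], (nat_lit 89603659)) ::
  ([nat_lit 3, nat_lit 4, nat_lit 3, nat_lit 1], (nat_lit 9), [], (nat_lit 90177385)) ::
  cbE100
noncomputable def cbE : List (List ℕ × ℕ × List ℕ × ℕ) :=
  ([nat_lit 2, nat_lit 3, nat_lit 2], (nat_lit 23), [], (nat_lit 693810)) ::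
  ([], (nat_lit 7), [], (nat_lit 846583)) ::
  ([nat_lit 2, nat_lit 3, nat_lit 1, nat_lit 3], (nat_lit 14), [], (nat_lit 2449241)) ::
  ([nat_lit 3, nat_lit 1, nat_lit 1], (nat_lit 6), [], (nat_lit 4500998)) ::
  ([nat_lit 3, nat_lit 2], (nat_lit 5), [], (nat_lit 5022962)) ::
  ([nat_lit 3, nat_lit 4, nat_lit 2], (nat_lit 16), [], (nat_lit 5607703)) ::
  ([], (nat_lit 20), [], (nat_lit 6260320)) ::
  ([nat_lit 2], (nat_lit 16), [], (nat_lit 7626430)) ::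
  ([nat_lit 4, nat_lit 1, nat_lit 3, nat_lit 2], (nat_lit 17), [], (nat_lit 7633678)) ::
  ([nat_lit 1, nat_lit 3], (nat_lit 18), [], (nat_lit 9427845)) ::
  ([nat_lit 2, nat_lit 2], (nat_lit 8), [], (nat_lit 10585893)) ::
  ([nat_lit 2, nat_lit 3], (nat_lit 14), [], (nat_lit 10935424)) ::
  ([nat_lit 2, nat_lit 3], (nat_lit 20), [], (nat_lit 13439569)) ::
  ([nat_lit 2, nat_lit 3, nat_lit 1, nat_lit 1], (nat_lit 9), [], (nat_lit 13521358)) ::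
  ([nat_lit 3, nat_lit 2, nat_lit 3], (nat_lit 6), [], (nat_lit 13563099)) ::
  ([nat_lit 3, nat_lit 2, nat_lit 3, nat_lit 1], (nat_lit 4), [], (nat_lit 14627534)) ::
  ([nat_lit 3, nat_lit 4], (nat_lit 21), [], (nat_lit 15908884)) ::
  ([nat_lit 2, nat_lit 2, nat_lit 3], (nat_lit 10), [], (nat_lit 17875433)) ::
  ([nat_lit 2], (nat_lit 12), [], (nat_lit 18170257)) ::
  ([nat_lit 2, nat_lit 3, nat_lit 1, nat_lit 1], (nat_lit 13), [], (nat_lit 18351094)) ::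
  ([nat_lit 3, nat_lit 2, nat_lit 3], (nat_lit 1), [], (nat_lit 18648313)) ::
  ([nat_lit 4, nat_lit 1, nat_lit 3, nat_lit 1], (nat_lit 13), [], (nat_lit 19287912)) ::
  ([nat_lit 4, nat_lit 1, nat_lit 3, nat_lit 1], (nat_lit 6), [], (nat_lit 19320886)) ::
  ([nat_lit 4, nat_lit 3, nat_lit 1], (nat_lit 15), [], (nat_lit 21974499)) ::
  ([nat_lit 4, nat_lit 1, nat_lit 3, nat_lit 1, nat_lit 1], (nat_lit 1), [], (nat_lit 27007491)) ::
  ([nat_lit 4, nat_lit 2, nat_lit 3], (nat_lit 21), [], (nat_lit 27106143)) ::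
  ([nat_lit 4, nat_lit 2], (nat_lit 22), [], (nat_lit 27119530)) ::
  ([nat_lit 2], (nat_lit 10), [], (nat_lit 29382114)) ::
  ([nat_lit 2], (nat_lit 6), [], (nat_lit 29389052)) ::
  ([nat_lit 4, nat_lit 3], (nat_lit 1), [], (nat_lit 29661592)) ::
  ([nat_lit 2, nat_lit 3, nat_lit 4, nat_lit 2], (nat_lit 21), [], (nat_lit 31513269)) ::
  ([nat_lit 4, nat_lit 2, nat_lit 3, nat_lit 1], (nat_lit 12), [], (nat_lit 32063856)) ::
  ([nat_lit 1, nat_lit 3, nat_lit 4, nat_lit 2], (nat_lit 12), [], (nat_lit 32716710)) ::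
  ([nat_lit 1, nat_lit 1, nat_lit 3, nat_lit 4], (nat_lit 15), [], (nat_lit 33634226)) ::
  ([nat_lit 4, nat_lit 3], (nat_lit 9), [], (nat_lit 34128618)) ::
  ([], (nat_lit 12), [], (nat_lit 34735905)) ::
  ([nat_lit 4, nat_lit 3, nat_lit 2, nat_lit 3], (nat_lit 6), [], (nat_lit 35788338)) ::
  ([nat_lit 2, nat_lit 3], (nat_lit 18), [], (nat_lit 36045795)) ::
  ([nat_lit 1, nat_lit 3, nat_lit 4, nat_lit 3, nat_lit 2], (nat_lit 4), [], (nat_lit 37368083)) ::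
  ([nat_lit 4, nat_lit 2, nat_lit 3, nat_lit 1], (nat_lit 16), [], (nat_lit 37885509)) ::
  ([nat_lit 1, nat_lit 1, nat_lit 3, nat_lit 2], (nat_lit 9), [], (nat_lit 39102356)) ::
  ([nat_lit 1, nat_lit 3, nat_lit 4, nat_lit 1], (nat_lit 10), [], (nat_lit 39146893)) ::
  ([nat_lit 4, nat_lit 1, nat_lit 3, nat_lit 1], (nat_lit 9), [], (nat_lit 39382651)) ::
  ([nat_lit 2, nat_lit 3, nat_lit 1], (nat_lit 17), [], (nat_lit 41208435)) ::
  ([nat_lit 4, nat_lit 2, nat_lit 3], (nat_lit 22), [], (nat_lit 41440937)) ::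
  ([nat_lit 4, nat_lit 2, nat_lit 3, nat_lit 2], (nat_lit 12), [], (nat_lit 43156429)) ::
  ([nat_lit 1], (nat_lit 13), [], (nat_lit 43287459)) ::
  ([nat_lit 3, nat_lit 4, nat_lit 3, nat_lit 1], (nat_lit 12), [], (nat_lit 43926079)) ::
  ([nat_lit 4, nat_lit 3, nat_lit 2, nat_lit 3], (nat_lit 4), [], (nat_lit 44718850)) ::
  ([nat_lit 3, nat_lit 2, nat_lit 2], (nat_lit 8), [], (nat_lit 44981344)) ::
  cbE50
noncomputable def cb : Cv := ⟨(nat_lit 1), (nat_lit 7), (nat_lit 12), (nat_lit 0x8000040000204081000400002040810000000), (nat_lit 1000000007), (nat_lit 4), [nat_lit 0, nat_lit 1, nat_lit 1, nat_lit 0, nat_lit 0], [nat_lit 0, nat_lit 2, nat_lit 1, nat_lit 3, nat_lit 4, nat_lit 6, nat_lit 5, nat_lit 7, nat_lit 8, nat_lit 9, nat_lit 10, nat_lit 11], cbW, cbE⟩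
noncomputable def cbV : List (List ℕ × List ℕ) :=
  ([], []) ::
  ([nat_lit 7], [nat_lit 7, nat_lit 4, nat_lit 1, nat_lit 0, nat_lit 7]) ::
  ([nat_lit 11], [nat_lit 3, nat_lit 2, nat_lit 3, nat_lit 4, nat_lit 6, nat_lit 1, nat_lit 0]) ::
  ([nat_lit 8, nat_lit 7], [nat_lit 3, nat_lit 0, nat_lit 3, nat_lit 1]) ::
  ([nat_lit 7, nat_lit 8], [nat_lit 0, nat_lit 1, nat_lit 3, nat_lit 0, nat_lit 6, nat_lit 4]) ::
  ([nat_lit 11, nat_lit 8], [nat_lit 0, nat_lit 2, nat_lit 5, nat_lit 4, nat_lit 1]) ::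
  ([nat_lit 8, nat_lit 9], [nat_lit 4, nat_lit 0, nat_lit 1, nat_lit 6]) ::
  ([nat_lit 11, nat_lit 10], [nat_lit 5, nat_lit 0, nat_lit 6, nat_lit 5, nat_lit 1]) ::
  ([nat_lit 8, nat_lit 11], [nat_lit 1, nat_lit 2, nat_lit 6, nat_lit 0]) ::
  ([nat_lit 7, nat_lit 8, nat_lit 3], [nat_lit 1, nat_lit 3, nat_lit 3, nat_lit 0]) ::
  ([nat_lit 7, nat_lit 8, nat_lit 7], [nat_lit 1, nat_lit 2, nat_lit 1, nat_lit 5, nat_lit 0]) ::
  ([nat_lit 11, nat_lit 8, nat_lit 7], [nat_lit 0, nat_lit 1, nat_lit 6, nat_lit 3]) ::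
  ([nat_lit 11, nat_lit 9, nat_lit 8], [nat_lit 4, nat_lit 1, nat_lit 7, nat_lit 0]) ::
  ([nat_lit 8, nat_lit 11, nat_lit 8], [nat_lit 1, nat_lit 0, nat_lit 2, nat_lit 0, nat_lit 7]) ::
  ([nat_lit 9, nat_lit 11, nat_lit 8], [nat_lit 0, nat_lit 1, nat_lit 6]) ::
  ([nat_lit 7, nat_lit 8, nat_lit 9], [nat_lit 0, nat_lit 6, nat_lit 1]) ::
  ([nat_lit 7, nat_lit 10, nat_lit 9], [nat_lit 3, nat_lit 0, nat_lit 7, nat_lit 1, nat_lit 0]) ::
  ([nat_lit 9, nat_lit 10, nat_lit 9], [nat_lit 3, nat_lit 1, nat_lit 4, nat_lit 0, nat_lit 1]) ::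
  ([nat_lit 7, nat_lit 8, nat_lit 7, nat_lit 3], [nat_lit 1, nat_lit 4, nat_lit 3, nat_lit 0]) ::
  ([nat_lit 9, nat_lit 8, nat_lit 7, nat_lit 3], [nat_lit 2, nat_lit 6, nat_lit 5, nat_lit 1, nat_lit 0]) ::
  ([nat_lit 8, nat_lit 7, nat_lit 8, nat_lit 3], [nat_lit 0, nat_lit 2, nat_lit 2, nat_lit 1]) ::
  ([nat_lit 9, nat_lit 8, nat_lit 9, nat_lit 3], [nat_lit 6, nat_lit 0, nat_lit 1, nat_lit 2, nat_lit 1]) ::
  ([nat_lit 8, nat_lit 9, nat_lit 10, nat_lit 3], [nat_lit 0, nat_lit 2, nat_lit 1]) ::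
  ([nat_lit 8, nat_lit 9, nat_lit 1, nat_lit 7], [nat_lit 1, nat_lit 4, nat_lit 0]) ::
  ([nat_lit 8, nat_lit 7, nat_lit 10, nat_lit 9], [nat_lit 0, nat_lit 2, nat_lit 0, nat_lit 1, nat_lit 7, nat_lit 2]) ::
  []
abbrev qc := qb
theorem qokc : qc.OK := qokb
noncomputable def Cc : List ℕ := [cx_3, cx_2, cc_2, cx_0, cb_4, cb_5, cc_6, cc_7, cc_8, cc_9]
noncomputable def Vc : List (List ℕ) := [[nat_lit 0],
  [nat_lit 3],
  [nat_lit 1, nat_lit 1, nat_lit 5],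
  [nat_lit 1],
  [nat_lit 4],
  [nat_lit 5],
  [nat_lit 7, nat_lit 4, nat_lit 7],
  [nat_lit 11, nat_lit 9, nat_lit 3, nat_lit 1, nat_lit 3],
  [nat_lit 7, nat_lit 4, nat_lit 7, nat_lit 11, nat_lit 9, nat_lit 3, nat_lit 1, nat_lit 3],
  [nat_lit 11, nat_lit 9, nat_lit 3, nat_lit 1, nat_lit 3, nat_lit 7, nat_lit 4, nat_lit 7]]
noncomputable def gc := wds gb Vc
noncomputable def Lc : List (List ℕ × List ℕ) := (nP 5 [(2, 1), (3, 2), (4, 1), (5, 1), (6, 1), (7, 1), (8, 1), (9, 1)]) ++ (nP 4 [(2, 1), (3, 1), (4, 1), (5, 1), (6, 1), (7, 1), (8, 1), (9, 1)])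
noncomputable def ccW50 : List (List ℕ × List ℕ) :=
  ([nat_lit 9, nat_lit 3, nat_lit 9, nat_lit 3, nat_lit 6], [nat_lit 2, nat_lit 4, nat_lit 4, nat_lit 0, nat_lit 1]) ::
  ([nat_lit 9, nat_lit 2, nat_lit 7, nat_lit 2, nat_lit 7], [nat_lit 1, nat_lit 6, nat_lit 3, nat_lit 0]) ::
  ([nat_lit 6, nat_lit 2, nat_lit 9, nat_lit 2, nat_lit 7], [nat_lit 2, nat_lit 0, nat_lit 1]) ::
  ([nat_lit 9, nat_lit 2, nat_lit 6, nat_lit 3, nat_lit 7], [nat_lit 1, nat_lit 2, nat_lit 0]) ::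
  ([nat_lit 8, nat_lit 9, nat_lit 2, nat_lit 7, nat_lit 7], [nat_lit 2, nat_lit 0, nat_lit 1, nat_lit 0]) ::
  ([nat_lit 9, nat_lit 2, nat_lit 6, nat_lit 3, nat_lit 9], [nat_lit 6, nat_lit 1, nat_lit 0, nat_lit 0]) ::
  ([nat_lit 9, nat_lit 3, nat_lit 9, nat_lit 3, nat_lit 9], [nat_lit 1, nat_lit 6, nat_lit 0]) ::
  ([nat_lit 9, nat_lit 3, nat_lit 2, nat_lit 7, nat_lit 9], [nat_lit 6, nat_lit 4, nat_lit 0, nat_lit 1]) ::
  ([nat_lit 7, nat_lit 9, nat_lit 3, nat_lit 9, nat_lit 3, nat_lit 7], [nat_lit 0, nat_lit 1, nat_lit 2]) ::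
  ([nat_lit 9, nat_lit 3, nat_lit 7, nat_lit 3, nat_lit 7, nat_lit 9], [nat_lit 5, nat_lit 2, nat_lit 0, nat_lit 1]) ::
  []
noncomputable def ccW : List (List ℕ × List ℕ) :=
  ([], []) ::
  ([nat_lit 6], [nat_lit 4, nat_lit 1, nat_lit 0, nat_lit 2, nat_lit 6]) ::
  ([nat_lit 7], [nat_lit 0, nat_lit 1, nat_lit 4]) ::
  ([nat_lit 8], [nat_lit 0, nat_lit 0, nat_lit 1]) ::
  ([nat_lit 9], [nat_lit 0, nat_lit 0, nat_lit 1]) ::
  ([nat_lit 8, nat_lit 6], [nat_lit 6, nat_lit 6, nat_lit 1, nat_lit 0, nat_lit 3]) ::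
  ([nat_lit 7, nat_lit 7], [nat_lit 0, nat_lit 1, nat_lit 2, nat_lit 5]) ::
  ([nat_lit 8, nat_lit 7], [nat_lit 0, nat_lit 1, nat_lit 2, nat_lit 6, nat_lit 1]) ::
  ([nat_lit 8, nat_lit 8], [nat_lit 1, nat_lit 0]) ::
  ([nat_lit 7, nat_lit 9], [nat_lit 1, nat_lit 2, nat_lit 0]) ::
  ([nat_lit 8, nat_lit 9], [nat_lit 0, nat_lit 1, nat_lit 2, nat_lit 4]) ::
  ([nat_lit 6, nat_lit 2, nat_lit 6], [nat_lit 0, nat_lit 1, nat_lit 3, nat_lit 2]) ::
  ([nat_lit 7, nat_lit 2, nat_lit 6], [nat_lit 1, nat_lit 4, nat_lit 1, nat_lit 0]) ::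
  ([nat_lit 9, nat_lit 2, nat_lit 6], [nat_lit 1, nat_lit 0]) ::
  ([nat_lit 6, nat_lit 3, nat_lit 6], [nat_lit 0, nat_lit 6, nat_lit 1]) ::
  ([nat_lit 7, nat_lit 3, nat_lit 6], [nat_lit 5, nat_lit 2, nat_lit 1, nat_lit 0]) ::
  ([nat_lit 9, nat_lit 3, nat_lit 6], [nat_lit 1, nat_lit 4, nat_lit 0]) ::
  ([nat_lit 9, nat_lit 2, nat_lit 7], [nat_lit 4, nat_lit 3, nat_lit 1, nat_lit 0]) ::
  ([nat_lit 6, nat_lit 3, nat_lit 7], [nat_lit 0, nat_lit 1, nat_lit 2]) ::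
  ([nat_lit 9, nat_lit 3, nat_lit 7], [nat_lit 1, nat_lit 0, nat_lit 3, nat_lit 4]) ::
  ([nat_lit 7, nat_lit 7, nat_lit 7], [nat_lit 1, nat_lit 0, nat_lit 4, nat_lit 3]) ::
  ([nat_lit 7, nat_lit 9, nat_lit 7], [nat_lit 1, nat_lit 4, nat_lit 3, nat_lit 0, nat_lit 2]) ::
  ([nat_lit 9, nat_lit 3, nat_lit 8], [nat_lit 1, nat_lit 0, nat_lit 6]) ::
  ([nat_lit 6, nat_lit 2, nat_lit 9], [nat_lit 0, nat_lit 1, nat_lit 2]) ::
  ([nat_lit 9, nat_lit 2, nat_lit 9], [nat_lit 1, nat_lit 0]) ::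
  ([nat_lit 7, nat_lit 3, nat_lit 9], [nat_lit 1, nat_lit 0, nat_lit 6, nat_lit 4]) ::
  ([nat_lit 9, nat_lit 3, nat_lit 9], [nat_lit 6, nat_lit 1, nat_lit 5, nat_lit 0]) ::
  ([nat_lit 8, nat_lit 7, nat_lit 9], [nat_lit 3, nat_lit 0, nat_lit 1]) ::
  ([nat_lit 8, nat_lit 6, nat_lit 2, nat_lit 6], [nat_lit 4, nat_lit 0, nat_lit 1, nat_lit 2]) ::
  ([nat_lit 7, nat_lit 7, nat_lit 2, nat_lit 6], [nat_lit 2, nat_lit 1, nat_lit 0, nat_lit 5]) ::
  ([nat_lit 9, nat_lit 7, nat_lit 2, nat_lit 6], [nat_lit 1, nat_lit 4, nat_lit 0, nat_lit 3]) ::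
  ([nat_lit 7, nat_lit 9, nat_lit 2, nat_lit 6], [nat_lit 4, nat_lit 2, nat_lit 1, nat_lit 0]) ::
  ([nat_lit 7, nat_lit 9, nat_lit 3, nat_lit 6], [nat_lit 1, nat_lit 3, nat_lit 1, nat_lit 0]) ::
  ([nat_lit 9, nat_lit 3, nat_lit 2, nat_lit 7], [nat_lit 0, nat_lit 1, nat_lit 4, nat_lit 4]) ::
  ([nat_lit 7, nat_lit 7, nat_lit 2, nat_lit 7], [nat_lit 4, nat_lit 1, nat_lit 0]) ::
  ([nat_lit 7, nat_lit 9, nat_lit 2, nat_lit 7], [nat_lit 6, nat_lit 4, nat_lit 0, nat_lit 1]) ::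
  ([nat_lit 7, nat_lit 9, nat_lit 3, nat_lit 7], [nat_lit 3, nat_lit 0, nat_lit 1, nat_lit 4, nat_lit 5]) ::
  ([nat_lit 6, nat_lit 2, nat_lit 7, nat_lit 7], [nat_lit 1, nat_lit 5, nat_lit 2, nat_lit 0]) ::
  ([nat_lit 9, nat_lit 2, nat_lit 7, nat_lit 7], [nat_lit 2, nat_lit 0, nat_lit 1, nat_lit 4]) ::
  ([nat_lit 7, nat_lit 3, nat_lit 7, nat_lit 7], [nat_lit 0, nat_lit 1, nat_lit 3]) ::
  ([nat_lit 9, nat_lit 3, nat_lit 7, nat_lit 7], [nat_lit 2, nat_lit 1, nat_lit 0]) ::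
  ([nat_lit 9, nat_lit 2, nat_lit 9, nat_lit 7], [nat_lit 1, nat_lit 0, nat_lit 4]) ::
  ([nat_lit 7, nat_lit 7, nat_lit 3, nat_lit 9], [nat_lit 2, nat_lit 0, nat_lit 1]) ::
  ([nat_lit 7, nat_lit 9, nat_lit 3, nat_lit 9], [nat_lit 0, nat_lit 1, nat_lit 3]) ::
  ([nat_lit 6, nat_lit 3, nat_lit 6, nat_lit 2, nat_lit 6], [nat_lit 4, nat_lit 1, nat_lit 0]) ::
  ([nat_lit 9, nat_lit 3, nat_lit 6, nat_lit 2, nat_lit 6], [nat_lit 1, nat_lit 2, nat_lit 3, nat_lit 0]) ::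
  ([nat_lit 9, nat_lit 2, nat_lit 7, nat_lit 2, nat_lit 6], [nat_lit 0, nat_lit 3, nat_lit 2, nat_lit 1]) ::
  ([nat_lit 6, nat_lit 2, nat_lit 9, nat_lit 2, nat_lit 6], [nat_lit 0, nat_lit 1, nat_lit 0]) ::
  ([nat_lit 7, nat_lit 3, nat_lit 9, nat_lit 2, nat_lit 6], [nat_lit 1, nat_lit 0, nat_lit 1, nat_lit 4, nat_lit 0]) ::
  ([nat_lit 9, nat_lit 3, nat_lit 7, nat_lit 3, nat_lit 6], [nat_lit 1, nat_lit 0, nat_lit 2]) ::
  ccW50
noncomputable def ccE350 : List (List ℕ × ℕ × List ℕ × ℕ) :=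
  ([nat_lit 2], (nat_lit 26), [nat_lit 3], (nat_lit 904717398)) ::
  ([nat_lit 2], (nat_lit 5), [], (nat_lit 911905792)) ::
  ([nat_lit 2], (nat_lit 20), [nat_lit 3], (nat_lit 912349212)) ::
  ([nat_lit 2], (nat_lit 12), [], (nat_lit 914972788)) ::
  ([nat_lit 3, nat_lit 2], (nat_lit 49), [nat_lit 3], (nat_lit 915879412)) ::
  ([nat_lit 3], (nat_lit 7), [], (nat_lit 916252790)) ::
  ([nat_lit 3], (nat_lit 2), [nat_lit 3], (nat_lit 919364303)) ::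
  ([], (nat_lit 36), [], (nat_lit 923374158)) ::
  ([nat_lit 3, nat_lit 2], (nat_lit 12), [nat_lit 3], (nat_lit 924050913)) ::
  ([nat_lit 3], (nat_lit 6), [], (nat_lit 931276362)) ::
  ([nat_lit 3], (nat_lit 50), [nat_lit 3], (nat_lit 933668318)) ::
  ([], (nat_lit 35), [], (nat_lit 933673232)) ::
  ([nat_lit 2], (nat_lit 5), [nat_lit 3], (nat_lit 939807736)) ::
  ([nat_lit 3], (nat_lit 18), [nat_lit 3], (nat_lit 940473041)) ::
  ([nat_lit 2], (nat_lit 29), [nat_lit 3], (nat_lit 943741028)) ::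
  ([], (nat_lit 29), [], (nat_lit 946065226)) ::
  ([], (nat_lit 29), [nat_lit 3], (nat_lit 948191475)) ::
  ([nat_lit 2], (nat_lit 9), [], (nat_lit 957213686)) ::
  ([nat_lit 2], (nat_lit 6), [], (nat_lit 966666714)) ::
  ([nat_lit 2], (nat_lit 1), [nat_lit 3], (nat_lit 967220223)) ::
  ([], (nat_lit 53), [nat_lit 3], (nat_lit 968514831)) ::
  ([nat_lit 3], (nat_lit 42), [], (nat_lit 974767430)) ::
  ([], (nat_lit 28), [], (nat_lit 975590247)) ::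
  ([nat_lit 3, nat_lit 2], (nat_lit 36), [], (nat_lit 979739076)) ::
  ([], (nat_lit 46), [nat_lit 3], (nat_lit 979912251)) ::
  ([nat_lit 3, nat_lit 2], (nat_lit 33), [nat_lit 3], (nat_lit 981763281)) ::
  ([], (nat_lit 55), [nat_lit 3], (nat_lit 985415466)) ::
  ([nat_lit 3, nat_lit 2], (nat_lit 55), [nat_lit 3], (nat_lit 987282004)) ::
  ([nat_lit 3], (nat_lit 11), [nat_lit 3], (nat_lit 989546096)) ::
  ([nat_lit 2], (nat_lit 23), [], (nat_lit 990104028)) ::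
  ([], (nat_lit 28), [nat_lit 3], (nat_lit 990552113)) ::
  ([], (nat_lit 57), [nat_lit 3], (nat_lit 992028178)) ::
  ([], (nat_lit 6), [nat_lit 3], (nat_lit 993656301)) ::
  ([], (nat_lit 45), [nat_lit 3], (nat_lit 999500317)) ::
  []
noncomputable def ccE300 : List (List ℕ × ℕ × List ℕ × ℕ) :=
  ([nat_lit 2], (nat_lit 39), [nat_lit 3], (nat_lit 774618488)) ::
  ([nat_lit 3, nat_lit 2], (nat_lit 39), [], (nat_lit 775577333)) ::
  ([], (nat_lit 4), [nat_lit 3], (nat_lit 782052737)) ::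
  ([], (nat_lit 30), [nat_lit 3], (nat_lit 783198228)) ::
  ([nat_lit 2], (nat_lit 10), [nat_lit 3], (nat_lit 785399501)) ::
  ([nat_lit 3, nat_lit 2], (nat_lit 55), [], (nat_lit 786871496)) ::
  ([], (nat_lit 54), [], (nat_lit 787603216)) ::
  ([nat_lit 3], (nat_lit 28), [nat_lit 3], (nat_lit 787953570)) ::
  ([nat_lit 3, nat_lit 2], (nat_lit 18), [nat_lit 3], (nat_lit 794380542)) ::
  ([nat_lit 3], (nat_lit 56), [], (nat_lit 797477362)) ::
  ([nat_lit 3, nat_lit 2], (nat_lit 17), [], (nat_lit 800181034)) ::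
  ([nat_lit 3, nat_lit 2], (nat_lit 35), [], (nat_lit 804426763)) ::
  ([], (nat_lit 12), [nat_lit 3], (nat_lit 807677564)) ::
  ([], (nat_lit 9), [], (nat_lit 808738923)) ::
  ([nat_lit 3], (nat_lit 44), [], (nat_lit 810167920)) ::
  ([nat_lit 3], (nat_lit 17), [nat_lit 3], (nat_lit 810245190)) ::
  ([nat_lit 3], (nat_lit 36), [], (nat_lit 812004194)) ::
  ([], (nat_lit 10), [nat_lit 3], (nat_lit 813074435)) ::
  ([nat_lit 3, nat_lit 2], (nat_lit 9), [nat_lit 3], (nat_lit 814763485)) ::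
  ([nat_lit 2], (nat_lit 32), [nat_lit 3], (nat_lit 815549820)) ::
  ([], (nat_lit 31), [nat_lit 3], (nat_lit 823010595)) ::
  ([], (nat_lit 50), [nat_lit 3], (nat_lit 823068678)) ::
  ([nat_lit 3], (nat_lit 26), [nat_lit 3], (nat_lit 824029514)) ::
  ([nat_lit 3, nat_lit 2], (nat_lit 2), [nat_lit 3], (nat_lit 832141044)) ::
  ([], (nat_lit 8), [], (nat_lit 832333471)) ::
  ([nat_lit 3], (nat_lit 13), [nat_lit 3], (nat_lit 834740333)) ::
  ([nat_lit 2], (nat_lit 13), [nat_lit 3], (nat_lit 834889451)) ::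
  ([nat_lit 3], (nat_lit 9), [nat_lit 3], (nat_lit 836495668)) ::
  ([nat_lit 3, nat_lit 2], (nat_lit 5), [nat_lit 3], (nat_lit 844633582)) ::
  ([nat_lit 2], (nat_lit 2), [nat_lit 3], (nat_lit 847763891)) ::
  ([], (nat_lit 34), [], (nat_lit 848119198)) ::
  ([], (nat_lit 44), [], (nat_lit 852967441)) ::
  ([nat_lit 2], (nat_lit 35), [], (nat_lit 853187198)) ::
  ([], (nat_lit 38), [nat_lit 3], (nat_lit 854067669)) ::
  ([nat_lit 3, nat_lit 2], (nat_lit 25), [], (nat_lit 856717273)) ::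
  ([nat_lit 2], (nat_lit 57), [], (nat_lit 859007975)) ::
  ([], (nat_lit 26), [nat_lit 3], (nat_lit 859476256)) ::
  ([nat_lit 3], (nat_lit 21), [nat_lit 3], (nat_lit 868988994)) ::
  ([], (nat_lit 2), [nat_lit 3], (nat_lit 870753416)) ::
  ([nat_lit 3], (nat_lit 46), [], (nat_lit 876870006)) ::
  ([nat_lit 3], (nat_lit 1), [], (nat_lit 880985981)) ::
  ([nat_lit 3, nat_lit 2], (nat_lit 40), [nat_lit 3], (nat_lit 882618372)) ::
  ([nat_lit 3, nat_lit 2], (nat_lit 40), [], (nat_lit 888607891)) ::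
  ([nat_lit 3], (nat_lit 25), [nat_lit 3], (nat_lit 892842678)) ::
  ([nat_lit 3], (nat_lit 4), [nat_lit 3], (nat_lit 894757373)) ::
  ([nat_lit 3, nat_lit 2], (nat_lit 36), [nat_lit 3], (nat_lit 895368046)) ::
  ([nat_lit 2], (nat_lit 25), [], (nat_lit 897648266)) ::
  ([nat_lit 3], (nat_lit 51), [], (nat_lit 899741898)) ::
  ([nat_lit 3], (nat_lit 44), [nat_lit 3], (nat_lit 900710943)) ::
  ([], (nat_lit 21), [nat_lit 3], (nat_lit 901555320)) ::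
  ccE350
noncomputable def ccE250 : List (List ℕ × ℕ × List ℕ × ℕ) :=
  ([nat_lit 3, nat_lit 2], (nat_lit 10), [], (nat_lit 646963609)) ::
  ([], (nat_lit 0), [], (nat_lit 648922360)) ::
  ([nat_lit 2], (nat_lit 10), [], (nat_lit 650539654)) ::
  ([nat_lit 3, nat_lit 2], (nat_lit 5), [], (nat_lit 651422545)) ::
  ([nat_lit 2], (nat_lit 36), [nat_lit 3], (nat_lit 652248241)) ::
  ([nat_lit 3], (nat_lit 23), [nat_lit 3], (nat_lit 652575695)) ::
  ([], (nat_lit 20), [nat_lit 3], (nat_lit 656296603)) ::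
  ([nat_lit 2], (nat_lit 16), [nat_lit 3], (nat_lit 656516631)) ::
  ([nat_lit 3], (nat_lit 10), [], (nat_lit 656771113)) ::
  ([nat_lit 3, nat_lit 2], (nat_lit 26), [nat_lit 3], (nat_lit 658004019)) ::
  ([nat_lit 3, nat_lit 2], (nat_lit 2), [], (nat_lit 659906346)) ::
  ([nat_lit 2], (nat_lit 7), [], (nat_lit 661852444)) ::
  ([nat_lit 3, nat_lit 2], (nat_lit 14), [nat_lit 3], (nat_lit 672123343)) ::
  ([], (nat_lit 27), [nat_lit 3], (nat_lit 674212017)) ::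
  ([nat_lit 2], (nat_lit 19), [], (nat_lit 690199181)) ::
  ([], (nat_lit 44), [nat_lit 3], (nat_lit 691507443)) ::
  ([nat_lit 3, nat_lit 2], (nat_lit 41), [], (nat_lit 692499412)) ::
  ([nat_lit 3], (nat_lit 45), [nat_lit 3], (nat_lit 694783904)) ::
  ([nat_lit 3, nat_lit 2], (nat_lit 23), [nat_lit 3], (nat_lit 699259433)) ::
  ([nat_lit 3, nat_lit 2], (nat_lit 31), [nat_lit 3], (nat_lit 700620874)) ::
  ([nat_lit 2], (nat_lit 32), [], (nat_lit 702938341)) ::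
  ([nat_lit 3], (nat_lit 35), [], (nat_lit 703108702)) ::
  ([nat_lit 2], (nat_lit 31), [], (nat_lit 703568085)) ::
  ([nat_lit 3], (nat_lit 19), [], (nat_lit 703876174)) ::
  ([nat_lit 3], (nat_lit 12), [nat_lit 3], (nat_lit 711423100)) ::
  ([nat_lit 3], (nat_lit 34), [nat_lit 3], (nat_lit 712134577)) ::
  ([], (nat_lit 12), [], (nat_lit 719697163)) ::
  ([nat_lit 3, nat_lit 2], (nat_lit 17), [nat_lit 3], (nat_lit 721101216)) ::
  ([nat_lit 3, nat_lit 2], (nat_lit 10), [nat_lit 3], (nat_lit 721499912)) ::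
  ([], (nat_lit 16), [], (nat_lit 722886895)) ::
  ([nat_lit 3, nat_lit 2], (nat_lit 13), [], (nat_lit 728313958)) ::
  ([nat_lit 3], (nat_lit 31), [nat_lit 3], (nat_lit 729398027)) ::
  ([nat_lit 2], (nat_lit 31), [nat_lit 3], (nat_lit 729748088)) ::
  ([nat_lit 3], (nat_lit 24), [], (nat_lit 733777359)) ::
  ([nat_lit 2], (nat_lit 41), [nat_lit 3], (nat_lit 735294755)) ::
  ([nat_lit 2], (nat_lit 4), [nat_lit 3], (nat_lit 735323824)) ::
  ([nat_lit 3], (nat_lit 56), [nat_lit 3], (nat_lit 738333668)) ::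
  ([nat_lit 3], (nat_lit 45), [], (nat_lit 738694431)) ::
  ([], (nat_lit 46), [], (nat_lit 741438799)) ::
  ([], (nat_lit 30), [], (nat_lit 741470460)) ::
  ([], (nat_lit 41), [], (nat_lit 749602416)) ::
  ([], (nat_lit 55), [], (nat_lit 750355235)) ::
  ([nat_lit 3], (nat_lit 51), [nat_lit 3], (nat_lit 756670072)) ::
  ([], (nat_lit 53), [], (nat_lit 758302992)) ::
  ([nat_lit 3, nat_lit 2], (nat_lit 34), [], (nat_lit 760066454)) ::
  ([nat_lit 2], (nat_lit 4), [], (nat_lit 761246215)) ::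
  ([nat_lit 3], (nat_lit 13), [], (nat_lit 764649987)) ::
  ([nat_lit 3], (nat_lit 14), [nat_lit 3], (nat_lit 767338720)) ::
  ([], (nat_lit 40), [nat_lit 3], (nat_lit 770216991)) ::
  ([nat_lit 3], (nat_lit 8), [], (nat_lit 774166262)) ::
  ccE300
noncomputable def ccE200 : List (List ℕ × ℕ × List ℕ × ℕ) :=
  ([], (nat_lit 38), [], (nat_lit 521830728)) ::
  ([nat_lit 3], (nat_lit 40), [nat_lit 3], (nat_lit 522677052)) ::
  ([nat_lit 3], (nat_lit 2), [], (nat_lit 523886928)) ::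
  ([], (nat_lit 1), [], (nat_lit 528404129)) ::
  ([], (nat_lit 4), [], (nat_lit 528735346)) ::
  ([nat_lit 3], (nat_lit 52), [], (nat_lit 531591589)) ::
  ([nat_lit 3], (nat_lit 29), [nat_lit 3], (nat_lit 532166720)) ::
  ([nat_lit 2], (nat_lit 45), [], (nat_lit 536853523)) ::
  ([nat_lit 2], (nat_lit 1), [], (nat_lit 538378348)) ::
  ([], (nat_lit 37), [], (nat_lit 538782168)) ::
  ([], (nat_lit 43), [nat_lit 3], (nat_lit 538898912)) ::
  ([nat_lit 2], (nat_lit 19), [nat_lit 3], (nat_lit 539384363)) ::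
  ([nat_lit 3, nat_lit 2], (nat_lit 44), [], (nat_lit 541036900)) ::
  ([nat_lit 2], (nat_lit 12), [nat_lit 3], (nat_lit 543008628)) ::
  ([nat_lit 3], (nat_lit 17), [], (nat_lit 545277969)) ::
  ([nat_lit 3], (nat_lit 27), [nat_lit 3], (nat_lit 545475796)) ::
  ([nat_lit 3], (nat_lit 1), [nat_lit 3], (nat_lit 547065527)) ::
  ([nat_lit 3, nat_lit 2], (nat_lit 13), [nat_lit 3], (nat_lit 549442606)) ::
  ([nat_lit 2], (nat_lit 55), [], (nat_lit 550406452)) ::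
  ([nat_lit 3], (nat_lit 40), [], (nat_lit 551633921)) ::
  ([], (nat_lit 18), [], (nat_lit 553638239)) ::
  ([], (nat_lit 37), [nat_lit 3], (nat_lit 553802734)) ::
  ([], (nat_lit 13), [], (nat_lit 554447326)) ::
  ([nat_lit 2], (nat_lit 9), [nat_lit 3], (nat_lit 557378814)) ::
  ([nat_lit 3], (nat_lit 15), [nat_lit 3], (nat_lit 561794864)) ::
  ([], (nat_lit 59), [], (nat_lit 563436357)) ::
  ([nat_lit 3], (nat_lit 57), [], (nat_lit 566840442)) ::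
  ([], (nat_lit 6), [], (nat_lit 569759323)) ::
  ([nat_lit 3], (nat_lit 29), [], (nat_lit 572940402)) ::
  ([nat_lit 3, nat_lit 2], (nat_lit 33), [], (nat_lit 574268802)) ::
  ([nat_lit 2], (nat_lit 22), [nat_lit 3], (nat_lit 582759708)) ::
  ([nat_lit 2], (nat_lit 33), [nat_lit 3], (nat_lit 591066706)) ::
  ([nat_lit 2], (nat_lit 18), [], (nat_lit 592340129)) ::
  ([], (nat_lit 41), [nat_lit 3], (nat_lit 593058912)) ::
  ([nat_lit 2], (nat_lit 35), [nat_lit 3], (nat_lit 598747403)) ::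
  ([nat_lit 3, nat_lit 2], (nat_lit 49), [], (nat_lit 600320009)) ::
  ([], (nat_lit 22), [nat_lit 3], (nat_lit 607111055)) ::
  ([nat_lit 3], (nat_lit 19), [nat_lit 3], (nat_lit 609004062)) ::
  ([], (nat_lit 50), [], (nat_lit 613191055)) ::
  ([nat_lit 3], (nat_lit 31), [], (nat_lit 614262632)) ::
  ([nat_lit 3], (nat_lit 9), [], (nat_lit 615244308)) ::
  ([nat_lit 3], (nat_lit 39), [], (nat_lit 619560613)) ::
  ([nat_lit 3, nat_lit 2], (nat_lit 25), [nat_lit 3], (nat_lit 621577581)) ::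
  ([nat_lit 3], (nat_lit 37), [nat_lit 3], (nat_lit 622984693)) ::
  ([], (nat_lit 36), [nat_lit 3], (nat_lit 623794743)) ::
  ([], (nat_lit 18), [nat_lit 3], (nat_lit 625675398)) ::
  ([], (nat_lit 17), [nat_lit 3], (nat_lit 628583178)) ::
  ([nat_lit 2], (nat_lit 22), [], (nat_lit 637605222)) ::
  ([nat_lit 2], (nat_lit 43), [nat_lit 3], (nat_lit 638764860)) ::
  ([nat_lit 3], (nat_lit 20), [], (nat_lit 641049145)) ::
  ccE250
noncomputable def ccE150 : List (List ℕ × ℕ × List ℕ × ℕ) :=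
  ([nat_lit 3, nat_lit 2], (nat_lit 19), [], (nat_lit 389855199)) ::
  ([nat_lit 2], (nat_lit 49), [nat_lit 3], (nat_lit 392115943)) ::
  ([nat_lit 3], (nat_lit 0), [], (nat_lit 394705706)) ::
  ([], (nat_lit 48), [], (nat_lit 394901895)) ::
  ([], (nat_lit 57), [], (nat_lit 400377757)) ::
  ([nat_lit 2], (nat_lit 40), [nat_lit 3], (nat_lit 414281337)) ::
  ([], (nat_lit 23), [], (nat_lit 416599483)) ::
  ([nat_lit 3], (nat_lit 36), [nat_lit 3], (nat_lit 418649927)) ::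
  ([nat_lit 2], (nat_lit 57), [nat_lit 3], (nat_lit 421610018)) ::
  ([nat_lit 3], (nat_lit 55), [nat_lit 3], (nat_lit 423157926)) ::
  ([], (nat_lit 34), [nat_lit 3], (nat_lit 423741723)) ::
  ([], (nat_lit 7), [], (nat_lit 427305694)) ::
  ([], (nat_lit 56), [nat_lit 3], (nat_lit 427891541)) ::
  ([nat_lit 3, nat_lit 2], (nat_lit 20), [], (nat_lit 434219671)) ::
  ([nat_lit 3], (nat_lit 3), [], (nat_lit 434895180)) ::
  ([nat_lit 3], (nat_lit 27), [], (nat_lit 434900482)) ::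
  ([], (nat_lit 23), [nat_lit 3], (nat_lit 436069042)) ::
  ([nat_lit 2], (nat_lit 6), [nat_lit 3], (nat_lit 439139672)) ::
  ([nat_lit 2], (nat_lit 21), [], (nat_lit 439954451)) ::
  ([nat_lit 3], (nat_lit 38), [nat_lit 3], (nat_lit 444787027)) ::
  ([nat_lit 3], (nat_lit 22), [nat_lit 3], (nat_lit 444813628)) ::
  ([nat_lit 3, nat_lit 2], (nat_lit 43), [], (nat_lit 445371800)) ::
  ([], (nat_lit 21), [], (nat_lit 452002928)) ::
  ([], (nat_lit 47), [nat_lit 3], (nat_lit 452531298)) ::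
  ([nat_lit 2], (nat_lit 44), [], (nat_lit 452762355)) ::
  ([nat_lit 3], (nat_lit 32), [], (nat_lit 456140323)) ::
  ([nat_lit 3], (nat_lit 25), [], (nat_lit 465870540)) ::
  ([], (nat_lit 19), [], (nat_lit 473318732)) ::
  ([nat_lit 3], (nat_lit 55), [], (nat_lit 475937665)) ::
  ([nat_lit 3], (nat_lit 39), [nat_lit 3], (nat_lit 477901305)) ::
  ([], (nat_lit 31), [], (nat_lit 478060312)) ::
  ([nat_lit 3], (nat_lit 48), [], (nat_lit 480041109)) ::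
  ([nat_lit 2], (nat_lit 16), [], (nat_lit 481498206)) ::
  ([nat_lit 3, nat_lit 2], (nat_lit 18), [], (nat_lit 481537613)) ::
  ([nat_lit 3], (nat_lit 34), [], (nat_lit 483169025)) ::
  ([nat_lit 3], (nat_lit 3), [nat_lit 3], (nat_lit 484572945)) ::
  ([], (nat_lit 25), [], (nat_lit 490735754)) ::
  ([nat_lit 3, nat_lit 2], (nat_lit 57), [nat_lit 3], (nat_lit 492166565)) ::
  ([nat_lit 3, nat_lit 2], (nat_lit 4), [], (nat_lit 492551023)) ::
  ([nat_lit 3, nat_lit 2], (nat_lit 43), [nat_lit 3], (nat_lit 494417411)) ::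
  ([nat_lit 3, nat_lit 2], (nat_lit 19), [nat_lit 3], (nat_lit 496837391)) ::
  ([], (nat_lit 22), [], (nat_lit 497461646)) ::
  ([nat_lit 3], (nat_lit 41), [], (nat_lit 500137865)) ::
  ([], (nat_lit 43), [], (nat_lit 503073150)) ::
  ([nat_lit 3], (nat_lit 46), [nat_lit 3], (nat_lit 504462876)) ::
  ([nat_lit 3, nat_lit 2], (nat_lit 34), [nat_lit 3], (nat_lit 506972312)) ::
  ([], (nat_lit 13), [nat_lit 3], (nat_lit 514299388)) ::
  ([nat_lit 3], (nat_lit 28), [], (nat_lit 515833566)) ::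
  ([], (nat_lit 20), [], (nat_lit 516742156)) ::
  ([nat_lit 2], (nat_lit 55), [nat_lit 3], (nat_lit 517061952)) ::
  ccE200
noncomputable def ccE100 : List (List ℕ × ℕ × List ℕ × ℕ) :=
  ([nat_lit 3], (nat_lit 23), [], (nat_lit 259330416)) ::
  ([nat_lit 2], (nat_lit 44), [nat_lit 3], (nat_lit 262626333)) ::
  ([nat_lit 2], (nat_lit 33), [], (nat_lit 269259081)) ::
  ([nat_lit 3, nat_lit 2], (nat_lit 37), [], (nat_lit 271149579)) ::
  ([nat_lit 3], (nat_lit 49), [nat_lit 3], (nat_lit 271461867)) ::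
  ([nat_lit 3], (nat_lit 12), [], (nat_lit 278934061)) ::
  ([nat_lit 3, nat_lit 2], (nat_lit 35), [nat_lit 3], (nat_lit 283173672)) ::
  ([nat_lit 2], (nat_lit 21), [nat_lit 3], (nat_lit 284515700)) ::
  ([nat_lit 3], (nat_lit 43), [nat_lit 3], (nat_lit 286395006)) ::
  ([nat_lit 3], (nat_lit 59), [], (nat_lit 287611092)) ::
  ([nat_lit 3, nat_lit 2], (nat_lit 37), [nat_lit 3], (nat_lit 288587689)) ::
  ([nat_lit 3], (nat_lit 32), [nat_lit 3], (nat_lit 290587138)) ::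
  ([], (nat_lit 1), [nat_lit 3], (nat_lit 297298434)) ::
  ([nat_lit 3, nat_lit 2], (nat_lit 39), [nat_lit 3], (nat_lit 300093187)) ::
  ([nat_lit 3, nat_lit 2], (nat_lit 32), [], (nat_lit 301317113)) ::
  ([nat_lit 3, nat_lit 2], (nat_lit 7), [], (nat_lit 304170244)) ::
  ([nat_lit 3], (nat_lit 14), [], (nat_lit 305870938)) ::
  ([], (nat_lit 51), [nat_lit 3], (nat_lit 307475806)) ::
  ([], (nat_lit 3), [], (nat_lit 308508392)) ::
  ([nat_lit 3], (nat_lit 22), [], (nat_lit 308601653)) ::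
  ([nat_lit 3], (nat_lit 53), [nat_lit 3], (nat_lit 308982043)) ::
  ([nat_lit 3], (nat_lit 47), [nat_lit 3], (nat_lit 314498413)) ::
  ([], (nat_lit 33), [nat_lit 3], (nat_lit 316976174)) ::
  ([], (nat_lit 40), [], (nat_lit 318336609)) ::
  ([nat_lit 3, nat_lit 2], (nat_lit 29), [], (nat_lit 319682628)) ::
  ([nat_lit 3], (nat_lit 41), [nat_lit 3], (nat_lit 322781869)) ::
  ([nat_lit 3], (nat_lit 47), [], (nat_lit 332204666)) ::
  ([nat_lit 3, nat_lit 2], (nat_lit 26), [], (nat_lit 336797360)) ::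
  ([nat_lit 3, nat_lit 2], (nat_lit 45), [nat_lit 3], (nat_lit 343459916)) ::
  ([], (nat_lit 15), [], (nat_lit 344410488)) ::
  ([], (nat_lit 2), [], (nat_lit 345998394)) ::
  ([nat_lit 3], (nat_lit 50), [], (nat_lit 346847798)) ::
  ([], (nat_lit 47), [], (nat_lit 349252209)) ::
  ([nat_lit 3, nat_lit 2], (nat_lit 14), [], (nat_lit 349290876)) ::
  ([], (nat_lit 51), [], (nat_lit 351909102)) ::
  ([nat_lit 3, nat_lit 2], (nat_lit 41), [nat_lit 3], (nat_lit 353621424)) ::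
  ([nat_lit 3, nat_lit 2], (nat_lit 16), [nat_lit 3], (nat_lit 354592900)) ::
  ([nat_lit 3], (nat_lit 4), [], (nat_lit 359269207)) ::
  ([nat_lit 2], (nat_lit 36), [], (nat_lit 366958474)) ::
  ([nat_lit 3], (nat_lit 6), [nat_lit 3], (nat_lit 367788680)) ::
  ([nat_lit 3], (nat_lit 30), [nat_lit 3], (nat_lit 371415512)) ::
  ([nat_lit 3], (nat_lit 18), [], (nat_lit 371855517)) ::
  ([nat_lit 3, nat_lit 2], (nat_lit 6), [nat_lit 3], (nat_lit 372611561)) ::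
  ([nat_lit 3], (nat_lit 57), [nat_lit 3], (nat_lit 379735598)) ::
  ([nat_lit 2], (nat_lit 13), [], (nat_lit 381212735)) ::
  ([nat_lit 2], (nat_lit 23), [nat_lit 3], (nat_lit 386905245)) ::
  ([nat_lit 2], (nat_lit 45), [nat_lit 3], (nat_lit 387049199)) ::
  ([], (nat_lit 5), [], (nat_lit 388424374)) ::
  ([nat_lit 2], (nat_lit 43), [], (nat_lit 389574902)) ::
  ([], (nat_lit 11), [nat_lit 3], (nat_lit 389727046)) ::
  ccE150
noncomputable def ccE50 : List (List ℕ × ℕ × List ℕ × ℕ) :=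
  ([], (nat_lit 32), [nat_lit 3], (nat_lit 144880077)) ::
  ([nat_lit 3], (nat_lit 33), [], (nat_lit 152391077)) ::
  ([nat_lit 3], (nat_lit 30), [], (nat_lit 152750149)) ::
  ([nat_lit 2], (nat_lit 34), [], (nat_lit 157675828)) ::
  ([nat_lit 3, nat_lit 2], (nat_lit 21), [], (nat_lit 158304836)) ::
  ([nat_lit 3], (nat_lit 26), [], (nat_lit 161178257)) ::
  ([nat_lit 2], (nat_lit 39), [], (nat_lit 164776918)) ::
  ([nat_lit 3], (nat_lit 37), [], (nat_lit 168924357)) ::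
  ([nat_lit 3], (nat_lit 42), [nat_lit 3], (nat_lit 171552881)) ::
  ([nat_lit 3, nat_lit 2], (nat_lit 32), [nat_lit 3], (nat_lit 171636551)) ::
  ([nat_lit 3, nat_lit 2], (nat_lit 21), [nat_lit 3], (nat_lit 172207255)) ::
  ([nat_lit 2], (nat_lit 26), [], (nat_lit 176681412)) ::
  ([nat_lit 3, nat_lit 2], (nat_lit 1), [], (nat_lit 176923589)) ::
  ([nat_lit 3, nat_lit 2], (nat_lit 45), [], (nat_lit 177330200)) ::
  ([nat_lit 2], (nat_lit 27), [nat_lit 3], (nat_lit 177551762)) ::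
  ([], (nat_lit 9), [nat_lit 3], (nat_lit 178705637)) ::
  ([], (nat_lit 49), [nat_lit 3], (nat_lit 179743087)) ::
  ([nat_lit 2], (nat_lit 29), [], (nat_lit 183451904)) ::
  ([nat_lit 3], (nat_lit 16), [], (nat_lit 190738805)) ::
  ([nat_lit 3], (nat_lit 20), [nat_lit 3], (nat_lit 190946581)) ::
  ([nat_lit 3, nat_lit 2], (nat_lit 50), [nat_lit 3], (nat_lit 194975644)) ::
  ([], (nat_lit 26), [], (nat_lit 196205166)) ::
  ([nat_lit 2], (nat_lit 40), [], (nat_lit 200117305)) ::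
  ([], (nat_lit 14), [nat_lit 3], (nat_lit 200611710)) ::
  ([nat_lit 2], (nat_lit 41), [], (nat_lit 200910689)) ::
  ([nat_lit 3], (nat_lit 43), [], (nat_lit 201256251)) ::
  ([nat_lit 3, nat_lit 2], (nat_lit 22), [], (nat_lit 202852091)) ::
  ([nat_lit 3], (nat_lit 15), [], (nat_lit 204541634)) ::
  ([nat_lit 2], (nat_lit 14), [], (nat_lit 207536210)) ::
  ([nat_lit 3], (nat_lit 53), [], (nat_lit 207960374)) ::
  ([nat_lit 2], (nat_lit 37), [], (nat_lit 208100042)) ::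
  ([nat_lit 3], (nat_lit 7), [nat_lit 3], (nat_lit 208977302)) ::
  ([nat_lit 2], (nat_lit 17), [nat_lit 3], (nat_lit 213932449)) ::
  ([nat_lit 3, nat_lit 2], (nat_lit 23), [], (nat_lit 216581520)) ::
  ([], (nat_lit 10), [], (nat_lit 217351275)) ::
  ([nat_lit 2], (nat_lit 7), [nat_lit 3], (nat_lit 220164515)) ::
  ([nat_lit 3, nat_lit 2], (nat_lit 16), [], (nat_lit 221653224)) ::
  ([nat_lit 3], (nat_lit 54), [], (nat_lit 222631761)) ::
  ([nat_lit 3, nat_lit 2], (nat_lit 57), [], (nat_lit 224755962)) ::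
  ([nat_lit 3], (nat_lit 38), [], (nat_lit 224915753)) ::
  ([nat_lit 3], (nat_lit 5), [nat_lit 3], (nat_lit 227705594)) ::
  ([nat_lit 3], (nat_lit 58), [], (nat_lit 227782662)) ::
  ([nat_lit 2], (nat_lit 2), [], (nat_lit 227831862)) ::
  ([nat_lit 3, nat_lit 2], (nat_lit 27), [nat_lit 3], (nat_lit 228315205)) ::
  ([], (nat_lit 39), [], (nat_lit 233086802)) ::
  ([nat_lit 3], (nat_lit 11), [], (nat_lit 234357937)) ::
  ([], (nat_lit 19), [nat_lit 3], (nat_lit 239478530)) ::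
  ([nat_lit 3, nat_lit 2], (nat_lit 29), [nat_lit 3], (nat_lit 246258838)) ::
  ([], (nat_lit 33), [], (nat_lit 247234806)) ::
  ([nat_lit 2], (nat_lit 50), [], (nat_lit 256734860)) ::
  ccE100
noncomputable def ccE : List (List ℕ × ℕ × List ℕ × ℕ) :=
  ([], (nat_lit 35), [nat_lit 3], (nat_lit 2906511)) ::
  ([nat_lit 3], (nat_lit 21), [], (nat_lit 3117931)) ::
  ([nat_lit 3, nat_lit 2], (nat_lit 7), [nat_lit 3], (nat_lit 3366559)) ::
  ([nat_lit 2], (nat_lit 17), [], (nat_lit 6491154)) ::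
  ([], (nat_lit 16), [nat_lit 3], (nat_lit 8434667)) ::
  ([], (nat_lit 17), [], (nat_lit 10261643)) ::
  ([], (nat_lit 58), [], (nat_lit 11965955)) ::
  ([], (nat_lit 42), [], (nat_lit 12417547)) ::
  ([nat_lit 3, nat_lit 2], (nat_lit 4), [nat_lit 3], (nat_lit 13522410)) ::
  ([nat_lit 3, nat_lit 2], (nat_lit 22), [nat_lit 3], (nat_lit 13677184)) ::
  ([], (nat_lit 5), [nat_lit 3], (nat_lit 16586303)) ::
  ([nat_lit 3], (nat_lit 16), [nat_lit 3], (nat_lit 17084777)) ::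
  ([nat_lit 3, nat_lit 2], (nat_lit 9), [], (nat_lit 18000944)) ::
  ([nat_lit 3, nat_lit 2], (nat_lit 27), [], (nat_lit 23110718)) ::
  ([], (nat_lit 45), [], (nat_lit 24047787)) ::
  ([nat_lit 2], (nat_lit 14), [nat_lit 3], (nat_lit 29206529)) ::
  ([], (nat_lit 32), [], (nat_lit 31415460)) ::
  ([], (nat_lit 14), [], (nat_lit 32822490)) ::
  ([nat_lit 3, nat_lit 2], (nat_lit 44), [nat_lit 3], (nat_lit 33513604)) ::
  ([nat_lit 3, nat_lit 2], (nat_lit 20), [nat_lit 3], (nat_lit 34086945)) ::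
  ([], (nat_lit 11), [], (nat_lit 34537016)) ::
  ([], (nat_lit 56), [], (nat_lit 34639975)) ::
  ([nat_lit 2], (nat_lit 25), [nat_lit 3], (nat_lit 40170221)) ::
  ([nat_lit 3], (nat_lit 49), [], (nat_lit 44582954)) ::
  ([], (nat_lit 39), [nat_lit 3], (nat_lit 49399465)) ::
  ([nat_lit 2], (nat_lit 27), [], (nat_lit 52245085)) ::
  ([nat_lit 2], (nat_lit 49), [], (nat_lit 56024377)) ::
  ([], (nat_lit 3), [nat_lit 3], (nat_lit 58151930)) ::
  ([], (nat_lit 49), [], (nat_lit 58941490)) ::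
  ([], (nat_lit 24), [], (nat_lit 58955006)) ::
  ([], (nat_lit 52), [], (nat_lit 64098954)) ::
  ([], (nat_lit 15), [nat_lit 3], (nat_lit 66226641)) ::
  ([], (nat_lit 25), [nat_lit 3], (nat_lit 67597085)) ::
  ([], (nat_lit 7), [nat_lit 3], (nat_lit 73777084)) ::
  ([nat_lit 3, nat_lit 2], (nat_lit 50), [], (nat_lit 75517830)) ::
  ([], (nat_lit 27), [], (nat_lit 76147926)) ::
  ([nat_lit 3, nat_lit 2], (nat_lit 31), [], (nat_lit 81282697)) ::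
  ([nat_lit 3], (nat_lit 5), [], (nat_lit 89418725)) ::
  ([nat_lit 2], (nat_lit 20), [], (nat_lit 99920576)) ::
  ([nat_lit 3, nat_lit 2], (nat_lit 12), [], (nat_lit 104227571)) ::
  ([nat_lit 2], (nat_lit 50), [nat_lit 3], (nat_lit 106913653)) ::
  ([nat_lit 2], (nat_lit 37), [nat_lit 3], (nat_lit 118813715)) ::
  ([nat_lit 3], (nat_lit 33), [nat_lit 3], (nat_lit 122447513)) ::
  ([nat_lit 2], (nat_lit 18), [nat_lit 3], (nat_lit 128010011)) ::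
  ([nat_lit 3, nat_lit 2], (nat_lit 1), [nat_lit 3], (nat_lit 129772082)) ::
  ([nat_lit 2], (nat_lit 34), [nat_lit 3], (nat_lit 133574414)) ::
  ([], (nat_lit 42), [nat_lit 3], (nat_lit 134352699)) ::
  ([nat_lit 3, nat_lit 2], (nat_lit 6), [], (nat_lit 137359816)) ::
  ([nat_lit 3], (nat_lit 10), [nat_lit 3], (nat_lit 143200748)) ::
  ([nat_lit 3], (nat_lit 35), [nat_lit 3], (nat_lit 144471463)) ::
  ccE50
noncomputable def cc : Cv := ⟨(nat_lit 2), (nat_lit 6), (nat_lit 10), (nat_lit 0x4080020408002040810200080000400000000800000001000400000000000000081000400000040800204080020400002000010204000020000102000010000001000000000000000204080020400102040800000001020008102000010204081), (nat_lit 1000000007), (nat_lit 2), [nat_lit 0, nat_lit 1, nat_lit 1, nat_lit 0, nat_lit 0], [], ccW, ccE⟩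
noncomputable def ccV50 : List (List ℕ × List ℕ) :=
  ([nat_lit 9, nat_lit 3, nat_lit 9, nat_lit 3, nat_lit 6], [nat_lit 5, nat_lit 3, nat_lit 0, nat_lit 1, nat_lit 0]) ::
  ([nat_lit 9, nat_lit 2, nat_lit 7, nat_lit 2, nat_lit 7], [nat_lit 2, nat_lit 6, nat_lit 1, nat_lit 6, nat_lit 0]) ::
  ([nat_lit 6, nat_lit 2, nat_lit 9, nat_lit 2, nat_lit 7], [nat_lit 0, nat_lit 2, nat_lit 1]) ::
  ([nat_lit 9, nat_lit 2, nat_lit 6, nat_lit 3, nat_lit 7], [nat_lit 0, nat_lit 5, nat_lit 4, nat_lit 1, nat_lit 2]) ::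
  ([nat_lit 8, nat_lit 9, nat_lit 2, nat_lit 7, nat_lit 7], [nat_lit 3, nat_lit 4, nat_lit 1, nat_lit 4, nat_lit 6, nat_lit 2, nat_lit 0]) ::
  ([nat_lit 9, nat_lit 2, nat_lit 6, nat_lit 3, nat_lit 9], [nat_lit 0, nat_lit 1, nat_lit 2]) ::
  ([nat_lit 9, nat_lit 3, nat_lit 9, nat_lit 3, nat_lit 9], [nat_lit 1, nat_lit 6, nat_lit 0, nat_lit 6, nat_lit 2]) ::
  ([nat_lit 9, nat_lit 3, nat_lit 2, nat_lit 7, nat_lit 9], [nat_lit 0, nat_lit 1, nat_lit 2]) ::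
  ([nat_lit 7, nat_lit 9, nat_lit 3, nat_lit 9, nat_lit 3, nat_lit 7], [nat_lit 0, nat_lit 2, nat_lit 6, nat_lit 4, nat_lit 3, nat_lit 1]) ::
  ([nat_lit 9, nat_lit 3, nat_lit 7, nat_lit 3, nat_lit 7, nat_lit 9], [nat_lit 1, nat_lit 3, nat_lit 4, nat_lit 4, nat_lit 0, nat_lit 1, nat_lit 0, nat_lit 3, nat_lit 3]) ::
  []
noncomputable def ccV : List (List ℕ × List ℕ) :=
  ([], []) ::
  ([nat_lit 6], [nat_lit 0, nat_lit 2, nat_lit 6, nat_lit 1]) ::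
  ([nat_lit 7], [nat_lit 0, nat_lit 1, nat_lit 2]) ::
  ([nat_lit 8], [nat_lit 6, nat_lit 1, nat_lit 0, nat_lit 0, nat_lit 1, nat_lit 0, nat_lit 2, nat_lit 6]) ::
  ([nat_lit 9], [nat_lit 4, nat_lit 2, nat_lit 5, nat_lit 0, nat_lit 4, nat_lit 1]) ::
  ([nat_lit 8, nat_lit 6], [nat_lit 0, nat_lit 1, nat_lit 2, nat_lit 0]) ::
  ([nat_lit 7, nat_lit 7], [nat_lit 3, nat_lit 0, nat_lit 0, nat_lit 1]) ::
  ([nat_lit 8, nat_lit 7], [nat_lit 1, nat_lit 3, nat_lit 0, nat_lit 4, nat_lit 5]) ::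
  ([nat_lit 8, nat_lit 8], [nat_lit 1, nat_lit 6, nat_lit 2, nat_lit 0, nat_lit 4, nat_lit 1, nat_lit 3, nat_lit 5, nat_lit 1, nat_lit 0, nat_lit 4]) ::
  ([nat_lit 7, nat_lit 9], [nat_lit 6, nat_lit 1, nat_lit 0, nat_lit 1]) ::
  ([nat_lit 8, nat_lit 9], [nat_lit 1, nat_lit 2, nat_lit 0]) ::
  ([nat_lit 6, nat_lit 2, nat_lit 6], [nat_lit 4, nat_lit 0, nat_lit 6, nat_lit 1]) ::
  ([nat_lit 7, nat_lit 2, nat_lit 6], [nat_lit 0, nat_lit 1]) ::
  ([nat_lit 9, nat_lit 2, nat_lit 6], [nat_lit 0, nat_lit 3, nat_lit 1]) ::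
  ([nat_lit 6, nat_lit 3, nat_lit 6], [nat_lit 1, nat_lit 3, nat_lit 0, nat_lit 6, nat_lit 5]) ::
  ([nat_lit 7, nat_lit 3, nat_lit 6], [nat_lit 1, nat_lit 6, nat_lit 4, nat_lit 2, nat_lit 0, nat_lit 3]) ::
  ([nat_lit 9, nat_lit 3, nat_lit 6], [nat_lit 3, nat_lit 0, nat_lit 1]) ::
  ([nat_lit 9, nat_lit 2, nat_lit 7], [nat_lit 0, nat_lit 1, nat_lit 2]) ::
  ([nat_lit 6, nat_lit 3, nat_lit 7], [nat_lit 2, nat_lit 1, nat_lit 0, nat_lit 5]) ::
  ([nat_lit 9, nat_lit 3, nat_lit 7], [nat_lit 0, nat_lit 1, nat_lit 3]) ::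
  ([nat_lit 7, nat_lit 7, nat_lit 7], [nat_lit 6, nat_lit 0, nat_lit 5, nat_lit 1]) ::
  ([nat_lit 7, nat_lit 9, nat_lit 7], [nat_lit 4, nat_lit 6, nat_lit 6, nat_lit 2, nat_lit 0, nat_lit 1]) ::
  ([nat_lit 9, nat_lit 3, nat_lit 8], [nat_lit 6, nat_lit 1, nat_lit 0, nat_lit 4]) ::
  ([nat_lit 6, nat_lit 2, nat_lit 9], [nat_lit 4, nat_lit 1, nat_lit 0]) ::
  ([nat_lit 9, nat_lit 2, nat_lit 9], [nat_lit 0, nat_lit 1, nat_lit 4, nat_lit 0, nat_lit 2]) ::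
  ([nat_lit 7, nat_lit 3, nat_lit 9], [nat_lit 1, nat_lit 5, nat_lit 0]) ::
  ([nat_lit 9, nat_lit 3, nat_lit 9], [nat_lit 5, nat_lit 0, nat_lit 1, nat_lit 2]) ::
  ([nat_lit 8, nat_lit 7, nat_lit 9], [nat_lit 4, nat_lit 0, nat_lit 1]) ::
  ([nat_lit 8, nat_lit 6, nat_lit 2, nat_lit 6], [nat_lit 0, nat_lit 1, nat_lit 2, nat_lit 0]) ::
  ([nat_lit 7, nat_lit 7, nat_lit 2, nat_lit 6], [nat_lit 0, nat_lit 1, nat_lit 3]) ::
  ([nat_lit 9, nat_lit 7, nat_lit 2, nat_lit 6], [nat_lit 4, nat_lit 0, nat_lit 1]) ::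
  ([nat_lit 7, nat_lit 9, nat_lit 2, nat_lit 6], [nat_lit 0, nat_lit 1, nat_lit 4, nat_lit 6]) ::
  ([nat_lit 7, nat_lit 9, nat_lit 3, nat_lit 6], [nat_lit 5, nat_lit 1, nat_lit 2, nat_lit 0, nat_lit 1]) ::
  ([nat_lit 9, nat_lit 3, nat_lit 2, nat_lit 7], [nat_lit 1, nat_lit 6, nat_lit 0]) ::
  ([nat_lit 7, nat_lit 7, nat_lit 2, nat_lit 7], [nat_lit 6, nat_lit 2, nat_lit 1, nat_lit 0]) ::
  ([nat_lit 7, nat_lit 9, nat_lit 2, nat_lit 7], [nat_lit 5, nat_lit 1, nat_lit 3, nat_lit 0]) ::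
  ([nat_lit 7, nat_lit 9, nat_lit 3, nat_lit 7], [nat_lit 2, nat_lit 0, nat_lit 5, nat_lit 1]) ::
  ([nat_lit 6, nat_lit 2, nat_lit 7, nat_lit 7], [nat_lit 4, nat_lit 2, nat_lit 1, nat_lit 0]) ::
  ([nat_lit 9, nat_lit 2, nat_lit 7, nat_lit 7], [nat_lit 1, nat_lit 4, nat_lit 4, nat_lit 2, nat_lit 1, nat_lit 0]) ::
  ([nat_lit 7, nat_lit 3, nat_lit 7, nat_lit 7], [nat_lit 4, nat_lit 3, nat_lit 1, nat_lit 0]) ::
  ([nat_lit 9, nat_lit 3, nat_lit 7, nat_lit 7], [nat_lit 1, nat_lit 0, nat_lit 0]) ::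
  ([nat_lit 9, nat_lit 2, nat_lit 9, nat_lit 7], [nat_lit 6, nat_lit 1, nat_lit 0, nat_lit 2]) ::
  ([nat_lit 7, nat_lit 7, nat_lit 3, nat_lit 9], [nat_lit 3, nat_lit 5, nat_lit 4, nat_lit 2, nat_lit 0, nat_lit 1]) ::
  ([nat_lit 7, nat_lit 9, nat_lit 3, nat_lit 9], [nat_lit 0, nat_lit 1, nat_lit 6, nat_lit 1]) ::
  ([nat_lit 6, nat_lit 3, nat_lit 6, nat_lit 2, nat_lit 6], [nat_lit 0, nat_lit 1, nat_lit 6]) ::
  ([nat_lit 9, nat_lit 3, nat_lit 6, nat_lit 2, nat_lit 6], [nat_lit 1, nat_lit 3, nat_lit 0, nat_lit 4]) ::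
  ([nat_lit 9, nat_lit 2, nat_lit 7, nat_lit 2, nat_lit 6], [nat_lit 1, nat_lit 6, nat_lit 0, nat_lit 5]) ::
  ([nat_lit 6, nat_lit 2, nat_lit 9, nat_lit 2, nat_lit 6], [nat_lit 0, nat_lit 6, nat_lit 1]) ::
  ([nat_lit 7, nat_lit 3, nat_lit 9, nat_lit 2, nat_lit 6], [nat_lit 1, nat_lit 0, nat_lit 2]) ::
  ([nat_lit 9, nat_lit 3, nat_lit 7, nat_lit 3, nat_lit 6], [nat_lit 4, nat_lit 1, nat_lit 0, nat_lit 3]) ::
  ccV50
abbrev qd := qr
theorem qokd : qd.OK := qokr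
noncomputable def Cd : List ℕ := [cx_3, cx_0, cd_2, cr_0, cd_4, cr_1, cd_6, cx_6, cx_7, cd_9, cd_10, cd_11, cd_12, cd_13, cd_14]
noncomputable def Vd : List (List ℕ) := [[nat_lit 4],
  [nat_lit 3],
  [nat_lit 3, nat_lit 3, nat_lit 3, nat_lit 3],
  [nat_lit 0],
  [nat_lit 0, nat_lit 0],
  [nat_lit 1],
  [nat_lit 1, nat_lit 1],
  [nat_lit 5],
  [nat_lit 6],
  [nat_lit 0, nat_lit 5, nat_lit 0, nat_lit 0],
  [nat_lit 0, nat_lit 6, nat_lit 0, nat_lit 0],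
  [nat_lit 0, nat_lit 0, nat_lit 5, nat_lit 0],
  [nat_lit 0, nat_lit 0, nat_lit 6, nat_lit 0],
  [nat_lit 5, nat_lit 6, nat_lit 5],
  [nat_lit 6, nat_lit 5, nat_lit 6]]
noncomputable def gd := wds gr Vd
noncomputable def Ld : List (List ℕ × List ℕ) := (nP 5 [(3, 1), (4, 1), (5, 1), (6, 1), (7, 1), (8, 1), (9, 1), (10, 1), (11, 1), (12, 1), (13, 1), (14, 1)]) ++ (iP 3 15 [0, 1, 2, 4, 3, 6, 5, 7, 8, 9, 10, 11, 12, 13, 14])
noncomputable def cdW100 : List (List ℕ × List ℕ) :=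
  ([nat_lit 12, nat_lit 13, nat_lit 12, nat_lit 7], [nat_lit 1, nat_lit 5, nat_lit 0]) ::
  ([nat_lit 10, nat_lit 12, nat_lit 14, nat_lit 7], [nat_lit 0, nat_lit 2]) ::
  ([nat_lit 8, nat_lit 11, nat_lit 9, nat_lit 8], [nat_lit 0, nat_lit 1, nat_lit 2, nat_lit 7]) ::
  ([nat_lit 9, nat_lit 11, nat_lit 9, nat_lit 8], [nat_lit 0, nat_lit 2]) ::
  ([nat_lit 11, nat_lit 14, nat_lit 9, nat_lit 8], [nat_lit 1, nat_lit 2, nat_lit 0]) ::
  ([nat_lit 8, nat_lit 9, nat_lit 11, nat_lit 8], [nat_lit 2, nat_lit 0]) ::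
  ([nat_lit 11, nat_lit 8, nat_lit 12, nat_lit 8], [nat_lit 2, nat_lit 1, nat_lit 6, nat_lit 0]) ::
  ([nat_lit 11, nat_lit 10, nat_lit 12, nat_lit 8], [nat_lit 5, nat_lit 2, nat_lit 0]) ::
  ([nat_lit 8, nat_lit 11, nat_lit 12, nat_lit 8], [nat_lit 1, nat_lit 0, nat_lit 3]) ::
  ([nat_lit 9, nat_lit 14, nat_lit 13, nat_lit 9], [nat_lit 0, nat_lit 6, nat_lit 1, nat_lit 5]) ::
  ([nat_lit 7, nat_lit 12, nat_lit 10, nat_lit 13], [nat_lit 0, nat_lit 2]) ::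
  ([nat_lit 13, nat_lit 8, nat_lit 7, nat_lit 10, nat_lit 7], [nat_lit 3, nat_lit 0, nat_lit 5, nat_lit 2]) ::
  ([nat_lit 12, nat_lit 11, nat_lit 13, nat_lit 10, nat_lit 7], [nat_lit 1, nat_lit 0, nat_lit 3]) ::
  ([nat_lit 8, nat_lit 11, nat_lit 8, nat_lit 12, nat_lit 8], [nat_lit 2, nat_lit 0, nat_lit 5, nat_lit 3, nat_lit 1]) ::
  []
noncomputable def cdW50 : List (List ℕ × List ℕ) :=
  ([nat_lit 11, nat_lit 12, nat_lit 8], [nat_lit 5, nat_lit 2, nat_lit 0]) ::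
  ([nat_lit 13, nat_lit 12, nat_lit 8], [nat_lit 6, nat_lit 5, nat_lit 2, nat_lit 0]) ::
  ([nat_lit 14, nat_lit 12, nat_lit 8], [nat_lit 7, nat_lit 0, nat_lit 5, nat_lit 2]) ::
  ([nat_lit 14, nat_lit 7, nat_lit 9], [nat_lit 2, nat_lit 0, nat_lit 4]) ::
  ([nat_lit 13, nat_lit 10, nat_lit 9], [nat_lit 3, nat_lit 1, nat_lit 0]) ::
  ([nat_lit 13, nat_lit 12, nat_lit 9], [nat_lit 0, nat_lit 1, nat_lit 3]) ::
  ([nat_lit 9, nat_lit 13, nat_lit 9], [nat_lit 0, nat_lit 2, nat_lit 1]) ::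
  ([nat_lit 10, nat_lit 13, nat_lit 9], [nat_lit 0, nat_lit 2, nat_lit 1]) ::
  ([nat_lit 12, nat_lit 13, nat_lit 9], [nat_lit 0, nat_lit 2, nat_lit 3]) ::
  ([nat_lit 14, nat_lit 13, nat_lit 9], [nat_lit 2, nat_lit 3, nat_lit 7, nat_lit 0]) ::
  ([nat_lit 11, nat_lit 14, nat_lit 9], [nat_lit 2, nat_lit 5, nat_lit 0]) ::
  ([nat_lit 12, nat_lit 14, nat_lit 9], [nat_lit 4, nat_lit 7, nat_lit 0, nat_lit 2]) ::
  ([nat_lit 14, nat_lit 7, nat_lit 10], [nat_lit 1, nat_lit 4, nat_lit 0]) ::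
  ([nat_lit 13, nat_lit 12, nat_lit 10], [nat_lit 6, nat_lit 1, nat_lit 3, nat_lit 0]) ::
  ([nat_lit 14, nat_lit 12, nat_lit 10], [nat_lit 2, nat_lit 0, nat_lit 7]) ::
  ([nat_lit 10, nat_lit 13, nat_lit 10], [nat_lit 5, nat_lit 2, nat_lit 0]) ::
  ([nat_lit 14, nat_lit 13, nat_lit 10], [nat_lit 0, nat_lit 4, nat_lit 1]) ::
  ([nat_lit 10, nat_lit 14, nat_lit 10], [nat_lit 0, nat_lit 3, nat_lit 1, nat_lit 5]) ::
  ([nat_lit 13, nat_lit 9, nat_lit 11], [nat_lit 7, nat_lit 0, nat_lit 2, nat_lit 1]) ::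
  ([nat_lit 13, nat_lit 9, nat_lit 12], [nat_lit 2, nat_lit 3, nat_lit 0, nat_lit 7]) ::
  ([nat_lit 10, nat_lit 9, nat_lit 13], [nat_lit 5, nat_lit 6, nat_lit 2, nat_lit 0]) ::
  ([nat_lit 11, nat_lit 9, nat_lit 13], [nat_lit 1, nat_lit 2, nat_lit 0]) ::
  ([nat_lit 12, nat_lit 10, nat_lit 13], [nat_lit 0, nat_lit 2]) ::
  ([nat_lit 13, nat_lit 10, nat_lit 13], [nat_lit 3, nat_lit 1, nat_lit 4, nat_lit 0]) ::
  ([nat_lit 8, nat_lit 12, nat_lit 13], [nat_lit 4, nat_lit 0, nat_lit 1]) ::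
  ([nat_lit 7, nat_lit 9, nat_lit 8, nat_lit 7], [nat_lit 4, nat_lit 0, nat_lit 6, nat_lit 2]) ::
  ([nat_lit 12, nat_lit 9, nat_lit 8, nat_lit 7], [nat_lit 3, nat_lit 0, nat_lit 1]) ::
  ([nat_lit 14, nat_lit 9, nat_lit 8, nat_lit 7], [nat_lit 0, nat_lit 2, nat_lit 6]) ::
  ([nat_lit 9, nat_lit 11, nat_lit 8, nat_lit 7], [nat_lit 0, nat_lit 2, nat_lit 3, nat_lit 4]) ::
  ([nat_lit 8, nat_lit 7, nat_lit 10, nat_lit 7], [nat_lit 0, nat_lit 2, nat_lit 1]) ::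
  ([nat_lit 11, nat_lit 7, nat_lit 10, nat_lit 7], [nat_lit 2, nat_lit 0, nat_lit 5]) ::
  ([nat_lit 12, nat_lit 7, nat_lit 10, nat_lit 7], [nat_lit 5, nat_lit 0, nat_lit 2]) ::
  ([nat_lit 14, nat_lit 7, nat_lit 10, nat_lit 7], [nat_lit 0, nat_lit 2, nat_lit 1]) ::
  ([nat_lit 13, nat_lit 8, nat_lit 10, nat_lit 7], [nat_lit 2, nat_lit 0]) ::
  ([nat_lit 8, nat_lit 12, nat_lit 10, nat_lit 7], [nat_lit 2, nat_lit 0, nat_lit 4]) ::
  ([nat_lit 11, nat_lit 12, nat_lit 10, nat_lit 7], [nat_lit 4, nat_lit 0, nat_lit 1]) ::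
  ([nat_lit 9, nat_lit 13, nat_lit 10, nat_lit 7], [nat_lit 0, nat_lit 1, nat_lit 7, nat_lit 1]) ::
  ([nat_lit 10, nat_lit 13, nat_lit 10, nat_lit 7], [nat_lit 0, nat_lit 5, nat_lit 2]) ::
  ([nat_lit 11, nat_lit 13, nat_lit 10, nat_lit 7], [nat_lit 1, nat_lit 3, nat_lit 0]) ::
  ([nat_lit 11, nat_lit 14, nat_lit 10, nat_lit 7], [nat_lit 0, nat_lit 1, nat_lit 5]) ::
  ([nat_lit 9, nat_lit 8, nat_lit 11, nat_lit 7], [nat_lit 0, nat_lit 3, nat_lit 1]) ::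
  ([nat_lit 7, nat_lit 10, nat_lit 11, nat_lit 7], [nat_lit 3, nat_lit 2, nat_lit 1, nat_lit 0]) ::
  ([nat_lit 11, nat_lit 10, nat_lit 11, nat_lit 7], [nat_lit 1, nat_lit 0, nat_lit 3]) ::
  ([nat_lit 13, nat_lit 10, nat_lit 11, nat_lit 7], [nat_lit 0, nat_lit 2]) ::
  ([nat_lit 10, nat_lit 14, nat_lit 11, nat_lit 7], [nat_lit 2, nat_lit 0, nat_lit 7]) ::
  ([nat_lit 11, nat_lit 14, nat_lit 11, nat_lit 7], [nat_lit 0, nat_lit 1, nat_lit 2]) ::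
  ([nat_lit 11, nat_lit 10, nat_lit 12, nat_lit 7], [nat_lit 0, nat_lit 1, nat_lit 2]) ::
  ([nat_lit 12, nat_lit 10, nat_lit 12, nat_lit 7], [nat_lit 0, nat_lit 2]) ::
  ([nat_lit 10, nat_lit 11, nat_lit 12, nat_lit 7], [nat_lit 0, nat_lit 2]) ::
  ([nat_lit 11, nat_lit 13, nat_lit 12, nat_lit 7], [nat_lit 4, nat_lit 1, nat_lit 6, nat_lit 0]) ::
  cdW100
noncomputable def cdW : List (List ℕ × List ℕ) :=
  ([], []) ::
  ([nat_lit 7], [nat_lit 1, nat_lit 5, nat_lit 0]) ::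
  ([nat_lit 8], [nat_lit 0, nat_lit 2]) ::
  ([nat_lit 13], [nat_lit 1, nat_lit 0, nat_lit 5]) ::
  ([nat_lit 8, nat_lit 7], [nat_lit 0, nat_lit 3, nat_lit 1]) ::
  ([nat_lit 9, nat_lit 7], [nat_lit 0, nat_lit 1, nat_lit 5]) ::
  ([nat_lit 10, nat_lit 7], [nat_lit 1, nat_lit 0, nat_lit 5]) ::
  ([nat_lit 11, nat_lit 7], [nat_lit 0, nat_lit 2, nat_lit 1]) ::
  ([nat_lit 12, nat_lit 7], [nat_lit 0, nat_lit 3, nat_lit 1, nat_lit 5]) ::
  ([nat_lit 14, nat_lit 7], [nat_lit 0, nat_lit 2]) ::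
  ([nat_lit 9, nat_lit 8], [nat_lit 2, nat_lit 3, nat_lit 0]) ::
  ([nat_lit 10, nat_lit 8], [nat_lit 2, nat_lit 0, nat_lit 5]) ::
  ([nat_lit 11, nat_lit 8], [nat_lit 4, nat_lit 0, nat_lit 2]) ::
  ([nat_lit 12, nat_lit 8], [nat_lit 3, nat_lit 1, nat_lit 0]) ::
  ([nat_lit 13, nat_lit 9], [nat_lit 0, nat_lit 1, nat_lit 6, nat_lit 3]) ::
  ([nat_lit 14, nat_lit 9], [nat_lit 4, nat_lit 0, nat_lit 2]) ::
  ([nat_lit 13, nat_lit 10], [nat_lit 5, nat_lit 0, nat_lit 2]) ::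
  ([nat_lit 14, nat_lit 10], [nat_lit 1, nat_lit 3, nat_lit 0]) ::
  ([nat_lit 9, nat_lit 13], [nat_lit 1, nat_lit 4, nat_lit 3, nat_lit 0]) ::
  ([nat_lit 10, nat_lit 13], [nat_lit 6, nat_lit 3, nat_lit 0, nat_lit 1]) ::
  ([nat_lit 12, nat_lit 13], [nat_lit 1, nat_lit 6, nat_lit 3, nat_lit 0]) ::
  ([nat_lit 9, nat_lit 8, nat_lit 7], [nat_lit 2, nat_lit 0]) ::
  ([nat_lit 10, nat_lit 8, nat_lit 7], [nat_lit 3, nat_lit 0, nat_lit 1]) ::
  ([nat_lit 11, nat_lit 8, nat_lit 7], [nat_lit 2, nat_lit 1, nat_lit 0]) ::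
  ([nat_lit 7, nat_lit 10, nat_lit 7], [nat_lit 0, nat_lit 5, nat_lit 2]) ::
  ([nat_lit 8, nat_lit 10, nat_lit 7], [nat_lit 6, nat_lit 2, nat_lit 0]) ::
  ([nat_lit 12, nat_lit 10, nat_lit 7], [nat_lit 0, nat_lit 2, nat_lit 7]) ::
  ([nat_lit 13, nat_lit 10, nat_lit 7], [nat_lit 7, nat_lit 0, nat_lit 2, nat_lit 1]) ::
  ([nat_lit 14, nat_lit 10, nat_lit 7], [nat_lit 2, nat_lit 0, nat_lit 4]) ::
  ([nat_lit 8, nat_lit 11, nat_lit 7], [nat_lit 0, nat_lit 4, nat_lit 2]) ::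
  ([nat_lit 10, nat_lit 11, nat_lit 7], [nat_lit 0, nat_lit 2, nat_lit 5]) ::
  ([nat_lit 12, nat_lit 11, nat_lit 7], [nat_lit 2, nat_lit 3, nat_lit 0]) ::
  ([nat_lit 14, nat_lit 11, nat_lit 7], [nat_lit 0, nat_lit 5, nat_lit 2]) ::
  ([nat_lit 10, nat_lit 12, nat_lit 7], [nat_lit 1, nat_lit 0, nat_lit 5]) ::
  ([nat_lit 11, nat_lit 12, nat_lit 7], [nat_lit 1, nat_lit 7, nat_lit 2, nat_lit 0]) ::
  ([nat_lit 13, nat_lit 12, nat_lit 7], [nat_lit 0, nat_lit 2, nat_lit 3]) ::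
  ([nat_lit 14, nat_lit 12, nat_lit 7], [nat_lit 2, nat_lit 4, nat_lit 0]) ::
  ([nat_lit 11, nat_lit 14, nat_lit 7], [nat_lit 1, nat_lit 0, nat_lit 4]) ::
  ([nat_lit 12, nat_lit 14, nat_lit 7], [nat_lit 2, nat_lit 3, nat_lit 0]) ::
  ([nat_lit 7, nat_lit 9, nat_lit 8], [nat_lit 1, nat_lit 0, nat_lit 2]) ::
  ([nat_lit 11, nat_lit 9, nat_lit 8], [nat_lit 0, nat_lit 1, nat_lit 5, nat_lit 2]) ::
  ([nat_lit 12, nat_lit 9, nat_lit 8], [nat_lit 1, nat_lit 0, nat_lit 3]) ::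
  ([nat_lit 14, nat_lit 9, nat_lit 8], [nat_lit 2, nat_lit 0, nat_lit 4]) ::
  ([nat_lit 11, nat_lit 10, nat_lit 8], [nat_lit 1, nat_lit 0, nat_lit 3]) ::
  ([nat_lit 9, nat_lit 11, nat_lit 8], [nat_lit 1, nat_lit 0, nat_lit 4]) ::
  ([nat_lit 12, nat_lit 11, nat_lit 8], [nat_lit 4, nat_lit 0, nat_lit 1, nat_lit 6]) ::
  ([nat_lit 14, nat_lit 11, nat_lit 8], [nat_lit 2, nat_lit 4, nat_lit 0]) ::
  ([nat_lit 8, nat_lit 12, nat_lit 8], [nat_lit 0, nat_lit 4, nat_lit 1]) ::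
  ([nat_lit 9, nat_lit 12, nat_lit 8], [nat_lit 0, nat_lit 1, nat_lit 5]) ::
  ([nat_lit 10, nat_lit 12, nat_lit 8], [nat_lit 0, nat_lit 4, nat_lit 2]) ::
  cdW50
noncomputable def cdE950 : List (List ℕ × ℕ × List ℕ × ℕ) :=
  ([], (nat_lit 65), [], (nat_lit 966992765)) ::
  ([nat_lit 5, nat_lit 4], (nat_lit 69), [], (nat_lit 967784992)) ::
  ([nat_lit 3], (nat_lit 88), [], (nat_lit 968266549)) ::
  ([nat_lit 5], (nat_lit 4), [], (nat_lit 969504693)) ::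
  ([nat_lit 6, nat_lit 3], (nat_lit 85), [], (nat_lit 969579015)) ::
  ([nat_lit 6, nat_lit 4], (nat_lit 21), [], (nat_lit 971238339)) ::
  ([nat_lit 6], (nat_lit 98), [], (nat_lit 971244761)) ::
  ([nat_lit 6], (nat_lit 104), [], (nat_lit 972275516)) ::
  ([nat_lit 4], (nat_lit 61), [], (nat_lit 972915342)) ::
  ([nat_lit 6, nat_lit 4], (nat_lit 6), [], (nat_lit 973016090)) ::
  ([nat_lit 4], (nat_lit 57), [], (nat_lit 973359908)) ::
  ([nat_lit 6, nat_lit 3], (nat_lit 56), [], (nat_lit 973389834)) ::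
  ([nat_lit 5, nat_lit 4], (nat_lit 17), [], (nat_lit 975777752)) ::
  ([nat_lit 5, nat_lit 3], (nat_lit 77), [], (nat_lit 979124177)) ::
  ([nat_lit 6, nat_lit 3], (nat_lit 86), [], (nat_lit 979776335)) ::
  ([nat_lit 4], (nat_lit 112), [], (nat_lit 979990253)) ::
  ([nat_lit 5, nat_lit 3], (nat_lit 88), [], (nat_lit 980212599)) ::
  ([nat_lit 6, nat_lit 4], (nat_lit 44), [], (nat_lit 980332006)) ::
  ([nat_lit 3], (nat_lit 71), [], (nat_lit 981434024)) ::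
  ([], (nat_lit 46), [], (nat_lit 982095683)) ::
  ([], (nat_lit 30), [], (nat_lit 982170710)) ::
  ([nat_lit 6, nat_lit 4], (nat_lit 7), [], (nat_lit 982264017)) ::
  ([nat_lit 6, nat_lit 3], (nat_lit 72), [], (nat_lit 982749375)) ::
  ([nat_lit 6, nat_lit 3], (nat_lit 80), [], (nat_lit 984053374)) ::
  ([nat_lit 5, nat_lit 3], (nat_lit 78), [], (nat_lit 984124971)) ::
  ([nat_lit 6], (nat_lit 59), [], (nat_lit 985922463)) ::
  ([nat_lit 6], (nat_lit 65), [], (nat_lit 987255106)) ::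
  ([], (nat_lit 27), [], (nat_lit 987658858)) ::
  ([nat_lit 6], (nat_lit 102), [], (nat_lit 987935866)) ::
  ([nat_lit 6, nat_lit 3], (nat_lit 99), [], (nat_lit 989586204)) ::
  ([nat_lit 4], (nat_lit 86), [], (nat_lit 989614127)) ::
  ([nat_lit 6], (nat_lit 38), [], (nat_lit 990540066)) ::
  ([], (nat_lit 10), [], (nat_lit 991252489)) ::
  ([nat_lit 5, nat_lit 3], (nat_lit 100), [], (nat_lit 991508824)) ::
  ([nat_lit 6, nat_lit 4], (nat_lit 23), [], (nat_lit 992617192)) ::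
  ([nat_lit 3], (nat_lit 45), [], (nat_lit 993180099)) ::
  ([nat_lit 3], (nat_lit 97), [], (nat_lit 994649946)) ::
  ([nat_lit 6], (nat_lit 75), [], (nat_lit 994689690)) ::
  ([nat_lit 5], (nat_lit 71), [], (nat_lit 997130413)) ::
  ([nat_lit 5, nat_lit 4], (nat_lit 62), [], (nat_lit 999774691)) ::
  []
noncomputable def cdE900 : List (List ℕ × ℕ × List ℕ × ℕ) :=
  ([], (nat_lit 37), [], (nat_lit 914871414)) ::
  ([nat_lit 3], (nat_lit 76), [], (nat_lit 915848675)) ::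
  ([], (nat_lit 74), [], (nat_lit 916969854)) ::
  ([nat_lit 6, nat_lit 3], (nat_lit 23), [], (nat_lit 920801216)) ::
  ([nat_lit 6, nat_lit 3], (nat_lit 24), [], (nat_lit 922883988)) ::
  ([nat_lit 6, nat_lit 4], (nat_lit 41), [], (nat_lit 924015046)) ::
  ([nat_lit 6], (nat_lit 55), [], (nat_lit 924989682)) ::
  ([nat_lit 5, nat_lit 3], (nat_lit 20), [], (nat_lit 925351419)) ::
  ([nat_lit 6, nat_lit 3], (nat_lit 59), [], (nat_lit 925788288)) ::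
  ([nat_lit 5, nat_lit 4], (nat_lit 29), [], (nat_lit 926724215)) ::
  ([nat_lit 4], (nat_lit 58), [], (nat_lit 927733263)) ::
  ([nat_lit 6, nat_lit 3], (nat_lit 20), [], (nat_lit 928517866)) ::
  ([nat_lit 6], (nat_lit 0), [], (nat_lit 929268683)) ::
  ([nat_lit 6], (nat_lit 66), [], (nat_lit 929499470)) ::
  ([nat_lit 6, nat_lit 4], (nat_lit 17), [], (nat_lit 933048876)) ::
  ([nat_lit 6, nat_lit 3], (nat_lit 79), [], (nat_lit 934838996)) ::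
  ([nat_lit 6, nat_lit 4], (nat_lit 22), [], (nat_lit 934983306)) ::
  ([nat_lit 5], (nat_lit 33), [], (nat_lit 935231653)) ::
  ([nat_lit 6, nat_lit 3], (nat_lit 101), [], (nat_lit 935315091)) ::
  ([nat_lit 5], (nat_lit 83), [], (nat_lit 937392728)) ::
  ([nat_lit 3], (nat_lit 77), [], (nat_lit 937480308)) ::
  ([nat_lit 6, nat_lit 4], (nat_lit 69), [], (nat_lit 937964790)) ::
  ([nat_lit 5, nat_lit 4], (nat_lit 24), [], (nat_lit 940473789)) ::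
  ([nat_lit 5, nat_lit 4], (nat_lit 78), [], (nat_lit 944299545)) ::
  ([nat_lit 5, nat_lit 3], (nat_lit 62), [], (nat_lit 944365837)) ::
  ([nat_lit 3], (nat_lit 82), [], (nat_lit 944950111)) ::
  ([nat_lit 5], (nat_lit 75), [], (nat_lit 945299058)) ::
  ([nat_lit 6], (nat_lit 18), [], (nat_lit 946809566)) ::
  ([nat_lit 4], (nat_lit 34), [], (nat_lit 947168988)) ::
  ([nat_lit 6], (nat_lit 22), [], (nat_lit 948358500)) ::
  ([nat_lit 5], (nat_lit 107), [], (nat_lit 948539124)) ::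
  ([nat_lit 4], (nat_lit 107), [], (nat_lit 948750963)) ::
  ([nat_lit 3], (nat_lit 109), [], (nat_lit 950331049)) ::
  ([nat_lit 5, nat_lit 4], (nat_lit 15), [], (nat_lit 951955715)) ::
  ([nat_lit 6], (nat_lit 73), [], (nat_lit 952458702)) ::
  ([], (nat_lit 67), [], (nat_lit 952739409)) ::
  ([nat_lit 4], (nat_lit 31), [], (nat_lit 953976071)) ::
  ([nat_lit 6], (nat_lit 51), [], (nat_lit 954314339)) ::
  ([], (nat_lit 113), [], (nat_lit 956655979)) ::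
  ([nat_lit 5], (nat_lit 89), [], (nat_lit 958604319)) ::
  ([nat_lit 6, nat_lit 3], (nat_lit 90), [], (nat_lit 958932968)) ::
  ([nat_lit 5, nat_lit 4], (nat_lit 18), [], (nat_lit 961690120)) ::
  ([nat_lit 5], (nat_lit 70), [], (nat_lit 962674230)) ::
  ([nat_lit 6], (nat_lit 84), [], (nat_lit 963649716)) ::
  ([nat_lit 6, nat_lit 3], (nat_lit 70), [], (nat_lit 964692112)) ::
  ([nat_lit 6, nat_lit 4], (nat_lit 76), [], (nat_lit 964972501)) ::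
  ([nat_lit 3], (nat_lit 54), [], (nat_lit 965586548)) ::
  ([nat_lit 5, nat_lit 4], (nat_lit 97), [], (nat_lit 966377906)) ::
  ([nat_lit 4], (nat_lit 60), [], (nat_lit 966394561)) ::
  ([nat_lit 6, nat_lit 3], (nat_lit 22), [], (nat_lit 966886917)) ::
  cdE950
noncomputable def cdE850 : List (List ℕ × ℕ × List ℕ × ℕ) :=
  ([], (nat_lit 69), [], (nat_lit 860421425)) ::
  ([nat_lit 6, nat_lit 4], (nat_lit 4), [], (nat_lit 861133120)) ::
  ([nat_lit 5, nat_lit 4], (nat_lit 103), [], (nat_lit 861417668)) ::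
  ([nat_lit 6], (nat_lit 30), [], (nat_lit 863382301)) ::
  ([nat_lit 5, nat_lit 3], (nat_lit 8), [], (nat_lit 863975767)) ::
  ([nat_lit 5, nat_lit 3], (nat_lit 60), [], (nat_lit 864280587)) ::
  ([nat_lit 6, nat_lit 4], (nat_lit 11), [], (nat_lit 867400181)) ::
  ([nat_lit 5, nat_lit 4], (nat_lit 53), [], (nat_lit 869839241)) ::
  ([nat_lit 5], (nat_lit 87), [], (nat_lit 870153025)) ::
  ([nat_lit 3], (nat_lit 3), [], (nat_lit 870317700)) ::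
  ([], (nat_lit 21), [], (nat_lit 873163040)) ::
  ([nat_lit 5, nat_lit 3], (nat_lit 45), [], (nat_lit 874214981)) ::
  ([nat_lit 3], (nat_lit 1), [], (nat_lit 877621161)) ::
  ([nat_lit 3], (nat_lit 22), [], (nat_lit 877890344)) ::
  ([], (nat_lit 82), [], (nat_lit 877965523)) ::
  ([nat_lit 5], (nat_lit 85), [], (nat_lit 878434632)) ::
  ([nat_lit 6, nat_lit 4], (nat_lit 100), [], (nat_lit 880615777)) ::
  ([nat_lit 4], (nat_lit 80), [], (nat_lit 882481231)) ::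
  ([], (nat_lit 89), [], (nat_lit 882688511)) ::
  ([nat_lit 4], (nat_lit 15), [], (nat_lit 883098375)) ::
  ([nat_lit 6, nat_lit 3], (nat_lit 76), [], (nat_lit 883275601)) ::
  ([], (nat_lit 15), [], (nat_lit 884740837)) ::
  ([nat_lit 3], (nat_lit 111), [], (nat_lit 884752582)) ::
  ([nat_lit 4], (nat_lit 96), [], (nat_lit 886623096)) ::
  ([nat_lit 5, nat_lit 4], (nat_lit 79), [], (nat_lit 889365630)) ::
  ([], (nat_lit 105), [], (nat_lit 890045417)) ::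
  ([nat_lit 3], (nat_lit 20), [], (nat_lit 890219151)) ::
  ([nat_lit 4], (nat_lit 20), [], (nat_lit 890665131)) ::
  ([nat_lit 5], (nat_lit 58), [], (nat_lit 890732137)) ::
  ([nat_lit 6, nat_lit 4], (nat_lit 94), [], (nat_lit 892939996)) ::
  ([nat_lit 5, nat_lit 4], (nat_lit 49), [], (nat_lit 893248183)) ::
  ([], (nat_lit 35), [], (nat_lit 893972955)) ::
  ([], (nat_lit 50), [], (nat_lit 896353062)) ::
  ([nat_lit 4], (nat_lit 89), [], (nat_lit 896367414)) ::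
  ([nat_lit 4], (nat_lit 55), [], (nat_lit 896969228)) ::
  ([nat_lit 5, nat_lit 4], (nat_lit 71), [], (nat_lit 899132727)) ::
  ([nat_lit 6], (nat_lit 74), [], (nat_lit 901164333)) ::
  ([nat_lit 5], (nat_lit 21), [], (nat_lit 901963086)) ::
  ([nat_lit 3], (nat_lit 38), [], (nat_lit 903036653)) ::
  ([nat_lit 6, nat_lit 3], (nat_lit 106), [], (nat_lit 904831443)) ::
  ([nat_lit 3], (nat_lit 73), [], (nat_lit 905178588)) ::
  ([nat_lit 6, nat_lit 4], (nat_lit 45), [], (nat_lit 905564867)) ::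
  ([nat_lit 4], (nat_lit 43), [], (nat_lit 906115340)) ::
  ([nat_lit 5, nat_lit 3], (nat_lit 74), [], (nat_lit 906497191)) ::
  ([nat_lit 3], (nat_lit 95), [], (nat_lit 908586791)) ::
  ([nat_lit 4], (nat_lit 62), [], (nat_lit 908895298)) ::
  ([nat_lit 6, nat_lit 3], (nat_lit 51), [], (nat_lit 909063666)) ::
  ([nat_lit 5, nat_lit 3], (nat_lit 72), [], (nat_lit 909906078)) ::
  ([nat_lit 6, nat_lit 4], (nat_lit 49), [], (nat_lit 911032995)) ::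
  ([nat_lit 6, nat_lit 4], (nat_lit 28), [], (nat_lit 912841549)) ::
  cdE900
noncomputable def cdE800 : List (List ℕ × ℕ × List ℕ × ℕ) :=
  ([nat_lit 5], (nat_lit 11), [], (nat_lit 804680533)) ::
  ([nat_lit 6, nat_lit 3], (nat_lit 35), [], (nat_lit 805243192)) ::
  ([nat_lit 3], (nat_lit 14), [], (nat_lit 806267105)) ::
  ([nat_lit 6], (nat_lit 43), [], (nat_lit 806834930)) ::
  ([nat_lit 5, nat_lit 3], (nat_lit 70), [], (nat_lit 807474209)) ::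
  ([nat_lit 5, nat_lit 4], (nat_lit 83), [], (nat_lit 809038907)) ::
  ([], (nat_lit 40), [], (nat_lit 813309395)) ::
  ([nat_lit 5, nat_lit 4], (nat_lit 30), [], (nat_lit 813367109)) ::
  ([nat_lit 6, nat_lit 4], (nat_lit 105), [], (nat_lit 814056784)) ::
  ([nat_lit 6], (nat_lit 110), [], (nat_lit 814495504)) ::
  ([nat_lit 5, nat_lit 4], (nat_lit 80), [], (nat_lit 815577779)) ::
  ([nat_lit 4], (nat_lit 104), [], (nat_lit 816558630)) ::
  ([nat_lit 4], (nat_lit 51), [], (nat_lit 816698403)) ::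
  ([nat_lit 3], (nat_lit 72), [], (nat_lit 818091657)) ::
  ([nat_lit 6, nat_lit 3], (nat_lit 28), [], (nat_lit 819040155)) ::
  ([], (nat_lit 93), [], (nat_lit 821119110)) ::
  ([nat_lit 3], (nat_lit 78), [], (nat_lit 821631748)) ::
  ([nat_lit 6], (nat_lit 103), [], (nat_lit 823617880)) ::
  ([nat_lit 6, nat_lit 3], (nat_lit 45), [], (nat_lit 824169998)) ::
  ([nat_lit 3], (nat_lit 5), [], (nat_lit 826066791)) ::
  ([nat_lit 5], (nat_lit 16), [], (nat_lit 826532826)) ::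
  ([nat_lit 6, nat_lit 3], (nat_lit 105), [], (nat_lit 828052648)) ::
  ([nat_lit 4], (nat_lit 59), [], (nat_lit 829244732)) ::
  ([], (nat_lit 61), [], (nat_lit 829592558)) ::
  ([nat_lit 6], (nat_lit 56), [], (nat_lit 829950005)) ::
  ([nat_lit 6], (nat_lit 42), [], (nat_lit 830083127)) ::
  ([nat_lit 3], (nat_lit 34), [], (nat_lit 830380611)) ::
  ([nat_lit 6, nat_lit 4], (nat_lit 33), [], (nat_lit 831734871)) ::
  ([nat_lit 3], (nat_lit 30), [], (nat_lit 831963012)) ::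
  ([nat_lit 6], (nat_lit 113), [], (nat_lit 832798671)) ::
  ([nat_lit 6], (nat_lit 3), [], (nat_lit 834884927)) ::
  ([nat_lit 3], (nat_lit 91), [], (nat_lit 835621918)) ::
  ([nat_lit 5, nat_lit 3], (nat_lit 82), [], (nat_lit 836605077)) ::
  ([nat_lit 5, nat_lit 4], (nat_lit 20), [], (nat_lit 842075200)) ::
  ([], (nat_lit 103), [], (nat_lit 842768245)) ::
  ([nat_lit 5], (nat_lit 47), [], (nat_lit 844398912)) ::
  ([nat_lit 3], (nat_lit 92), [], (nat_lit 845222927)) ::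
  ([nat_lit 6, nat_lit 3], (nat_lit 47), [], (nat_lit 846663645)) ::
  ([nat_lit 5], (nat_lit 1), [], (nat_lit 848046368)) ::
  ([nat_lit 6, nat_lit 4], (nat_lit 31), [], (nat_lit 848217520)) ::
  ([nat_lit 5, nat_lit 4], (nat_lit 11), [], (nat_lit 852360005)) ::
  ([nat_lit 6], (nat_lit 92), [], (nat_lit 852522845)) ::
  ([nat_lit 5, nat_lit 3], (nat_lit 1), [], (nat_lit 852701105)) ::
  ([], (nat_lit 112), [], (nat_lit 854188770)) ::
  ([nat_lit 6, nat_lit 3], (nat_lit 94), [], (nat_lit 854192787)) ::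
  ([nat_lit 6, nat_lit 3], (nat_lit 25), [], (nat_lit 854698941)) ::
  ([nat_lit 6, nat_lit 4], (nat_lit 56), [], (nat_lit 856175202)) ::
  ([nat_lit 3], (nat_lit 4), [], (nat_lit 859258047)) ::
  ([nat_lit 5], (nat_lit 60), [], (nat_lit 859862673)) ::
  ([nat_lit 5, nat_lit 4], (nat_lit 40), [], (nat_lit 859873835)) ::
  cdE850
noncomputable def cdE750 : List (List ℕ × ℕ × List ℕ × ℕ) :=
  ([nat_lit 6, nat_lit 4], (nat_lit 80), [], (nat_lit 749435857)) ::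
  ([nat_lit 4], (nat_lit 52), [], (nat_lit 749645099)) ::
  ([nat_lit 6, nat_lit 3], (nat_lit 55), [], (nat_lit 751659543)) ::
  ([nat_lit 3], (nat_lit 43), [], (nat_lit 752847248)) ::
  ([nat_lit 6], (nat_lit 46), [], (nat_lit 752979903)) ::
  ([nat_lit 6], (nat_lit 50), [], (nat_lit 754147960)) ::
  ([nat_lit 6, nat_lit 3], (nat_lit 84), [], (nat_lit 754431382)) ::
  ([], (nat_lit 97), [], (nat_lit 755072476)) ::
  ([nat_lit 5, nat_lit 4], (nat_lit 44), [], (nat_lit 755526045)) ::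
  ([nat_lit 5], (nat_lit 90), [], (nat_lit 756281171)) ::
  ([], (nat_lit 73), [], (nat_lit 757263731)) ::
  ([], (nat_lit 92), [], (nat_lit 757916292)) ::
  ([nat_lit 3], (nat_lit 83), [], (nat_lit 757931389)) ::
  ([nat_lit 3], (nat_lit 50), [], (nat_lit 758319540)) ::
  ([nat_lit 5], (nat_lit 77), [], (nat_lit 758730613)) ::
  ([nat_lit 4], (nat_lit 13), [], (nat_lit 759653225)) ::
  ([nat_lit 6, nat_lit 3], (nat_lit 17), [], (nat_lit 760331184)) ::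
  ([nat_lit 6], (nat_lit 105), [], (nat_lit 760389929)) ::
  ([nat_lit 6, nat_lit 4], (nat_lit 93), [], (nat_lit 760738122)) ::
  ([nat_lit 5], (nat_lit 54), [], (nat_lit 761500277)) ::
  ([nat_lit 3], (nat_lit 107), [], (nat_lit 761874548)) ::
  ([nat_lit 3], (nat_lit 18), [], (nat_lit 761982051)) ::
  ([nat_lit 4], (nat_lit 98), [], (nat_lit 765032256)) ::
  ([nat_lit 4], (nat_lit 44), [], (nat_lit 766192402)) ::
  ([nat_lit 5], (nat_lit 66), [], (nat_lit 766984649)) ::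
  ([nat_lit 5, nat_lit 4], (nat_lit 10), [], (nat_lit 769732693)) ::
  ([], (nat_lit 6), [], (nat_lit 771584234)) ::
  ([nat_lit 5], (nat_lit 0), [], (nat_lit 777067480)) ::
  ([], (nat_lit 18), [], (nat_lit 777312510)) ::
  ([nat_lit 6, nat_lit 3], (nat_lit 41), [], (nat_lit 778377942)) ::
  ([nat_lit 5, nat_lit 4], (nat_lit 43), [], (nat_lit 779129977)) ::
  ([nat_lit 6, nat_lit 4], (nat_lit 13), [], (nat_lit 779137741)) ::
  ([nat_lit 6, nat_lit 4], (nat_lit 72), [], (nat_lit 779717290)) ::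
  ([nat_lit 5, nat_lit 3], (nat_lit 37), [], (nat_lit 780198575)) ::
  ([nat_lit 5, nat_lit 3], (nat_lit 3), [], (nat_lit 780666208)) ::
  ([nat_lit 5, nat_lit 3], (nat_lit 44), [], (nat_lit 781002150)) ::
  ([nat_lit 6, nat_lit 4], (nat_lit 24), [], (nat_lit 785267493)) ::
  ([nat_lit 6], (nat_lit 87), [], (nat_lit 785920131)) ::
  ([nat_lit 4], (nat_lit 100), [], (nat_lit 786945995)) ::
  ([nat_lit 5, nat_lit 4], (nat_lit 99), [], (nat_lit 787937528)) ::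
  ([nat_lit 5, nat_lit 3], (nat_lit 38), [], (nat_lit 788772935)) ::
  ([], (nat_lit 26), [], (nat_lit 790052939)) ::
  ([nat_lit 6, nat_lit 3], (nat_lit 26), [], (nat_lit 790638862)) ::
  ([nat_lit 3], (nat_lit 55), [], (nat_lit 793212429)) ::
  ([nat_lit 6], (nat_lit 99), [], (nat_lit 795410218)) ::
  ([nat_lit 6, nat_lit 4], (nat_lit 97), [], (nat_lit 795602133)) ::
  ([nat_lit 5, nat_lit 4], (nat_lit 54), [], (nat_lit 795679039)) ::
  ([nat_lit 4], (nat_lit 53), [], (nat_lit 797933000)) ::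
  ([nat_lit 4], (nat_lit 5), [], (nat_lit 803093431)) ::
  ([nat_lit 5, nat_lit 3], (nat_lit 52), [], (nat_lit 803315519)) ::
  cdE800
noncomputable def cdE700 : List (List ℕ × ℕ × List ℕ × ℕ) :=
  ([], (nat_lit 106), [], (nat_lit 696804275)) ::
  ([nat_lit 6, nat_lit 4], (nat_lit 37), [], (nat_lit 699275285)) ::
  ([nat_lit 6], (nat_lit 20), [], (nat_lit 699317624)) ::
  ([nat_lit 6, nat_lit 3], (nat_lit 16), [], (nat_lit 700722198)) ::
  ([nat_lit 5, nat_lit 3], (nat_lit 81), [], (nat_lit 702310678)) ::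
  ([nat_lit 6, nat_lit 3], (nat_lit 33), [], (nat_lit 704618816)) ::
  ([nat_lit 5, nat_lit 3], (nat_lit 35), [], (nat_lit 704904920)) ::
  ([nat_lit 5, nat_lit 3], (nat_lit 27), [], (nat_lit 705099265)) ::
  ([nat_lit 4], (nat_lit 37), [], (nat_lit 705771472)) ::
  ([nat_lit 4], (nat_lit 36), [], (nat_lit 705975057)) ::
  ([nat_lit 3], (nat_lit 60), [], (nat_lit 707416027)) ::
  ([nat_lit 6], (nat_lit 44), [], (nat_lit 708834412)) ::
  ([nat_lit 4], (nat_lit 17), [], (nat_lit 709154124)) ::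
  ([nat_lit 5, nat_lit 4], (nat_lit 93), [], (nat_lit 709588375)) ::
  ([nat_lit 4], (nat_lit 88), [], (nat_lit 709751773)) ::
  ([nat_lit 3], (nat_lit 9), [], (nat_lit 710103287)) ::
  ([nat_lit 6], (nat_lit 67), [], (nat_lit 710588443)) ::
  ([nat_lit 5, nat_lit 3], (nat_lit 10), [], (nat_lit 710983082)) ::
  ([nat_lit 6, nat_lit 3], (nat_lit 61), [], (nat_lit 711084689)) ::
  ([nat_lit 6], (nat_lit 101), [], (nat_lit 711448843)) ::
  ([nat_lit 6, nat_lit 3], (nat_lit 29), [], (nat_lit 714560502)) ::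
  ([nat_lit 6], (nat_lit 71), [], (nat_lit 714639009)) ::
  ([nat_lit 6, nat_lit 3], (nat_lit 69), [], (nat_lit 714935697)) ::
  ([nat_lit 4], (nat_lit 78), [], (nat_lit 715522851)) ::
  ([nat_lit 6, nat_lit 3], (nat_lit 57), [], (nat_lit 715947455)) ::
  ([nat_lit 6, nat_lit 4], (nat_lit 65), [], (nat_lit 717422425)) ::
  ([nat_lit 5, nat_lit 4], (nat_lit 21), [], (nat_lit 721551955)) ::
  ([nat_lit 5, nat_lit 3], (nat_lit 47), [], (nat_lit 722558137)) ::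
  ([nat_lit 4], (nat_lit 97), [], (nat_lit 722680281)) ::
  ([nat_lit 4], (nat_lit 23), [], (nat_lit 724793011)) ::
  ([nat_lit 6, nat_lit 4], (nat_lit 74), [], (nat_lit 726141156)) ::
  ([], (nat_lit 22), [], (nat_lit 726254620)) ::
  ([nat_lit 5, nat_lit 3], (nat_lit 99), [], (nat_lit 728556400)) ::
  ([nat_lit 6, nat_lit 3], (nat_lit 83), [], (nat_lit 729094703)) ::
  ([nat_lit 4], (nat_lit 9), [], (nat_lit 729416717)) ::
  ([nat_lit 6, nat_lit 3], (nat_lit 74), [], (nat_lit 729969896)) ::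
  ([nat_lit 6, nat_lit 4], (nat_lit 61), [], (nat_lit 730477907)) ::
  ([nat_lit 5, nat_lit 4], (nat_lit 82), [], (nat_lit 731336226)) ::
  ([nat_lit 4], (nat_lit 3), [], (nat_lit 732962353)) ::
  ([nat_lit 5, nat_lit 3], (nat_lit 69), [], (nat_lit 733555223)) ::
  ([nat_lit 6, nat_lit 3], (nat_lit 39), [], (nat_lit 733780831)) ::
  ([nat_lit 3], (nat_lit 48), [], (nat_lit 735805873)) ::
  ([nat_lit 4], (nat_lit 4), [], (nat_lit 737270632)) ::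
  ([nat_lit 5], (nat_lit 13), [], (nat_lit 737587847)) ::
  ([nat_lit 6, nat_lit 3], (nat_lit 62), [], (nat_lit 739881832)) ::
  ([nat_lit 5, nat_lit 3], (nat_lit 43), [], (nat_lit 740628136)) ::
  ([nat_lit 4], (nat_lit 109), [], (nat_lit 740773721)) ::
  ([], (nat_lit 96), [], (nat_lit 743513389)) ::
  ([], (nat_lit 98), [], (nat_lit 743532992)) ::
  ([], (nat_lit 87), [], (nat_lit 746392982)) ::
  cdE750
noncomputable def cdE650 : List (List ℕ × ℕ × List ℕ × ℕ) :=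
  ([nat_lit 4], (nat_lit 10), [], (nat_lit 652126685)) ::
  ([], (nat_lit 19), [], (nat_lit 654544168)) ::
  ([nat_lit 5, nat_lit 4], (nat_lit 98), [], (nat_lit 655157150)) ::
  ([nat_lit 4], (nat_lit 7), [], (nat_lit 655718730)) ::
  ([nat_lit 5, nat_lit 3], (nat_lit 106), [], (nat_lit 656405003)) ::
  ([nat_lit 6, nat_lit 4], (nat_lit 92), [], (nat_lit 656822870)) ::
  ([nat_lit 5, nat_lit 3], (nat_lit 18), [], (nat_lit 657904739)) ::
  ([nat_lit 6, nat_lit 4], (nat_lit 36), [], (nat_lit 658035199)) ::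
  ([nat_lit 5, nat_lit 4], (nat_lit 73), [], (nat_lit 659468124)) ::
  ([nat_lit 3], (nat_lit 79), [], (nat_lit 660925619)) ::
  ([nat_lit 6], (nat_lit 31), [], (nat_lit 663023985)) ::
  ([nat_lit 3], (nat_lit 93), [], (nat_lit 663789764)) ::
  ([nat_lit 6, nat_lit 4], (nat_lit 81), [], (nat_lit 664077845)) ::
  ([nat_lit 5], (nat_lit 45), [], (nat_lit 666540334)) ::
  ([nat_lit 6, nat_lit 3], (nat_lit 38), [], (nat_lit 666742617)) ::
  ([nat_lit 5], (nat_lit 35), [], (nat_lit 667484055)) ::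
  ([nat_lit 5], (nat_lit 110), [], (nat_lit 669787434)) ::
  ([], (nat_lit 38), [], (nat_lit 670519991)) ::
  ([nat_lit 6, nat_lit 4], (nat_lit 12), [], (nat_lit 670637537)) ::
  ([nat_lit 5, nat_lit 3], (nat_lit 16), [], (nat_lit 671390586)) ::
  ([nat_lit 6, nat_lit 3], (nat_lit 31), [], (nat_lit 671539979)) ::
  ([], (nat_lit 80), [], (nat_lit 672119349)) ::
  ([nat_lit 4], (nat_lit 83), [], (nat_lit 673928620)) ::
  ([nat_lit 3], (nat_lit 64), [], (nat_lit 676385178)) ::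
  ([nat_lit 6], (nat_lit 88), [], (nat_lit 676937059)) ::
  ([nat_lit 6], (nat_lit 37), [], (nat_lit 678412496)) ::
  ([nat_lit 3], (nat_lit 51), [], (nat_lit 679611183)) ::
  ([nat_lit 5, nat_lit 3], (nat_lit 32), [], (nat_lit 681474513)) ::
  ([nat_lit 6, nat_lit 4], (nat_lit 52), [], (nat_lit 681973969)) ::
  ([nat_lit 5, nat_lit 3], (nat_lit 101), [], (nat_lit 682499953)) ::
  ([nat_lit 5], (nat_lit 76), [], (nat_lit 682634958)) ::
  ([nat_lit 5, nat_lit 4], (nat_lit 87), [], (nat_lit 682951197)) ::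
  ([nat_lit 5, nat_lit 3], (nat_lit 71), [], (nat_lit 684635474)) ::
  ([nat_lit 6, nat_lit 3], (nat_lit 64), [], (nat_lit 684693347)) ::
  ([nat_lit 5, nat_lit 3], (nat_lit 19), [], (nat_lit 685558908)) ::
  ([], (nat_lit 56), [], (nat_lit 686603426)) ::
  ([nat_lit 4], (nat_lit 45), [], (nat_lit 687491091)) ::
  ([nat_lit 5, nat_lit 3], (nat_lit 109), [], (nat_lit 688276101)) ::
  ([nat_lit 4], (nat_lit 26), [], (nat_lit 689086579)) ::
  ([nat_lit 4], (nat_lit 39), [], (nat_lit 692265704)) ::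
  ([nat_lit 6, nat_lit 4], (nat_lit 10), [], (nat_lit 692298429)) ::
  ([nat_lit 6, nat_lit 3], (nat_lit 7), [], (nat_lit 692608798)) ::
  ([nat_lit 5], (nat_lit 61), [], (nat_lit 693327127)) ::
  ([nat_lit 6, nat_lit 4], (nat_lit 83), [], (nat_lit 694071963)) ::
  ([nat_lit 6], (nat_lit 19), [], (nat_lit 694375494)) ::
  ([nat_lit 5], (nat_lit 24), [], (nat_lit 695296212)) ::
  ([nat_lit 5, nat_lit 4], (nat_lit 60), [], (nat_lit 696004882)) ::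
  ([nat_lit 5, nat_lit 3], (nat_lit 61), [], (nat_lit 696486023)) ::
  ([nat_lit 4], (nat_lit 94), [], (nat_lit 696730672)) ::
  ([nat_lit 6, nat_lit 3], (nat_lit 37), [], (nat_lit 696779667)) ::
  cdE700
noncomputable def cdE600 : List (List ℕ × ℕ × List ℕ × ℕ) :=
  ([nat_lit 5, nat_lit 4], (nat_lit 88), [], (nat_lit 592244053)) ::
  ([nat_lit 5], (nat_lit 2), [], (nat_lit 593012645)) ::
  ([nat_lit 4], (nat_lit 16), [], (nat_lit 593288610)) ::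
  ([nat_lit 5, nat_lit 3], (nat_lit 36), [], (nat_lit 593549187)) ::
  ([nat_lit 5, nat_lit 4], (nat_lit 38), [], (nat_lit 593849836)) ::
  ([nat_lit 5], (nat_lit 67), [], (nat_lit 594431892)) ::
  ([nat_lit 3], (nat_lit 62), [], (nat_lit 594823961)) ::
  ([nat_lit 5], (nat_lit 50), [], (nat_lit 595978434)) ::
  ([nat_lit 5, nat_lit 3], (nat_lit 29), [], (nat_lit 597305132)) ::
  ([nat_lit 5, nat_lit 3], (nat_lit 6), [], (nat_lit 597478667)) ::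
  ([nat_lit 5, nat_lit 4], (nat_lit 107), [], (nat_lit 598073163)) ::
  ([nat_lit 5], (nat_lit 108), [], (nat_lit 599729745)) ::
  ([nat_lit 4], (nat_lit 71), [], (nat_lit 600292519)) ::
  ([nat_lit 5, nat_lit 3], (nat_lit 104), [], (nat_lit 600454344)) ::
  ([nat_lit 5, nat_lit 4], (nat_lit 4), [], (nat_lit 601676764)) ::
  ([nat_lit 5, nat_lit 3], (nat_lit 83), [], (nat_lit 603946105)) ::
  ([nat_lit 5], (nat_lit 19), [], (nat_lit 604596064)) ::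
  ([nat_lit 5], (nat_lit 81), [], (nat_lit 605391277)) ::
  ([nat_lit 6], (nat_lit 80), [], (nat_lit 606538742)) ::
  ([nat_lit 4], (nat_lit 24), [], (nat_lit 609380222)) ::
  ([nat_lit 5], (nat_lit 56), [], (nat_lit 610968137)) ::
  ([nat_lit 5, nat_lit 3], (nat_lit 92), [], (nat_lit 611107944)) ::
  ([nat_lit 5, nat_lit 3], (nat_lit 103), [], (nat_lit 611441036)) ::
  ([nat_lit 6, nat_lit 3], (nat_lit 11), [], (nat_lit 613835307)) ::
  ([nat_lit 6, nat_lit 3], (nat_lit 93), [], (nat_lit 614589585)) ::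
  ([nat_lit 6, nat_lit 3], (nat_lit 43), [], (nat_lit 615262320)) ::
  ([nat_lit 5, nat_lit 4], (nat_lit 110), [], (nat_lit 616696442)) ::
  ([nat_lit 5], (nat_lit 26), [], (nat_lit 618207004)) ::
  ([nat_lit 5, nat_lit 3], (nat_lit 93), [], (nat_lit 622670475)) ::
  ([nat_lit 5, nat_lit 3], (nat_lit 56), [], (nat_lit 626265929)) ::
  ([nat_lit 3], (nat_lit 13), [], (nat_lit 627106111)) ::
  ([], (nat_lit 107), [], (nat_lit 627530499)) ::
  ([nat_lit 4], (nat_lit 111), [], (nat_lit 628488193)) ::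
  ([nat_lit 3], (nat_lit 59), [], (nat_lit 629646638)) ::
  ([], (nat_lit 72), [], (nat_lit 631563038)) ::
  ([nat_lit 5], (nat_lit 17), [], (nat_lit 632404909)) ::
  ([nat_lit 3], (nat_lit 17), [], (nat_lit 633029151)) ::
  ([nat_lit 3], (nat_lit 80), [], (nat_lit 633086999)) ::
  ([nat_lit 6, nat_lit 3], (nat_lit 65), [], (nat_lit 634451104)) ::
  ([nat_lit 6, nat_lit 4], (nat_lit 78), [], (nat_lit 634682670)) ::
  ([nat_lit 5, nat_lit 4], (nat_lit 64), [], (nat_lit 634875515)) ::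
  ([nat_lit 6], (nat_lit 25), [], (nat_lit 635166043)) ::
  ([], (nat_lit 34), [], (nat_lit 636640094)) ::
  ([nat_lit 5], (nat_lit 64), [], (nat_lit 641289089)) ::
  ([nat_lit 6], (nat_lit 95), [], (nat_lit 643713040)) ::
  ([nat_lit 3], (nat_lit 104), [], (nat_lit 645057927)) ::
  ([nat_lit 6, nat_lit 4], (nat_lit 89), [], (nat_lit 646555571)) ::
  ([nat_lit 6, nat_lit 3], (nat_lit 92), [], (nat_lit 648115638)) ::
  ([nat_lit 5, nat_lit 4], (nat_lit 108), [], (nat_lit 649553818)) ::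
  ([nat_lit 5], (nat_lit 78), [], (nat_lit 650033676)) ::
  cdE650
noncomputable def cdE550 : List (List ℕ × ℕ × List ℕ × ℕ) :=
  ([nat_lit 5, nat_lit 4], (nat_lit 75), [], (nat_lit 554622702)) ::
  ([nat_lit 3], (nat_lit 31), [], (nat_lit 556117878)) ::
  ([nat_lit 3], (nat_lit 84), [], (nat_lit 556273021)) ::
  ([nat_lit 5, nat_lit 4], (nat_lit 104), [], (nat_lit 557681448)) ::
  ([nat_lit 5, nat_lit 4], (nat_lit 100), [], (nat_lit 558984876)) ::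
  ([nat_lit 4], (nat_lit 54), [], (nat_lit 559893140)) ::
  ([nat_lit 6, nat_lit 4], (nat_lit 104), [], (nat_lit 560097474)) ::
  ([nat_lit 5], (nat_lit 43), [], (nat_lit 560302844)) ::
  ([nat_lit 6, nat_lit 3], (nat_lit 18), [], (nat_lit 560821267)) ::
  ([nat_lit 6], (nat_lit 1), [], (nat_lit 561062588)) ::
  ([nat_lit 5], (nat_lit 20), [], (nat_lit 562336837)) ::
  ([nat_lit 4], (nat_lit 32), [], (nat_lit 562745912)) ::
  ([nat_lit 5], (nat_lit 3), [], (nat_lit 562989368)) ::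
  ([], (nat_lit 109), [], (nat_lit 564749666)) ::
  ([nat_lit 5, nat_lit 3], (nat_lit 102), [], (nat_lit 565036411)) ::
  ([nat_lit 4], (nat_lit 22), [], (nat_lit 566237847)) ::
  ([nat_lit 5], (nat_lit 94), [], (nat_lit 566883408)) ::
  ([nat_lit 5, nat_lit 3], (nat_lit 97), [], (nat_lit 567608392)) ::
  ([], (nat_lit 42), [], (nat_lit 567895221)) ::
  ([nat_lit 6, nat_lit 3], (nat_lit 12), [], (nat_lit 569235017)) ::
  ([nat_lit 6], (nat_lit 40), [], (nat_lit 569561805)) ::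
  ([], (nat_lit 64), [], (nat_lit 569701000)) ::
  ([], (nat_lit 48), [], (nat_lit 570448949)) ::
  ([nat_lit 6, nat_lit 3], (nat_lit 88), [], (nat_lit 571616308)) ::
  ([nat_lit 5, nat_lit 3], (nat_lit 75), [], (nat_lit 572706076)) ::
  ([nat_lit 5, nat_lit 4], (nat_lit 59), [], (nat_lit 572790166)) ::
  ([nat_lit 5, nat_lit 3], (nat_lit 17), [], (nat_lit 574517620)) ::
  ([nat_lit 3], (nat_lit 61), [], (nat_lit 574811015)) ::
  ([nat_lit 5, nat_lit 3], (nat_lit 59), [], (nat_lit 576028089)) ::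
  ([nat_lit 6, nat_lit 4], (nat_lit 19), [], (nat_lit 577917383)) ::
  ([nat_lit 6, nat_lit 4], (nat_lit 64), [], (nat_lit 578039992)) ::
  ([nat_lit 6, nat_lit 4], (nat_lit 14), [], (nat_lit 578428743)) ::
  ([], (nat_lit 7), [], (nat_lit 578951303)) ::
  ([], (nat_lit 111), [], (nat_lit 579347870)) ::
  ([nat_lit 6, nat_lit 4], (nat_lit 53), [], (nat_lit 580471263)) ::
  ([nat_lit 5], (nat_lit 109), [], (nat_lit 581706807)) ::
  ([nat_lit 6, nat_lit 4], (nat_lit 51), [], (nat_lit 581942856)) ::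
  ([nat_lit 4], (nat_lit 29), [], (nat_lit 582583050)) ::
  ([nat_lit 6, nat_lit 3], (nat_lit 108), [], (nat_lit 582676538)) ::
  ([nat_lit 5], (nat_lit 27), [], (nat_lit 583224293)) ::
  ([nat_lit 4], (nat_lit 91), [], (nat_lit 583976800)) ::
  ([nat_lit 4], (nat_lit 103), [], (nat_lit 585492983)) ::
  ([nat_lit 5], (nat_lit 38), [], (nat_lit 586210524)) ::
  ([nat_lit 6, nat_lit 4], (nat_lit 82), [], (nat_lit 587664268)) ::
  ([nat_lit 4], (nat_lit 84), [], (nat_lit 589198581)) ::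
  ([nat_lit 6, nat_lit 3], (nat_lit 46), [], (nat_lit 589761510)) ::
  ([nat_lit 5], (nat_lit 100), [], (nat_lit 590259438)) ::
  ([nat_lit 6], (nat_lit 4), [], (nat_lit 591685882)) ::
  ([nat_lit 6, nat_lit 4], (nat_lit 75), [], (nat_lit 591844314)) ::
  ([nat_lit 5], (nat_lit 102), [], (nat_lit 592203775)) ::
  cdE600
noncomputable def cdE500 : List (List ℕ × ℕ × List ℕ × ℕ) :=
  ([nat_lit 5, nat_lit 4], (nat_lit 37), [], (nat_lit 499619272)) ::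
  ([nat_lit 4], (nat_lit 2), [], (nat_lit 501039014)) ::
  ([nat_lit 6, nat_lit 4], (nat_lit 67), [], (nat_lit 502312855)) ::
  ([nat_lit 5, nat_lit 3], (nat_lit 7), [], (nat_lit 502744593)) ::
  ([nat_lit 3], (nat_lit 33), [], (nat_lit 502939525)) ::
  ([nat_lit 6, nat_lit 3], (nat_lit 50), [], (nat_lit 503726455)) ::
  ([nat_lit 5, nat_lit 3], (nat_lit 48), [], (nat_lit 506457509)) ::
  ([nat_lit 6, nat_lit 3], (nat_lit 32), [], (nat_lit 506953849)) ::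
  ([nat_lit 6, nat_lit 4], (nat_lit 8), [], (nat_lit 507072807)) ::
  ([], (nat_lit 17), [], (nat_lit 507423945)) ::
  ([nat_lit 6, nat_lit 3], (nat_lit 6), [], (nat_lit 507570768)) ::
  ([nat_lit 6], (nat_lit 72), [], (nat_lit 508167494)) ::
  ([nat_lit 5, nat_lit 4], (nat_lit 65), [], (nat_lit 508675308)) ::
  ([nat_lit 6, nat_lit 4], (nat_lit 59), [], (nat_lit 509985663)) ::
  ([nat_lit 6], (nat_lit 90), [], (nat_lit 510755402)) ::
  ([nat_lit 5, nat_lit 4], (nat_lit 41), [], (nat_lit 511038769)) ::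
  ([nat_lit 5, nat_lit 3], (nat_lit 65), [], (nat_lit 513151742)) ::
  ([], (nat_lit 85), [], (nat_lit 513368080)) ::
  ([nat_lit 6, nat_lit 4], (nat_lit 50), [], (nat_lit 515194676)) ::
  ([nat_lit 4], (nat_lit 95), [], (nat_lit 516313141)) ::
  ([nat_lit 6], (nat_lit 33), [], (nat_lit 516994925)) ::
  ([nat_lit 6, nat_lit 4], (nat_lit 110), [], (nat_lit 518991206)) ::
  ([nat_lit 5, nat_lit 4], (nat_lit 1), [], (nat_lit 519523271)) ::
  ([nat_lit 6, nat_lit 3], (nat_lit 54), [], (nat_lit 521055052)) ::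
  ([nat_lit 6, nat_lit 3], (nat_lit 78), [], (nat_lit 522524431)) ::
  ([nat_lit 6, nat_lit 3], (nat_lit 66), [], (nat_lit 524531546)) ::
  ([nat_lit 4], (nat_lit 74), [], (nat_lit 524789112)) ::
  ([nat_lit 5, nat_lit 3], (nat_lit 80), [], (nat_lit 525723129)) ::
  ([nat_lit 3], (nat_lit 66), [], (nat_lit 528734789)) ::
  ([nat_lit 6, nat_lit 4], (nat_lit 2), [], (nat_lit 529395479)) ::
  ([nat_lit 5], (nat_lit 113), [], (nat_lit 529827309)) ::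
  ([nat_lit 5, nat_lit 4], (nat_lit 84), [], (nat_lit 530239114)) ::
  ([nat_lit 5, nat_lit 3], (nat_lit 23), [], (nat_lit 530485856)) ::
  ([nat_lit 6, nat_lit 4], (nat_lit 108), [], (nat_lit 533566525)) ::
  ([nat_lit 4], (nat_lit 40), [], (nat_lit 534003112)) ::
  ([nat_lit 3], (nat_lit 35), [], (nat_lit 534177048)) ::
  ([nat_lit 5, nat_lit 4], (nat_lit 9), [], (nat_lit 534746781)) ::
  ([nat_lit 4], (nat_lit 30), [], (nat_lit 534753519)) ::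
  ([nat_lit 3], (nat_lit 41), [], (nat_lit 535484878)) ::
  ([nat_lit 4], (nat_lit 50), [], (nat_lit 535599574)) ::
  ([nat_lit 5], (nat_lit 73), [], (nat_lit 535722346)) ::
  ([nat_lit 3], (nat_lit 75), [], (nat_lit 535881896)) ::
  ([nat_lit 5, nat_lit 3], (nat_lit 79), [], (nat_lit 537565298)) ::
  ([nat_lit 6, nat_lit 3], (nat_lit 89), [], (nat_lit 539014355)) ::
  ([nat_lit 6, nat_lit 4], (nat_lit 3), [], (nat_lit 540186893)) ::
  ([nat_lit 6, nat_lit 4], (nat_lit 73), [], (nat_lit 540615723)) ::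
  ([nat_lit 5, nat_lit 3], (nat_lit 64), [], (nat_lit 540875231)) ::
  ([nat_lit 5], (nat_lit 8), [], (nat_lit 547750321)) ::
  ([nat_lit 5, nat_lit 3], (nat_lit 42), [], (nat_lit 551337140)) ::
  ([], (nat_lit 0), [], (nat_lit 554419045)) ::
  cdE550
noncomputable def cdE450 : List (List ℕ × ℕ × List ℕ × ℕ) :=
  ([nat_lit 6], (nat_lit 61), [], (nat_lit 447757833)) ::
  ([nat_lit 6, nat_lit 3], (nat_lit 107), [], (nat_lit 447823607)) ::
  ([nat_lit 5, nat_lit 3], (nat_lit 34), [], (nat_lit 450639586)) ::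
  ([nat_lit 4], (nat_lit 12), [], (nat_lit 451557733)) ::
  ([nat_lit 5, nat_lit 4], (nat_lit 46), [], (nat_lit 452887005)) ::
  ([nat_lit 6], (nat_lit 9), [], (nat_lit 453096161)) ::
  ([nat_lit 6], (nat_lit 60), [], (nat_lit 453178584)) ::
  ([nat_lit 4], (nat_lit 47), [], (nat_lit 454610201)) ::
  ([nat_lit 5, nat_lit 4], (nat_lit 47), [], (nat_lit 457077858)) ::
  ([nat_lit 5, nat_lit 4], (nat_lit 92), [], (nat_lit 458005801)) ::
  ([], (nat_lit 77), [], (nat_lit 458542825)) ::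
  ([nat_lit 3], (nat_lit 102), [], (nat_lit 458864649)) ::
  ([], (nat_lit 33), [], (nat_lit 461621258)) ::
  ([nat_lit 6, nat_lit 4], (nat_lit 16), [], (nat_lit 462239011)) ::
  ([], (nat_lit 71), [], (nat_lit 462587673)) ::
  ([nat_lit 5, nat_lit 3], (nat_lit 46), [], (nat_lit 462675152)) ::
  ([nat_lit 6, nat_lit 3], (nat_lit 30), [], (nat_lit 463931694)) ::
  ([nat_lit 6], (nat_lit 29), [], (nat_lit 464894138)) ::
  ([], (nat_lit 51), [], (nat_lit 465394733)) ::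
  ([nat_lit 5, nat_lit 4], (nat_lit 48), [], (nat_lit 466654434)) ::
  ([nat_lit 6], (nat_lit 36), [], (nat_lit 468719684)) ::
  ([nat_lit 5, nat_lit 4], (nat_lit 68), [], (nat_lit 468991737)) ::
  ([nat_lit 5, nat_lit 4], (nat_lit 32), [], (nat_lit 469591374)) ::
  ([nat_lit 6, nat_lit 3], (nat_lit 104), [], (nat_lit 470086411)) ::
  ([nat_lit 3], (nat_lit 89), [], (nat_lit 470133662)) ::
  ([nat_lit 5], (nat_lit 46), [], (nat_lit 470921074)) ::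
  ([], (nat_lit 14), [], (nat_lit 471454552)) ::
  ([nat_lit 5, nat_lit 3], (nat_lit 96), [], (nat_lit 471605262)) ::
  ([nat_lit 5, nat_lit 4], (nat_lit 26), [], (nat_lit 471696482)) ::
  ([nat_lit 3], (nat_lit 105), [], (nat_lit 472230545)) ::
  ([nat_lit 5, nat_lit 3], (nat_lit 30), [], (nat_lit 474317711)) ::
  ([nat_lit 3], (nat_lit 100), [], (nat_lit 475559738)) ::
  ([nat_lit 6], (nat_lit 78), [], (nat_lit 476976062)) ::
  ([nat_lit 6, nat_lit 4], (nat_lit 47), [], (nat_lit 477449862)) ::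
  ([nat_lit 6, nat_lit 4], (nat_lit 58), [], (nat_lit 481910338)) ::
  ([nat_lit 3], (nat_lit 40), [], (nat_lit 482155714)) ::
  ([nat_lit 3], (nat_lit 110), [], (nat_lit 482667565)) ::
  ([nat_lit 6, nat_lit 4], (nat_lit 66), [], (nat_lit 485487191)) ::
  ([nat_lit 6, nat_lit 3], (nat_lit 27), [], (nat_lit 486430290)) ::
  ([nat_lit 5, nat_lit 3], (nat_lit 90), [], (nat_lit 488814038)) ::
  ([nat_lit 6, nat_lit 4], (nat_lit 101), [], (nat_lit 489914378)) ::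
  ([nat_lit 6, nat_lit 3], (nat_lit 13), [], (nat_lit 491243179)) ::
  ([nat_lit 5], (nat_lit 12), [], (nat_lit 491859954)) ::
  ([nat_lit 5, nat_lit 4], (nat_lit 95), [], (nat_lit 492519688)) ::
  ([nat_lit 6], (nat_lit 106), [], (nat_lit 493564664)) ::
  ([nat_lit 4], (nat_lit 67), [], (nat_lit 496193707)) ::
  ([nat_lit 4], (nat_lit 92), [], (nat_lit 497051223)) ::
  ([nat_lit 4], (nat_lit 6), [], (nat_lit 498491880)) ::
  ([nat_lit 6, nat_lit 3], (nat_lit 68), [], (nat_lit 498635775)) ::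
  ([], (nat_lit 20), [], (nat_lit 498792575)) ::
  cdE500
noncomputable def cdE400 : List (List ℕ × ℕ × List ℕ × ℕ) :=
  ([nat_lit 5], (nat_lit 86), [], (nat_lit 409848421)) ::
  ([nat_lit 6, nat_lit 3], (nat_lit 49), [], (nat_lit 410097795)) ::
  ([nat_lit 4], (nat_lit 73), [], (nat_lit 413517683)) ::
  ([nat_lit 5, nat_lit 3], (nat_lit 25), [], (nat_lit 413803918)) ::
  ([nat_lit 5, nat_lit 3], (nat_lit 13), [], (nat_lit 414919925)) ::
  ([nat_lit 5, nat_lit 4], (nat_lit 14), [], (nat_lit 414961250)) ::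
  ([nat_lit 5, nat_lit 4], (nat_lit 23), [], (nat_lit 415236025)) ::
  ([nat_lit 5, nat_lit 3], (nat_lit 14), [], (nat_lit 415262520)) ::
  ([nat_lit 5], (nat_lit 40), [], (nat_lit 415318496)) ::
  ([nat_lit 6, nat_lit 4], (nat_lit 71), [], (nat_lit 415992552)) ::
  ([nat_lit 5], (nat_lit 59), [], (nat_lit 416288897)) ::
  ([nat_lit 6, nat_lit 4], (nat_lit 87), [], (nat_lit 417409283)) ::
  ([], (nat_lit 88), [], (nat_lit 417710864)) ::
  ([nat_lit 5, nat_lit 3], (nat_lit 28), [], (nat_lit 418508385)) ::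
  ([nat_lit 6, nat_lit 3], (nat_lit 14), [], (nat_lit 419079359)) ::
  ([nat_lit 6], (nat_lit 64), [], (nat_lit 419556496)) ::
  ([nat_lit 3], (nat_lit 68), [], (nat_lit 420767086)) ::
  ([], (nat_lit 32), [], (nat_lit 421005130)) ::
  ([nat_lit 3], (nat_lit 10), [], (nat_lit 421027215)) ::
  ([nat_lit 5], (nat_lit 9), [], (nat_lit 421211472)) ::
  ([nat_lit 5, nat_lit 3], (nat_lit 84), [], (nat_lit 422188276)) ::
  ([nat_lit 6, nat_lit 3], (nat_lit 98), [], (nat_lit 422941090)) ::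
  ([nat_lit 6, nat_lit 3], (nat_lit 109), [], (nat_lit 423782252)) ::
  ([nat_lit 4], (nat_lit 81), [], (nat_lit 424138770)) ::
  ([nat_lit 5, nat_lit 3], (nat_lit 110), [], (nat_lit 424890777)) ::
  ([nat_lit 6], (nat_lit 69), [], (nat_lit 425018665)) ::
  ([nat_lit 5, nat_lit 4], (nat_lit 13), [], (nat_lit 425646232)) ::
  ([nat_lit 6, nat_lit 3], (nat_lit 67), [], (nat_lit 425933237)) ::
  ([nat_lit 6, nat_lit 3], (nat_lit 8), [], (nat_lit 427215710)) ::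
  ([nat_lit 6], (nat_lit 35), [], (nat_lit 427285878)) ::
  ([nat_lit 6, nat_lit 3], (nat_lit 34), [], (nat_lit 428010061)) ::
  ([nat_lit 5, nat_lit 4], (nat_lit 67), [], (nat_lit 428010374)) ::
  ([nat_lit 6, nat_lit 3], (nat_lit 21), [], (nat_lit 428155728)) ::
  ([], (nat_lit 28), [], (nat_lit 429403806)) ::
  ([], (nat_lit 76), [], (nat_lit 429631338)) ::
  ([nat_lit 4], (nat_lit 75), [], (nat_lit 430226905)) ::
  ([], (nat_lit 2), [], (nat_lit 433725419)) ::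
  ([nat_lit 6], (nat_lit 41), [], (nat_lit 434036857)) ::
  ([nat_lit 5], (nat_lit 105), [], (nat_lit 435449737)) ::
  ([], (nat_lit 52), [], (nat_lit 435820025)) ::
  ([], (nat_lit 4), [], (nat_lit 436521612)) ::
  ([nat_lit 5, nat_lit 4], (nat_lit 25), [], (nat_lit 437114270)) ::
  ([nat_lit 3], (nat_lit 108), [], (nat_lit 437337266)) ::
  ([nat_lit 3], (nat_lit 46), [], (nat_lit 437653799)) ::
  ([nat_lit 6], (nat_lit 28), [], (nat_lit 438561722)) ::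
  ([], (nat_lit 13), [], (nat_lit 439709102)) ::
  ([nat_lit 5, nat_lit 4], (nat_lit 66), [], (nat_lit 441367555)) ::
  ([nat_lit 6], (nat_lit 12), [], (nat_lit 445618073)) ::
  ([], (nat_lit 101), [], (nat_lit 446407409)) ::
  ([nat_lit 3], (nat_lit 37), [], (nat_lit 447308198)) ::
  cdE450
noncomputable def cdE350 : List (List ℕ × ℕ × List ℕ × ℕ) :=
  ([nat_lit 6], (nat_lit 16), [], (nat_lit 355885214)) ::
  ([nat_lit 3], (nat_lit 87), [], (nat_lit 356275830)) ::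
  ([nat_lit 6, nat_lit 3], (nat_lit 48), [], (nat_lit 357105530)) ::
  ([nat_lit 6, nat_lit 3], (nat_lit 75), [], (nat_lit 358280018)) ::
  ([nat_lit 4], (nat_lit 21), [], (nat_lit 358552921)) ::
  ([nat_lit 6], (nat_lit 39), [], (nat_lit 358603633)) ::
  ([nat_lit 5, nat_lit 3], (nat_lit 67), [], (nat_lit 358881506)) ::
  ([nat_lit 6, nat_lit 3], (nat_lit 60), [], (nat_lit 361229885)) ::
  ([nat_lit 5, nat_lit 3], (nat_lit 49), [], (nat_lit 361362839)) ::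
  ([nat_lit 5], (nat_lit 49), [], (nat_lit 362730773)) ::
  ([nat_lit 6, nat_lit 4], (nat_lit 57), [], (nat_lit 363080875)) ::
  ([nat_lit 6], (nat_lit 100), [], (nat_lit 365497524)) ::
  ([nat_lit 4], (nat_lit 90), [], (nat_lit 366359649)) ::
  ([nat_lit 6], (nat_lit 91), [], (nat_lit 368759413)) ::
  ([nat_lit 6, nat_lit 4], (nat_lit 107), [], (nat_lit 369896181)) ::
  ([nat_lit 3], (nat_lit 74), [], (nat_lit 370376145)) ::
  ([], (nat_lit 44), [], (nat_lit 371182109)) ::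
  ([nat_lit 4], (nat_lit 68), [], (nat_lit 371445487)) ::
  ([nat_lit 3], (nat_lit 36), [], (nat_lit 372671244)) ::
  ([nat_lit 6, nat_lit 3], (nat_lit 58), [], (nat_lit 373153785)) ::
  ([nat_lit 3], (nat_lit 8), [], (nat_lit 374590366)) ::
  ([nat_lit 6, nat_lit 4], (nat_lit 26), [], (nat_lit 375616311)) ::
  ([nat_lit 6], (nat_lit 77), [], (nat_lit 379138159)) ::
  ([nat_lit 5, nat_lit 3], (nat_lit 85), [], (nat_lit 380527654)) ::
  ([nat_lit 6], (nat_lit 70), [], (nat_lit 382564896)) ::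
  ([], (nat_lit 5), [], (nat_lit 384541933)) ::
  ([nat_lit 6, nat_lit 3], (nat_lit 110), [], (nat_lit 384857579)) ::
  ([], (nat_lit 23), [], (nat_lit 385353196)) ::
  ([nat_lit 6], (nat_lit 14), [], (nat_lit 386672889)) ::
  ([nat_lit 5], (nat_lit 32), [], (nat_lit 387804309)) ::
  ([nat_lit 6, nat_lit 4], (nat_lit 38), [], (nat_lit 388045834)) ::
  ([nat_lit 4], (nat_lit 66), [], (nat_lit 390520506)) ::
  ([nat_lit 6, nat_lit 4], (nat_lit 18), [], (nat_lit 391888656)) ::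
  ([nat_lit 4], (nat_lit 11), [], (nat_lit 392061121)) ::
  ([nat_lit 5], (nat_lit 99), [], (nat_lit 393540001)) ::
  ([nat_lit 6], (nat_lit 108), [], (nat_lit 393954410)) ::
  ([nat_lit 5, nat_lit 4], (nat_lit 91), [], (nat_lit 394112983)) ::
  ([nat_lit 4], (nat_lit 70), [], (nat_lit 396991979)) ::
  ([nat_lit 6, nat_lit 4], (nat_lit 15), [], (nat_lit 397343911)) ::
  ([nat_lit 5, nat_lit 3], (nat_lit 68), [], (nat_lit 398171015)) ::
  ([nat_lit 6, nat_lit 4], (nat_lit 60), [], (nat_lit 398570398)) ::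
  ([nat_lit 6], (nat_lit 62), [], (nat_lit 399716280)) ::
  ([nat_lit 3], (nat_lit 39), [], (nat_lit 401150809)) ::
  ([], (nat_lit 102), [], (nat_lit 403626594)) ::
  ([], (nat_lit 94), [], (nat_lit 403838703)) ::
  ([nat_lit 6, nat_lit 3], (nat_lit 103), [], (nat_lit 404838561)) ::
  ([nat_lit 5], (nat_lit 62), [], (nat_lit 406205017)) ::
  ([nat_lit 3], (nat_lit 2), [], (nat_lit 407914451)) ::
  ([nat_lit 6, nat_lit 4], (nat_lit 29), [], (nat_lit 408138497)) ::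
  ([nat_lit 5, nat_lit 3], (nat_lit 39), [], (nat_lit 409544017)) ::
  cdE400
noncomputable def cdE300 : List (List ℕ × ℕ × List ℕ × ℕ) :=
  ([nat_lit 3], (nat_lit 27), [], (nat_lit 290513055)) ::
  ([], (nat_lit 57), [], (nat_lit 295297389)) ::
  ([nat_lit 6, nat_lit 3], (nat_lit 9), [], (nat_lit 295337268)) ::
  ([nat_lit 4], (nat_lit 105), [], (nat_lit 295530853)) ::
  ([nat_lit 3], (nat_lit 57), [], (nat_lit 296967545)) ::
  ([nat_lit 6], (nat_lit 81), [], (nat_lit 297124838)) ::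
  ([nat_lit 5], (nat_lit 25), [], (nat_lit 298490563)) ::
  ([nat_lit 4], (nat_lit 110), [], (nat_lit 298860278)) ::
  ([nat_lit 5, nat_lit 3], (nat_lit 33), [], (nat_lit 299327964)) ::
  ([nat_lit 4], (nat_lit 65), [], (nat_lit 301141143)) ::
  ([nat_lit 5], (nat_lit 57), [], (nat_lit 301442677)) ::
  ([nat_lit 5], (nat_lit 23), [], (nat_lit 306717998)) ::
  ([nat_lit 5, nat_lit 4], (nat_lit 22), [], (nat_lit 307028417)) ::
  ([nat_lit 3], (nat_lit 65), [], (nat_lit 307974420)) ::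
  ([nat_lit 5, nat_lit 3], (nat_lit 9), [], (nat_lit 308087392)) ::
  ([], (nat_lit 104), [], (nat_lit 308538006)) ::
  ([], (nat_lit 9), [], (nat_lit 311192488)) ::
  ([], (nat_lit 55), [], (nat_lit 314088399)) ::
  ([nat_lit 5, nat_lit 4], (nat_lit 27), [], (nat_lit 315897483)) ::
  ([nat_lit 6, nat_lit 4], (nat_lit 39), [], (nat_lit 316296770)) ::
  ([nat_lit 5, nat_lit 4], (nat_lit 76), [], (nat_lit 320532645)) ::
  ([nat_lit 6, nat_lit 4], (nat_lit 98), [], (nat_lit 321116011)) ::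
  ([nat_lit 3], (nat_lit 58), [], (nat_lit 323334242)) ::
  ([nat_lit 6, nat_lit 4], (nat_lit 86), [], (nat_lit 323579144)) ::
  ([nat_lit 4], (nat_lit 48), [], (nat_lit 324923093)) ::
  ([nat_lit 6, nat_lit 3], (nat_lit 15), [], (nat_lit 327031184)) ::
  ([nat_lit 6, nat_lit 3], (nat_lit 3), [], (nat_lit 327768502)) ::
  ([nat_lit 5, nat_lit 4], (nat_lit 90), [], (nat_lit 328378437)) ::
  ([nat_lit 6, nat_lit 4], (nat_lit 1), [], (nat_lit 328761189)) ::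
  ([], (nat_lit 36), [], (nat_lit 330303889)) ::
  ([nat_lit 3], (nat_lit 106), [], (nat_lit 331244463)) ::
  ([nat_lit 5, nat_lit 3], (nat_lit 4), [], (nat_lit 332127585)) ::
  ([nat_lit 4], (nat_lit 76), [], (nat_lit 333436184)) ::
  ([nat_lit 6], (nat_lit 26), [], (nat_lit 334269378)) ::
  ([nat_lit 4], (nat_lit 85), [], (nat_lit 334341901)) ::
  ([nat_lit 5], (nat_lit 68), [], (nat_lit 334744458)) ::
  ([nat_lit 6], (nat_lit 17), [], (nat_lit 335568981)) ::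
  ([nat_lit 5, nat_lit 4], (nat_lit 105), [], (nat_lit 337408230)) ::
  ([nat_lit 5], (nat_lit 28), [], (nat_lit 337747048)) ::
  ([nat_lit 5, nat_lit 3], (nat_lit 22), [], (nat_lit 341483609)) ::
  ([nat_lit 5], (nat_lit 98), [], (nat_lit 343856928)) ::
  ([nat_lit 5, nat_lit 3], (nat_lit 107), [], (nat_lit 345392643)) ::
  ([nat_lit 5], (nat_lit 18), [], (nat_lit 345510179)) ::
  ([], (nat_lit 49), [], (nat_lit 346173396)) ::
  ([nat_lit 5], (nat_lit 96), [], (nat_lit 347364870)) ::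
  ([nat_lit 4], (nat_lit 101), [], (nat_lit 349220058)) ::
  ([nat_lit 6], (nat_lit 34), [], (nat_lit 350665087)) ::
  ([nat_lit 5], (nat_lit 31), [], (nat_lit 353329384)) ::
  ([nat_lit 5, nat_lit 4], (nat_lit 70), [], (nat_lit 354719603)) ::
  ([], (nat_lit 43), [], (nat_lit 355665770)) ::
  cdE350
noncomputable def cdE250 : List (List ℕ × ℕ × List ℕ × ℕ) :=
  ([nat_lit 6], (nat_lit 48), [], (nat_lit 236594209)) ::
  ([nat_lit 3], (nat_lit 70), [], (nat_lit 236894400)) ::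
  ([nat_lit 3], (nat_lit 28), [], (nat_lit 237282616)) ::
  ([nat_lit 5, nat_lit 3], (nat_lit 76), [], (nat_lit 238614191)) ::
  ([], (nat_lit 1), [], (nat_lit 238647855)) ::
  ([nat_lit 3], (nat_lit 15), [], (nat_lit 239156071)) ::
  ([nat_lit 5, nat_lit 3], (nat_lit 86), [], (nat_lit 240164651)) ::
  ([], (nat_lit 12), [], (nat_lit 241674839)) ::
  ([nat_lit 5, nat_lit 4], (nat_lit 50), [], (nat_lit 244996185)) ::
  ([nat_lit 4], (nat_lit 64), [], (nat_lit 245099789)) ::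
  ([nat_lit 5, nat_lit 4], (nat_lit 36), [], (nat_lit 246432079)) ::
  ([nat_lit 6, nat_lit 3], (nat_lit 10), [], (nat_lit 248911108)) ::
  ([nat_lit 3], (nat_lit 81), [], (nat_lit 250130503)) ::
  ([nat_lit 6], (nat_lit 85), [], (nat_lit 250646420)) ::
  ([nat_lit 6, nat_lit 4], (nat_lit 20), [], (nat_lit 255265627)) ::
  ([nat_lit 5], (nat_lit 29), [], (nat_lit 257442458)) ::
  ([nat_lit 5, nat_lit 4], (nat_lit 19), [], (nat_lit 258041738)) ::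
  ([nat_lit 5, nat_lit 4], (nat_lit 101), [], (nat_lit 258412195)) ::
  ([], (nat_lit 54), [], (nat_lit 258560883)) ::
  ([], (nat_lit 25), [], (nat_lit 259041077)) ::
  ([], (nat_lit 110), [], (nat_lit 259161525)) ::
  ([nat_lit 5], (nat_lit 10), [], (nat_lit 264291841)) ::
  ([nat_lit 6], (nat_lit 8), [], (nat_lit 265361922)) ::
  ([nat_lit 6, nat_lit 4], (nat_lit 48), [], (nat_lit 265906681)) ::
  ([nat_lit 5], (nat_lit 82), [], (nat_lit 267038097)) ::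
  ([nat_lit 5, nat_lit 3], (nat_lit 41), [], (nat_lit 267066399)) ::
  ([nat_lit 6, nat_lit 4], (nat_lit 40), [], (nat_lit 267132185)) ::
  ([nat_lit 3], (nat_lit 99), [], (nat_lit 270343329)) ::
  ([nat_lit 5], (nat_lit 53), [], (nat_lit 272941090)) ::
  ([nat_lit 4], (nat_lit 82), [], (nat_lit 273962602)) ::
  ([nat_lit 5, nat_lit 4], (nat_lit 34), [], (nat_lit 274424125)) ::
  ([nat_lit 5], (nat_lit 22), [], (nat_lit 276996157)) ::
  ([nat_lit 6], (nat_lit 53), [], (nat_lit 277455457)) ::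
  ([nat_lit 6, nat_lit 3], (nat_lit 91), [], (nat_lit 277606679)) ::
  ([nat_lit 5], (nat_lit 51), [], (nat_lit 278008153)) ::
  ([], (nat_lit 100), [], (nat_lit 278216101)) ::
  ([nat_lit 5], (nat_lit 37), [], (nat_lit 278666273)) ::
  ([nat_lit 6, nat_lit 4], (nat_lit 27), [], (nat_lit 278786990)) ::
  ([nat_lit 5], (nat_lit 30), [], (nat_lit 279152861)) ::
  ([nat_lit 5, nat_lit 4], (nat_lit 6), [], (nat_lit 280005420)) ::
  ([nat_lit 5, nat_lit 4], (nat_lit 39), [], (nat_lit 280299863)) ::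
  ([nat_lit 4], (nat_lit 42), [], (nat_lit 280812552)) ::
  ([nat_lit 5, nat_lit 3], (nat_lit 94), [], (nat_lit 281610507)) ::
  ([], (nat_lit 108), [], (nat_lit 283830576)) ::
  ([], (nat_lit 66), [], (nat_lit 283911144)) ::
  ([nat_lit 6, nat_lit 3], (nat_lit 1), [], (nat_lit 288261972)) ::
  ([], (nat_lit 24), [], (nat_lit 288820886)) ::
  ([], (nat_lit 45), [], (nat_lit 289283071)) ::
  ([nat_lit 5], (nat_lit 106), [], (nat_lit 289426325)) ::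
  ([nat_lit 4], (nat_lit 35), [], (nat_lit 289712971)) ::
  cdE300
noncomputable def cdE200 : List (List ℕ × ℕ × List ℕ × ℕ) :=
  ([], (nat_lit 47), [], (nat_lit 173474801)) ::
  ([nat_lit 4], (nat_lit 38), [], (nat_lit 173644382)) ::
  ([nat_lit 6, nat_lit 4], (nat_lit 109), [], (nat_lit 175665041)) ::
  ([nat_lit 6, nat_lit 4], (nat_lit 77), [], (nat_lit 176950266)) ::
  ([nat_lit 5, nat_lit 3], (nat_lit 53), [], (nat_lit 178750229)) ::
  ([nat_lit 5, nat_lit 3], (nat_lit 50), [], (nat_lit 183299469)) ::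
  ([nat_lit 4], (nat_lit 72), [], (nat_lit 184549718)) ::
  ([nat_lit 4], (nat_lit 28), [], (nat_lit 184748044)) ::
  ([nat_lit 6], (nat_lit 83), [], (nat_lit 184997900)) ::
  ([nat_lit 6, nat_lit 4], (nat_lit 91), [], (nat_lit 185647501)) ::
  ([nat_lit 3], (nat_lit 12), [], (nat_lit 185673283)) ::
  ([nat_lit 5], (nat_lit 79), [], (nat_lit 186053259)) ::
  ([nat_lit 5, nat_lit 3], (nat_lit 11), [], (nat_lit 186962669)) ::
  ([], (nat_lit 39), [], (nat_lit 187150149)) ::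
  ([], (nat_lit 84), [], (nat_lit 188237990)) ::
  ([nat_lit 5, nat_lit 3], (nat_lit 26), [], (nat_lit 190034094)) ::
  ([nat_lit 6, nat_lit 3], (nat_lit 96), [], (nat_lit 191180505)) ::
  ([nat_lit 4], (nat_lit 27), [], (nat_lit 193274156)) ::
  ([], (nat_lit 81), [], (nat_lit 193921825)) ::
  ([nat_lit 6], (nat_lit 27), [], (nat_lit 196953959)) ::
  ([nat_lit 6], (nat_lit 89), [], (nat_lit 197659024)) ::
  ([nat_lit 5], (nat_lit 97), [], (nat_lit 198170564)) ::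
  ([], (nat_lit 59), [], (nat_lit 199994692)) ::
  ([nat_lit 5, nat_lit 3], (nat_lit 66), [], (nat_lit 201394582)) ::
  ([nat_lit 4], (nat_lit 18), [], (nat_lit 201967581)) ::
  ([nat_lit 5, nat_lit 4], (nat_lit 35), [], (nat_lit 205757472)) ::
  ([nat_lit 6], (nat_lit 32), [], (nat_lit 207275381)) ::
  ([nat_lit 6], (nat_lit 96), [], (nat_lit 208008510)) ::
  ([nat_lit 5, nat_lit 4], (nat_lit 52), [], (nat_lit 209715499)) ::
  ([nat_lit 5, nat_lit 4], (nat_lit 74), [], (nat_lit 210677036)) ::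
  ([nat_lit 4], (nat_lit 69), [], (nat_lit 211129795)) ::
  ([nat_lit 5], (nat_lit 36), [], (nat_lit 211598655)) ::
  ([nat_lit 6, nat_lit 3], (nat_lit 100), [], (nat_lit 212336576)) ::
  ([nat_lit 5, nat_lit 4], (nat_lit 42), [], (nat_lit 214027341)) ::
  ([nat_lit 5], (nat_lit 80), [], (nat_lit 215417322)) ::
  ([nat_lit 3], (nat_lit 101), [], (nat_lit 218066431)) ::
  ([nat_lit 6, nat_lit 3], (nat_lit 42), [], (nat_lit 221115192)) ::
  ([nat_lit 5], (nat_lit 74), [], (nat_lit 222981698)) ::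
  ([nat_lit 4], (nat_lit 33), [], (nat_lit 223164459)) ::
  ([nat_lit 5], (nat_lit 93), [], (nat_lit 223243038)) ::
  ([nat_lit 6, nat_lit 4], (nat_lit 70), [], (nat_lit 224381854)) ::
  ([nat_lit 4], (nat_lit 106), [], (nat_lit 224962898)) ::
  ([nat_lit 3], (nat_lit 67), [], (nat_lit 227277275)) ::
  ([nat_lit 6, nat_lit 3], (nat_lit 36), [], (nat_lit 228310516)) ::
  ([nat_lit 6], (nat_lit 11), [], (nat_lit 228579390)) ::
  ([nat_lit 6, nat_lit 3], (nat_lit 77), [], (nat_lit 229707060)) ::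
  ([], (nat_lit 75), [], (nat_lit 230549264)) ::
  ([nat_lit 6, nat_lit 4], (nat_lit 79), [], (nat_lit 231880253)) ::
  ([], (nat_lit 91), [], (nat_lit 232488562)) ::
  ([nat_lit 3], (nat_lit 16), [], (nat_lit 234212746)) ::
  cdE250
noncomputable def cdE150 : List (List ℕ × ℕ × List ℕ × ℕ) :=
  ([nat_lit 5, nat_lit 4], (nat_lit 55), [], (nat_lit 130958181)) ::
  ([], (nat_lit 53), [], (nat_lit 134929130)) ::
  ([nat_lit 6, nat_lit 3], (nat_lit 81), [], (nat_lit 136243994)) ::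
  ([nat_lit 6, nat_lit 4], (nat_lit 106), [], (nat_lit 137436487)) ::
  ([nat_lit 3], (nat_lit 52), [], (nat_lit 137517705)) ::
  ([], (nat_lit 70), [], (nat_lit 137550584)) ::
  ([nat_lit 6, nat_lit 3], (nat_lit 4), [], (nat_lit 137892537)) ::
  ([nat_lit 6, nat_lit 3], (nat_lit 19), [], (nat_lit 138482158)) ::
  ([nat_lit 5, nat_lit 4], (nat_lit 61), [], (nat_lit 141202990)) ::
  ([nat_lit 5, nat_lit 3], (nat_lit 108), [], (nat_lit 141484081)) ::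
  ([nat_lit 6, nat_lit 4], (nat_lit 32), [], (nat_lit 141556030)) ::
  ([], (nat_lit 63), [], (nat_lit 142058468)) ::
  ([nat_lit 6, nat_lit 4], (nat_lit 9), [], (nat_lit 145052553)) ::
  ([nat_lit 3], (nat_lit 56), [], (nat_lit 145418495)) ::
  ([nat_lit 5], (nat_lit 7), [], (nat_lit 147252919)) ::
  ([nat_lit 3], (nat_lit 90), [], (nat_lit 147721653)) ::
  ([nat_lit 6, nat_lit 4], (nat_lit 34), [], (nat_lit 149238918)) ::
  ([nat_lit 5], (nat_lit 65), [], (nat_lit 149269211)) ::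
  ([nat_lit 6], (nat_lit 21), [], (nat_lit 149495537)) ::
  ([nat_lit 6], (nat_lit 2), [], (nat_lit 149774610)) ::
  ([], (nat_lit 11), [], (nat_lit 149979659)) ::
  ([nat_lit 6, nat_lit 4], (nat_lit 30), [], (nat_lit 150782746)) ::
  ([nat_lit 4], (nat_lit 102), [], (nat_lit 152026562)) ::
  ([nat_lit 3], (nat_lit 21), [], (nat_lit 152416742)) ::
  ([], (nat_lit 8), [], (nat_lit 153075913)) ::
  ([nat_lit 3], (nat_lit 49), [], (nat_lit 154537281)) ::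
  ([nat_lit 5], (nat_lit 34), [], (nat_lit 154935349)) ::
  ([nat_lit 5, nat_lit 3], (nat_lit 31), [], (nat_lit 155070334)) ::
  ([nat_lit 6, nat_lit 4], (nat_lit 103), [], (nat_lit 155708397)) ::
  ([nat_lit 6], (nat_lit 109), [], (nat_lit 155828488)) ::
  ([nat_lit 5, nat_lit 4], (nat_lit 7), [], (nat_lit 157269012)) ::
  ([nat_lit 6], (nat_lit 24), [], (nat_lit 158929016)) ::
  ([nat_lit 5, nat_lit 3], (nat_lit 24), [], (nat_lit 158930454)) ::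
  ([], (nat_lit 95), [], (nat_lit 159627760)) ::
  ([nat_lit 3], (nat_lit 103), [], (nat_lit 163331765)) ::
  ([nat_lit 5, nat_lit 4], (nat_lit 94), [], (nat_lit 163428907)) ::
  ([nat_lit 3], (nat_lit 85), [], (nat_lit 163432286)) ::
  ([nat_lit 6, nat_lit 3], (nat_lit 87), [], (nat_lit 164146496)) ::
  ([nat_lit 6], (nat_lit 23), [], (nat_lit 164225145)) ::
  ([nat_lit 6], (nat_lit 7), [], (nat_lit 164414854)) ::
  ([nat_lit 5, nat_lit 4], (nat_lit 51), [], (nat_lit 164514379)) ::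
  ([], (nat_lit 41), [], (nat_lit 165931723)) ::
  ([nat_lit 5, nat_lit 4], (nat_lit 8), [], (nat_lit 166196895)) ::
  ([nat_lit 5], (nat_lit 42), [], (nat_lit 166277180)) ::
  ([], (nat_lit 29), [], (nat_lit 166348732)) ::
  ([nat_lit 3], (nat_lit 11), [], (nat_lit 166413985)) ::
  ([nat_lit 4], (nat_lit 41), [], (nat_lit 167180035)) ::
  ([nat_lit 4], (nat_lit 99), [], (nat_lit 169918481)) ::
  ([nat_lit 6, nat_lit 4], (nat_lit 35), [], (nat_lit 172023786)) ::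
  ([], (nat_lit 60), [], (nat_lit 172562228)) ::
  cdE200
noncomputable def cdE100 : List (List ℕ × ℕ × List ℕ × ℕ) :=
  ([nat_lit 6, nat_lit 3], (nat_lit 102), [], (nat_lit 83553666)) ::
  ([nat_lit 4], (nat_lit 8), [], (nat_lit 86218475)) ::
  ([nat_lit 6], (nat_lit 86), [], (nat_lit 88229254)) ::
  ([nat_lit 5], (nat_lit 72), [], (nat_lit 89123625)) ::
  ([nat_lit 6, nat_lit 4], (nat_lit 99), [], (nat_lit 89240823)) ::
  ([nat_lit 6], (nat_lit 15), [], (nat_lit 89664846)) ::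
  ([nat_lit 6, nat_lit 4], (nat_lit 95), [], (nat_lit 90274182)) ::
  ([nat_lit 5, nat_lit 4], (nat_lit 81), [], (nat_lit 93853138)) ::
  ([nat_lit 3], (nat_lit 23), [], (nat_lit 96921902)) ::
  ([nat_lit 3], (nat_lit 6), [], (nat_lit 97896688)) ::
  ([nat_lit 5, nat_lit 3], (nat_lit 98), [], (nat_lit 98521235)) ::
  ([nat_lit 3], (nat_lit 32), [], (nat_lit 99764823)) ::
  ([nat_lit 5], (nat_lit 95), [], (nat_lit 100793528)) ::
  ([nat_lit 6], (nat_lit 107), [], (nat_lit 101147985)) ::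
  ([nat_lit 5, nat_lit 4], (nat_lit 16), [], (nat_lit 102005009)) ::
  ([nat_lit 4], (nat_lit 19), [], (nat_lit 102304609)) ::
  ([nat_lit 3], (nat_lit 7), [], (nat_lit 102545280)) ::
  ([nat_lit 5], (nat_lit 41), [], (nat_lit 102746694)) ::
  ([nat_lit 6], (nat_lit 93), [], (nat_lit 103213915)) ::
  ([nat_lit 6, nat_lit 3], (nat_lit 95), [], (nat_lit 103948512)) ::
  ([nat_lit 4], (nat_lit 56), [], (nat_lit 104100733)) ::
  ([], (nat_lit 99), [], (nat_lit 104813804)) ::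
  ([nat_lit 6], (nat_lit 54), [], (nat_lit 104881511)) ::
  ([nat_lit 5, nat_lit 4], (nat_lit 33), [], (nat_lit 105258335)) ::
  ([], (nat_lit 86), [], (nat_lit 105538516)) ::
  ([nat_lit 5, nat_lit 4], (nat_lit 86), [], (nat_lit 105797366)) ::
  ([nat_lit 5, nat_lit 4], (nat_lit 77), [], (nat_lit 106088141)) ::
  ([nat_lit 3], (nat_lit 94), [], (nat_lit 108479397)) ::
  ([], (nat_lit 83), [], (nat_lit 108605984)) ::
  ([nat_lit 5], (nat_lit 69), [], (nat_lit 109141417)) ::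
  ([nat_lit 5, nat_lit 3], (nat_lit 73), [], (nat_lit 109600807)) ::
  ([nat_lit 5], (nat_lit 15), [], (nat_lit 109965232)) ::
  ([nat_lit 4], (nat_lit 108), [], (nat_lit 111012414)) ::
  ([nat_lit 5], (nat_lit 92), [], (nat_lit 112109975)) ::
  ([nat_lit 5], (nat_lit 6), [], (nat_lit 114529768)) ::
  ([nat_lit 6], (nat_lit 58), [], (nat_lit 114976758)) ::
  ([nat_lit 5, nat_lit 4], (nat_lit 96), [], (nat_lit 115722982)) ::
  ([nat_lit 5, nat_lit 3], (nat_lit 89), [], (nat_lit 116463848)) ::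
  ([nat_lit 6], (nat_lit 49), [], (nat_lit 116527301)) ::
  ([nat_lit 4], (nat_lit 1), [], (nat_lit 117401652)) ::
  ([nat_lit 5], (nat_lit 55), [], (nat_lit 117577035)) ::
  ([nat_lit 6, nat_lit 4], (nat_lit 43), [], (nat_lit 118385010)) ::
  ([nat_lit 5], (nat_lit 101), [], (nat_lit 118633007)) ::
  ([nat_lit 5, nat_lit 3], (nat_lit 55), [], (nat_lit 122138788)) ::
  ([nat_lit 4], (nat_lit 14), [], (nat_lit 122461871)) ::
  ([nat_lit 5], (nat_lit 103), [], (nat_lit 125450351)) ::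
  ([nat_lit 6], (nat_lit 52), [], (nat_lit 125800007)) ::
  ([], (nat_lit 58), [], (nat_lit 128177704)) ::
  ([nat_lit 6], (nat_lit 47), [], (nat_lit 129145428)) ::
  ([nat_lit 5, nat_lit 3], (nat_lit 21), [], (nat_lit 129963389)) ::
  cdE150
noncomputable def cdE50 : List (List ℕ × ℕ × List ℕ × ℕ) :=
  ([nat_lit 4], (nat_lit 77), [], (nat_lit 40119637)) ::
  ([nat_lit 3], (nat_lit 69), [], (nat_lit 41290121)) ::
  ([nat_lit 5], (nat_lit 84), [], (nat_lit 41371141)) ::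
  ([nat_lit 3], (nat_lit 42), [], (nat_lit 42306112)) ::
  ([nat_lit 6, nat_lit 4], (nat_lit 90), [], (nat_lit 42349168)) ::
  ([nat_lit 5], (nat_lit 104), [], (nat_lit 43847713)) ::
  ([nat_lit 5, nat_lit 3], (nat_lit 2), [], (nat_lit 44126537)) ::
  ([nat_lit 3], (nat_lit 53), [], (nat_lit 45418572)) ::
  ([nat_lit 3], (nat_lit 86), [], (nat_lit 45865771)) ::
  ([nat_lit 5], (nat_lit 52), [], (nat_lit 47237561)) ::
  ([nat_lit 6, nat_lit 4], (nat_lit 62), [], (nat_lit 48603401)) ::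
  ([nat_lit 6], (nat_lit 13), [], (nat_lit 49277167)) ::
  ([nat_lit 3], (nat_lit 44), [], (nat_lit 51535294)) ::
  ([nat_lit 5], (nat_lit 48), [], (nat_lit 51629486)) ::
  ([], (nat_lit 90), [], (nat_lit 55019433)) ::
  ([], (nat_lit 16), [], (nat_lit 55156645)) ::
  ([nat_lit 6, nat_lit 4], (nat_lit 46), [], (nat_lit 58722379)) ::
  ([nat_lit 6, nat_lit 4], (nat_lit 25), [], (nat_lit 59938770)) ::
  ([nat_lit 6], (nat_lit 6), [], (nat_lit 60040888)) ::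
  ([nat_lit 5, nat_lit 4], (nat_lit 85), [], (nat_lit 61595851)) ::
  ([nat_lit 5], (nat_lit 91), [], (nat_lit 62056226)) ::
  ([nat_lit 6], (nat_lit 97), [], (nat_lit 63432285)) ::
  ([nat_lit 6, nat_lit 4], (nat_lit 88), [], (nat_lit 63748301)) ::
  ([nat_lit 5, nat_lit 4], (nat_lit 28), [], (nat_lit 66658621)) ::
  ([nat_lit 5], (nat_lit 39), [], (nat_lit 66854331)) ::
  ([nat_lit 5, nat_lit 3], (nat_lit 105), [], (nat_lit 67984985)) ::
  ([nat_lit 3], (nat_lit 25), [], (nat_lit 69027318)) ::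
  ([nat_lit 5, nat_lit 3], (nat_lit 58), [], (nat_lit 69448685)) ::
  ([nat_lit 5, nat_lit 3], (nat_lit 95), [], (nat_lit 69754876)) ::
  ([nat_lit 5, nat_lit 3], (nat_lit 57), [], (nat_lit 69809151)) ::
  ([nat_lit 3], (nat_lit 112), [], (nat_lit 70144965)) ::
  ([nat_lit 5, nat_lit 3], (nat_lit 12), [], (nat_lit 71238610)) ::
  ([nat_lit 3], (nat_lit 98), [], (nat_lit 71309572)) ::
  ([nat_lit 3], (nat_lit 96), [], (nat_lit 71369204)) ::
  ([nat_lit 6, nat_lit 4], (nat_lit 68), [], (nat_lit 72163368)) ::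
  ([nat_lit 4], (nat_lit 46), [], (nat_lit 72164222)) ::
  ([nat_lit 5], (nat_lit 44), [], (nat_lit 72396421)) ::
  ([nat_lit 4], (nat_lit 63), [], (nat_lit 72976517)) ::
  ([nat_lit 6], (nat_lit 79), [], (nat_lit 73751480)) ::
  ([nat_lit 4], (nat_lit 93), [], (nat_lit 74393975)) ::
  ([nat_lit 5, nat_lit 4], (nat_lit 109), [], (nat_lit 76103750)) ::
  ([nat_lit 6, nat_lit 3], (nat_lit 52), [], (nat_lit 77553711)) ::
  ([nat_lit 5, nat_lit 4], (nat_lit 56), [], (nat_lit 77623975)) ::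
  ([], (nat_lit 78), [], (nat_lit 78614570)) ::
  ([nat_lit 5, nat_lit 4], (nat_lit 31), [], (nat_lit 78861507)) ::
  ([nat_lit 4], (nat_lit 87), [], (nat_lit 79214048)) ::
  ([nat_lit 6, nat_lit 4], (nat_lit 84), [], (nat_lit 79627327)) ::
  ([nat_lit 6, nat_lit 3], (nat_lit 44), [], (nat_lit 80425772)) ::
  ([nat_lit 6, nat_lit 3], (nat_lit 73), [], (nat_lit 80706872)) ::
  ([nat_lit 6, nat_lit 4], (nat_lit 96), [], (nat_lit 80758925)) ::
  cdE100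
noncomputable def cdE : List (List ℕ × ℕ × List ℕ × ℕ) :=
  ([nat_lit 6, nat_lit 3], (nat_lit 97), [], (nat_lit 797865)) ::
  ([nat_lit 4], (nat_lit 79), [], (nat_lit 2024005)) ::
  ([nat_lit 6, nat_lit 4], (nat_lit 102), [], (nat_lit 2079301)) ::
  ([nat_lit 6], (nat_lit 68), [], (nat_lit 2223727)) ::
  ([nat_lit 5, nat_lit 3], (nat_lit 54), [], (nat_lit 2487793)) ::
  ([nat_lit 5, nat_lit 4], (nat_lit 12), [], (nat_lit 3337083)) ::
  ([nat_lit 6, nat_lit 3], (nat_lit 82), [], (nat_lit 3355186)) ::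
  ([nat_lit 3], (nat_lit 63), [], (nat_lit 3858930)) ::
  ([nat_lit 6], (nat_lit 45), [], (nat_lit 4942487)) ::
  ([], (nat_lit 31), [], (nat_lit 5642404)) ::
  ([], (nat_lit 3), [], (nat_lit 5796679)) ::
  ([nat_lit 6, nat_lit 4], (nat_lit 42), [], (nat_lit 6037395)) ::
  ([nat_lit 3], (nat_lit 19), [], (nat_lit 6252219)) ::
  ([nat_lit 3], (nat_lit 47), [], (nat_lit 6663198)) ::
  ([nat_lit 6, nat_lit 4], (nat_lit 85), [], (nat_lit 6942267)) ::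
  ([], (nat_lit 68), [], (nat_lit 7578623)) ::
  ([nat_lit 5, nat_lit 3], (nat_lit 51), [], (nat_lit 8430284)) ::
  ([nat_lit 5, nat_lit 4], (nat_lit 72), [], (nat_lit 8584778)) ::
  ([nat_lit 6, nat_lit 3], (nat_lit 53), [], (nat_lit 9406585)) ::
  ([nat_lit 5, nat_lit 3], (nat_lit 87), [], (nat_lit 11455625)) ::
  ([nat_lit 6], (nat_lit 94), [], (nat_lit 11897656)) ::
  ([nat_lit 6], (nat_lit 82), [], (nat_lit 14408117)) ::
  ([nat_lit 3], (nat_lit 29), [], (nat_lit 14618743)) ::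
  ([nat_lit 4], (nat_lit 25), [], (nat_lit 14866905)) ::
  ([nat_lit 5, nat_lit 4], (nat_lit 106), [], (nat_lit 15265040)) ::
  ([nat_lit 5, nat_lit 4], (nat_lit 89), [], (nat_lit 16189901)) ::
  ([nat_lit 6, nat_lit 4], (nat_lit 55), [], (nat_lit 16640134)) ::
  ([nat_lit 6, nat_lit 3], (nat_lit 40), [], (nat_lit 19028336)) ::
  ([nat_lit 5, nat_lit 4], (nat_lit 57), [], (nat_lit 19164341)) ::
  ([nat_lit 5, nat_lit 3], (nat_lit 91), [], (nat_lit 22201731)) ::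
  ([nat_lit 5, nat_lit 4], (nat_lit 2), [], (nat_lit 22464900)) ::
  ([nat_lit 5, nat_lit 4], (nat_lit 3), [], (nat_lit 22602185)) ::
  ([nat_lit 5], (nat_lit 88), [], (nat_lit 22629888)) ::
  ([nat_lit 4], (nat_lit 49), [], (nat_lit 22947366)) ::
  ([], (nat_lit 62), [], (nat_lit 23147602)) ::
  ([nat_lit 5, nat_lit 3], (nat_lit 40), [], (nat_lit 23509174)) ::
  ([nat_lit 6, nat_lit 4], (nat_lit 54), [], (nat_lit 23602568)) ::
  ([nat_lit 5], (nat_lit 14), [], (nat_lit 25767737)) ::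
  ([nat_lit 6, nat_lit 3], (nat_lit 2), [], (nat_lit 25906302)) ::
  ([nat_lit 3], (nat_lit 26), [], (nat_lit 26608426)) ::
  ([nat_lit 3], (nat_lit 24), [], (nat_lit 26889034)) ::
  ([], (nat_lit 79), [], (nat_lit 27618215)) ::
  ([nat_lit 5, nat_lit 4], (nat_lit 58), [], (nat_lit 29577484)) ::
  ([nat_lit 6], (nat_lit 10), [], (nat_lit 30826786)) ::
  ([nat_lit 5, nat_lit 3], (nat_lit 15), [], (nat_lit 31489973)) ::
  ([nat_lit 6, nat_lit 3], (nat_lit 71), [], (nat_lit 32573761)) ::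
  ([nat_lit 6], (nat_lit 76), [], (nat_lit 33335590)) ::
  ([nat_lit 5, nat_lit 4], (nat_lit 45), [], (nat_lit 34451453)) ::
  ([nat_lit 6], (nat_lit 57), [], (nat_lit 35024510)) ::
  ([nat_lit 5, nat_lit 4], (nat_lit 102), [], (nat_lit 39296849)) ::
  cdE50
noncomputable def cd : Cv := ⟨(nat_lit 3), (nat_lit 7), (nat_lit 15), (nat_lit 0x408102000000004001000408102040810204000), (nat_lit 1000000007), (nat_lit 2), [nat_lit 0, nat_lit 1, nat_lit 1, nat_lit 0, nat_lit 0], [nat_lit 0, nat_lit 1, nat_lit 2, nat_lit 4, nat_lit 3, nat_lit 6, nat_lit 5, nat_lit 7, nat_lit 8, nat_lit 9, nat_lit 10, nat_lit 11, nat_lit 12, nat_lit 13, nat_lit 14], cdW, cdE⟩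
noncomputable def cdV100 : List (List ℕ × List ℕ) :=
  ([nat_lit 12, nat_lit 13, nat_lit 12, nat_lit 7], [nat_lit 0, nat_lit 5, nat_lit 1, nat_lit 5]) ::
  ([nat_lit 10, nat_lit 12, nat_lit 14, nat_lit 7], [nat_lit 2, nat_lit 0, nat_lit 2, nat_lit 7]) ::
  ([nat_lit 8, nat_lit 11, nat_lit 9, nat_lit 8], [nat_lit 4, nat_lit 3, nat_lit 1, nat_lit 0]) ::
  ([nat_lit 9, nat_lit 11, nat_lit 9, nat_lit 8], [nat_lit 2, nat_lit 0, nat_lit 4, nat_lit 0, nat_lit 1, nat_lit 2]) ::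
  ([nat_lit 11, nat_lit 14, nat_lit 9, nat_lit 8], [nat_lit 3, nat_lit 6, nat_lit 1, nat_lit 2, nat_lit 1, nat_lit 0]) ::
  ([nat_lit 8, nat_lit 9, nat_lit 11, nat_lit 8], [nat_lit 3, nat_lit 0, nat_lit 2]) ::
  ([nat_lit 11, nat_lit 8, nat_lit 12, nat_lit 8], [nat_lit 4, nat_lit 1, nat_lit 2, nat_lit 0]) ::
  ([nat_lit 11, nat_lit 10, nat_lit 12, nat_lit 8], [nat_lit 3, nat_lit 2, nat_lit 4, nat_lit 0]) ::
  ([nat_lit 8, nat_lit 11, nat_lit 12, nat_lit 8], [nat_lit 2, nat_lit 1, nat_lit 0, nat_lit 3, nat_lit 1]) ::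
  ([nat_lit 9, nat_lit 14, nat_lit 13, nat_lit 9], [nat_lit 5, nat_lit 1, nat_lit 0, nat_lit 6]) ::
  ([nat_lit 7, nat_lit 12, nat_lit 10, nat_lit 13], [nat_lit 4, nat_lit 2, nat_lit 0, nat_lit 2]) ::
  ([nat_lit 13, nat_lit 8, nat_lit 7, nat_lit 10, nat_lit 7], [nat_lit 4, nat_lit 0, nat_lit 1, nat_lit 3]) ::
  ([nat_lit 12, nat_lit 11, nat_lit 13, nat_lit 10, nat_lit 7], [nat_lit 0, nat_lit 5, nat_lit 1, nat_lit 3, nat_lit 7]) ::
  ([nat_lit 8, nat_lit 11, nat_lit 8, nat_lit 12, nat_lit 8], [nat_lit 5, nat_lit 3, nat_lit 7, nat_lit 1, nat_lit 0]) ::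
  []
noncomputable def cdV50 : List (List ℕ × List ℕ) :=
  ([nat_lit 11, nat_lit 12, nat_lit 8], [nat_lit 1, nat_lit 2, nat_lit 2, nat_lit 0]) ::
  ([nat_lit 13, nat_lit 12, nat_lit 8], [nat_lit 5, nat_lit 2, nat_lit 3, nat_lit 0]) ::
  ([nat_lit 14, nat_lit 12, nat_lit 8], [nat_lit 4, nat_lit 1, nat_lit 0]) ::
  ([nat_lit 14, nat_lit 7, nat_lit 9], [nat_lit 6, nat_lit 5, nat_lit 3, nat_lit 1, nat_lit 3, nat_lit 0]) ::
  ([nat_lit 13, nat_lit 10, nat_lit 9], [nat_lit 1, nat_lit 5, nat_lit 0, nat_lit 4, nat_lit 0]) ::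
  ([nat_lit 13, nat_lit 12, nat_lit 9], [nat_lit 0, nat_lit 2, nat_lit 2, nat_lit 1]) ::
  ([nat_lit 9, nat_lit 13, nat_lit 9], [nat_lit 1, nat_lit 5, nat_lit 0, nat_lit 2]) ::
  ([nat_lit 10, nat_lit 13, nat_lit 9], [nat_lit 4, nat_lit 0, nat_lit 1, nat_lit 7]) ::
  ([nat_lit 12, nat_lit 13, nat_lit 9], [nat_lit 7, nat_lit 2, nat_lit 3, nat_lit 0]) ::
  ([nat_lit 14, nat_lit 13, nat_lit 9], [nat_lit 6, nat_lit 0, nat_lit 4, nat_lit 0, nat_lit 2, nat_lit 5]) ::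
  ([nat_lit 11, nat_lit 14, nat_lit 9], [nat_lit 4, nat_lit 1, nat_lit 0, nat_lit 3, nat_lit 2]) ::
  ([nat_lit 12, nat_lit 14, nat_lit 9], [nat_lit 2, nat_lit 5, nat_lit 0]) ::
  ([nat_lit 14, nat_lit 7, nat_lit 10], [nat_lit 2, nat_lit 0]) ::
  ([nat_lit 13, nat_lit 12, nat_lit 10], [nat_lit 0, nat_lit 1, nat_lit 3, nat_lit 5, nat_lit 1]) ::
  ([nat_lit 14, nat_lit 12, nat_lit 10], [nat_lit 0, nat_lit 2]) ::
  ([nat_lit 10, nat_lit 13, nat_lit 10], [nat_lit 6, nat_lit 5, nat_lit 0, nat_lit 1]) ::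
  ([nat_lit 14, nat_lit 13, nat_lit 10], [nat_lit 0, nat_lit 2, nat_lit 6]) ::
  ([nat_lit 10, nat_lit 14, nat_lit 10], [nat_lit 1, nat_lit 4, nat_lit 7, nat_lit 0]) ::
  ([nat_lit 13, nat_lit 9, nat_lit 11], [nat_lit 4, nat_lit 3, nat_lit 2, nat_lit 6, nat_lit 0]) ::
  ([nat_lit 13, nat_lit 9, nat_lit 12], [nat_lit 2, nat_lit 0, nat_lit 4, nat_lit 2, nat_lit 7]) ::
  ([nat_lit 10, nat_lit 9, nat_lit 13], [nat_lit 1, nat_lit 3, nat_lit 0, nat_lit 4]) ::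
  ([nat_lit 11, nat_lit 9, nat_lit 13], [nat_lit 0, nat_lit 5, nat_lit 0, nat_lit 1, nat_lit 6, nat_lit 4]) ::
  ([nat_lit 12, nat_lit 10, nat_lit 13], [nat_lit 1, nat_lit 2, nat_lit 0]) ::
  ([nat_lit 13, nat_lit 10, nat_lit 13], [nat_lit 7, nat_lit 5, nat_lit 2, nat_lit 3, nat_lit 6, nat_lit 1, nat_lit 0]) ::
  ([nat_lit 8, nat_lit 12, nat_lit 13], [nat_lit 2, nat_lit 0, nat_lit 5]) ::
  ([nat_lit 7, nat_lit 9, nat_lit 8, nat_lit 7], [nat_lit 0, nat_lit 1, nat_lit 5]) ::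
  ([nat_lit 12, nat_lit 9, nat_lit 8, nat_lit 7], [nat_lit 0, nat_lit 2, nat_lit 2, nat_lit 1, nat_lit 6, nat_lit 5, nat_lit 4, nat_lit 0, nat_lit 1, nat_lit 4]) ::
  ([nat_lit 14, nat_lit 9, nat_lit 8, nat_lit 7], [nat_lit 0, nat_lit 2, nat_lit 4]) ::
  ([nat_lit 9, nat_lit 11, nat_lit 8, nat_lit 7], [nat_lit 7, nat_lit 2, nat_lit 0]) ::
  ([nat_lit 8, nat_lit 7, nat_lit 10, nat_lit 7], [nat_lit 1, nat_lit 5, nat_lit 0, nat_lit 3, nat_lit 0, nat_lit 6]) ::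
  ([nat_lit 11, nat_lit 7, nat_lit 10, nat_lit 7], [nat_lit 3, nat_lit 0, nat_lit 5, nat_lit 2]) ::
  ([nat_lit 12, nat_lit 7, nat_lit 10, nat_lit 7], [nat_lit 3, nat_lit 2, nat_lit 5, nat_lit 0]) ::
  ([nat_lit 14, nat_lit 7, nat_lit 10, nat_lit 7], [nat_lit 4, nat_lit 1, nat_lit 0, nat_lit 2]) ::
  ([nat_lit 13, nat_lit 8, nat_lit 10, nat_lit 7], [nat_lit 7, nat_lit 0, nat_lit 4, nat_lit 2]) ::
  ([nat_lit 8, nat_lit 12, nat_lit 10, nat_lit 7], [nat_lit 6, nat_lit 5, nat_lit 0, nat_lit 2]) ::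
  ([nat_lit 11, nat_lit 12, nat_lit 10, nat_lit 7], [nat_lit 0, nat_lit 2, nat_lit 4, nat_lit 2]) ::
  ([nat_lit 9, nat_lit 13, nat_lit 10, nat_lit 7], [nat_lit 1, nat_lit 4, nat_lit 0, nat_lit 3]) ::
  ([nat_lit 10, nat_lit 13, nat_lit 10, nat_lit 7], [nat_lit 3, nat_lit 2, nat_lit 0, nat_lit 5]) ::
  ([nat_lit 11, nat_lit 13, nat_lit 10, nat_lit 7], [nat_lit 0, nat_lit 2]) ::
  ([nat_lit 11, nat_lit 14, nat_lit 10, nat_lit 7], [nat_lit 2, nat_lit 1, nat_lit 0]) ::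
  ([nat_lit 9, nat_lit 8, nat_lit 11, nat_lit 7], [nat_lit 0, nat_lit 5, nat_lit 6, nat_lit 2]) ::
  ([nat_lit 7, nat_lit 10, nat_lit 11, nat_lit 7], [nat_lit 7, nat_lit 2, nat_lit 2, nat_lit 0]) ::
  ([nat_lit 11, nat_lit 10, nat_lit 11, nat_lit 7], [nat_lit 5, nat_lit 2, nat_lit 1, nat_lit 0]) ::
  ([nat_lit 13, nat_lit 10, nat_lit 11, nat_lit 7], [nat_lit 4, nat_lit 3, nat_lit 1, nat_lit 7, nat_lit 0, nat_lit 1]) ::
  ([nat_lit 10, nat_lit 14, nat_lit 11, nat_lit 7], [nat_lit 0, nat_lit 2, nat_lit 6, nat_lit 6, nat_lit 1]) ::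
  ([nat_lit 11, nat_lit 14, nat_lit 11, nat_lit 7], [nat_lit 0, nat_lit 6, nat_lit 2]) ::
  ([nat_lit 11, nat_lit 10, nat_lit 12, nat_lit 7], [nat_lit 2, nat_lit 0, nat_lit 5, nat_lit 3]) ::
  ([nat_lit 12, nat_lit 10, nat_lit 12, nat_lit 7], [nat_lit 4, nat_lit 1, nat_lit 2, nat_lit 6, nat_lit 0, nat_lit 7]) ::
  ([nat_lit 10, nat_lit 11, nat_lit 12, nat_lit 7], [nat_lit 1, nat_lit 0, nat_lit 5, nat_lit 0]) ::
  ([nat_lit 11, nat_lit 13, nat_lit 12, nat_lit 7], [nat_lit 0, nat_lit 1, nat_lit 4]) ::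
  cdV100
noncomputable def cdV : List (List ℕ × List ℕ) :=
  ([], []) ::
  ([nat_lit 7], [nat_lit 2, nat_lit 7, nat_lit 0]) ::
  ([nat_lit 8], [nat_lit 0, nat_lit 2, nat_lit 3]) ::
  ([nat_lit 13], [nat_lit 6, nat_lit 1, nat_lit 6, nat_lit 2, nat_lit 0, nat_lit 4]) ::
  ([nat_lit 8, nat_lit 7], [nat_lit 0, nat_lit 5, nat_lit 1]) ::
  ([nat_lit 9, nat_lit 7], [nat_lit 3, nat_lit 1, nat_lit 2, nat_lit 4, nat_lit 0]) ::
  ([nat_lit 10, nat_lit 7], [nat_lit 6, nat_lit 2, nat_lit 0]) ::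
  ([nat_lit 11, nat_lit 7], [nat_lit 0, nat_lit 3, nat_lit 1, nat_lit 5]) ::
  ([nat_lit 12, nat_lit 7], [nat_lit 0, nat_lit 2, nat_lit 4, nat_lit 1]) ::
  ([nat_lit 14, nat_lit 7], [nat_lit 0, nat_lit 2, nat_lit 3]) ::
  ([nat_lit 9, nat_lit 8], [nat_lit 2, nat_lit 4, nat_lit 0, nat_lit 2, nat_lit 1]) ::
  ([nat_lit 10, nat_lit 8], [nat_lit 0, nat_lit 4, nat_lit 2, nat_lit 6]) ::
  ([nat_lit 11, nat_lit 8], [nat_lit 2, nat_lit 0, nat_lit 4]) ::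
  ([nat_lit 12, nat_lit 8], [nat_lit 4, nat_lit 0, nat_lit 4, nat_lit 1]) ::
  ([nat_lit 13, nat_lit 9], [nat_lit 5, nat_lit 2, nat_lit 1, nat_lit 0]) ::
  ([nat_lit 14, nat_lit 9], [nat_lit 5, nat_lit 2, nat_lit 3, nat_lit 0]) ::
  ([nat_lit 13, nat_lit 10], [nat_lit 0, nat_lit 2, nat_lit 7]) ::
  ([nat_lit 14, nat_lit 10], [nat_lit 7, nat_lit 0, nat_lit 5, nat_lit 2]) ::
  ([nat_lit 9, nat_lit 13], [nat_lit 1, nat_lit 6, nat_lit 0, nat_lit 5, nat_lit 2]) ::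
  ([nat_lit 10, nat_lit 13], [nat_lit 3, nat_lit 5, nat_lit 0, nat_lit 1]) ::
  ([nat_lit 12, nat_lit 13], [nat_lit 4, nat_lit 7, nat_lit 2, nat_lit 0]) ::
  ([nat_lit 9, nat_lit 8, nat_lit 7], [nat_lit 5, nat_lit 2, nat_lit 1, nat_lit 0]) ::
  ([nat_lit 10, nat_lit 8, nat_lit 7], [nat_lit 0, nat_lit 1, nat_lit 5, nat_lit 2]) ::
  ([nat_lit 11, nat_lit 8, nat_lit 7], [nat_lit 1, nat_lit 7, nat_lit 2, nat_lit 0]) ::
  ([nat_lit 7, nat_lit 10, nat_lit 7], [nat_lit 7, nat_lit 1, nat_lit 4, nat_lit 0]) ::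
  ([nat_lit 8, nat_lit 10, nat_lit 7], [nat_lit 2, nat_lit 0, nat_lit 1, nat_lit 0]) ::
  ([nat_lit 12, nat_lit 10, nat_lit 7], [nat_lit 4, nat_lit 1, nat_lit 6, nat_lit 0]) ::
  ([nat_lit 13, nat_lit 10, nat_lit 7], [nat_lit 0, nat_lit 1, nat_lit 2]) ::
  ([nat_lit 14, nat_lit 10, nat_lit 7], [nat_lit 1, nat_lit 5, nat_lit 0, nat_lit 2]) ::
  ([nat_lit 8, nat_lit 11, nat_lit 7], [nat_lit 2, nat_lit 0, nat_lit 2, nat_lit 4]) ::
  ([nat_lit 10, nat_lit 11, nat_lit 7], [nat_lit 1, nat_lit 7, nat_lit 5, nat_lit 2, nat_lit 0, nat_lit 3]) ::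
  ([nat_lit 12, nat_lit 11, nat_lit 7], [nat_lit 7, nat_lit 0, nat_lit 2]) ::
  ([nat_lit 14, nat_lit 11, nat_lit 7], [nat_lit 2, nat_lit 0, nat_lit 4]) ::
  ([nat_lit 10, nat_lit 12, nat_lit 7], [nat_lit 0, nat_lit 1, nat_lit 0, nat_lit 5, nat_lit 2]) ::
  ([nat_lit 11, nat_lit 12, nat_lit 7], [nat_lit 7, nat_lit 2, nat_lit 0]) ::
  ([nat_lit 13, nat_lit 12, nat_lit 7], [nat_lit 2, nat_lit 0, nat_lit 7]) ::
  ([nat_lit 14, nat_lit 12, nat_lit 7], [nat_lit 0, nat_lit 2, nat_lit 6, nat_lit 2]) ::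
  ([nat_lit 11, nat_lit 14, nat_lit 7], [nat_lit 2, nat_lit 0, nat_lit 6, nat_lit 4]) ::
  ([nat_lit 12, nat_lit 14, nat_lit 7], [nat_lit 7, nat_lit 0, nat_lit 2]) ::
  ([nat_lit 7, nat_lit 9, nat_lit 8], [nat_lit 0, nat_lit 5, nat_lit 2, nat_lit 3]) ::
  ([nat_lit 11, nat_lit 9, nat_lit 8], [nat_lit 1, nat_lit 0, nat_lit 4, nat_lit 1, nat_lit 3]) ::
  ([nat_lit 12, nat_lit 9, nat_lit 8], [nat_lit 0, nat_lit 2, nat_lit 5, nat_lit 1]) ::
  ([nat_lit 14, nat_lit 9, nat_lit 8], [nat_lit 0, nat_lit 1, nat_lit 7, nat_lit 5]) ::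
  ([nat_lit 11, nat_lit 10, nat_lit 8], [nat_lit 0, nat_lit 3, nat_lit 2]) ::
  ([nat_lit 9, nat_lit 11, nat_lit 8], [nat_lit 4, nat_lit 2, nat_lit 7, nat_lit 0]) ::
  ([nat_lit 12, nat_lit 11, nat_lit 8], [nat_lit 2, nat_lit 0, nat_lit 3, nat_lit 5]) ::
  ([nat_lit 14, nat_lit 11, nat_lit 8], [nat_lit 0, nat_lit 1, nat_lit 2, nat_lit 4, nat_lit 0, nat_lit 2]) ::
  ([nat_lit 8, nat_lit 12, nat_lit 8], [nat_lit 6, nat_lit 6, nat_lit 0, nat_lit 5, nat_lit 2, nat_lit 1]) ::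
  ([nat_lit 9, nat_lit 12, nat_lit 8], [nat_lit 2, nat_lit 1, nat_lit 0, nat_lit 5]) ::
  ([nat_lit 10, nat_lit 12, nat_lit 8], [nat_lit 0, nat_lit 4, nat_lit 2, nat_lit 3]) ::
  cdV50
abbrev qe := qd
theorem qoke : qe.OK := qokd
noncomputable def Ce : List ℕ := [cx_3, cx_0, cr_1, cd_2, cr_0, cd_14, ce_6, ce_7, ce_8, ce_9, ce_10, ce_11, ce_12]
noncomputable def Ve : List (List ℕ) := [[nat_lit 0],
  [nat_lit 1],
  [nat_lit 5],
  [nat_lit 2],
  [nat_lit 3],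
  [nat_lit 14],
  [nat_lit 11, nat_lit 13, nat_lit 11],
  [nat_lit 11, nat_lit 12, nat_lit 14, nat_lit 11],
  [nat_lit 9, nat_lit 11, nat_lit 9, nat_lit 7, nat_lit 5],
  [nat_lit 14, nat_lit 11, nat_lit 13, nat_lit 11],
  [nat_lit 14, nat_lit 11, nat_lit 12, nat_lit 14, nat_lit 11],
  [nat_lit 14, nat_lit 9, nat_lit 11, nat_lit 9, nat_lit 7, nat_lit 5],
  [nat_lit 11, nat_lit 13, nat_lit 11, nat_lit 14]]
noncomputable def ge := wds gd Ve
noncomputable def Le : List (List ℕ × List ℕ) := (nP 2 [(4, 1), (5, 1), (6, 1), (7, 1), (8, 1), (9, 1), (10, 1), (11, 1), (12, 1)]) ++ (nP 3 [(4, 1), (5, 1), (6, 1), (7, 1), (8, 1), (9, 1), (10, 1), (11, 1), (12, 1)])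
noncomputable def ceW300 : List (List ℕ × List ℕ) :=
  ([nat_lit 8, nat_lit 9, nat_lit 4, nat_lit 10, nat_lit 6], [nat_lit 3, nat_lit 1, nat_lit 0, nat_lit 1]) ::
  ([nat_lit 10, nat_lit 8, nat_lit 11, nat_lit 10, nat_lit 6], [nat_lit 2, nat_lit 0, nat_lit 1, nat_lit 3, nat_lit 4]) ::
  ([nat_lit 7, nat_lit 8, nat_lit 5, nat_lit 4, nat_lit 7], [nat_lit 1, nat_lit 2, nat_lit 0]) ::
  ([nat_lit 10, nat_lit 4, nat_lit 8, nat_lit 6, nat_lit 8], [nat_lit 1, nat_lit 0, nat_lit 4, nat_lit 1, nat_lit 0]) ::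
  []
noncomputable def ceW250 : List (List ℕ × List ℕ) :=
  ([nat_lit 11, nat_lit 11, nat_lit 9, nat_lit 8], [nat_lit 0, nat_lit 1, nat_lit 5]) ::
  ([nat_lit 9, nat_lit 4, nat_lit 10, nat_lit 8], [nat_lit 2, nat_lit 0, nat_lit 3]) ::
  ([nat_lit 11, nat_lit 4, nat_lit 10, nat_lit 8], [nat_lit 2, nat_lit 3, nat_lit 0]) ::
  ([nat_lit 7, nat_lit 8, nat_lit 10, nat_lit 8], [nat_lit 5, nat_lit 0, nat_lit 2, nat_lit 3]) ::
  ([nat_lit 10, nat_lit 8, nat_lit 10, nat_lit 8], [nat_lit 3, nat_lit 1, nat_lit 0, nat_lit 2]) ::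
  ([nat_lit 10, nat_lit 8, nat_lit 11, nat_lit 8], [nat_lit 1, nat_lit 0]) ::
  ([nat_lit 8, nat_lit 7, nat_lit 4, nat_lit 9], [nat_lit 0, nat_lit 5, nat_lit 1, nat_lit 2]) ::
  ([nat_lit 11, nat_lit 7, nat_lit 4, nat_lit 9], [nat_lit 1, nat_lit 0, nat_lit 2]) ::
  ([nat_lit 6, nat_lit 8, nat_lit 4, nat_lit 9], [nat_lit 4, nat_lit 0, nat_lit 5, nat_lit 1]) ::
  ([nat_lit 9, nat_lit 8, nat_lit 4, nat_lit 9], [nat_lit 2, nat_lit 0, nat_lit 1]) ::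
  ([nat_lit 11, nat_lit 4, nat_lit 8, nat_lit 9], [nat_lit 0, nat_lit 1, nat_lit 0]) ::
  ([nat_lit 7, nat_lit 6, nat_lit 8, nat_lit 9], [nat_lit 0, nat_lit 5, nat_lit 2, nat_lit 1]) ::
  ([nat_lit 10, nat_lit 6, nat_lit 8, nat_lit 9], [nat_lit 2, nat_lit 0, nat_lit 3, nat_lit 5]) ::
  ([nat_lit 9, nat_lit 8, nat_lit 8, nat_lit 9], [nat_lit 3, nat_lit 1, nat_lit 4, nat_lit 0]) ::
  ([nat_lit 10, nat_lit 8, nat_lit 8, nat_lit 9], [nat_lit 1, nat_lit 0, nat_lit 0, nat_lit 4]) ::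
  ([nat_lit 8, nat_lit 9, nat_lit 8, nat_lit 9], [nat_lit 0, nat_lit 0, nat_lit 3, nat_lit 1]) ::
  ([nat_lit 11, nat_lit 9, nat_lit 8, nat_lit 9], [nat_lit 2, nat_lit 1, nat_lit 5, nat_lit 0]) ::
  ([nat_lit 8, nat_lit 4, nat_lit 11, nat_lit 9], [nat_lit 0, nat_lit 5, nat_lit 3, nat_lit 1]) ::
  ([nat_lit 9, nat_lit 4, nat_lit 11, nat_lit 9], [nat_lit 4, nat_lit 1, nat_lit 0]) ::
  ([nat_lit 11, nat_lit 7, nat_lit 4, nat_lit 10], [nat_lit 3, nat_lit 4, nat_lit 0, nat_lit 2]) ::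
  ([nat_lit 8, nat_lit 9, nat_lit 4, nat_lit 10], [nat_lit 0, nat_lit 2, nat_lit 2, nat_lit 1]) ::
  ([nat_lit 8, nat_lit 9, nat_lit 8, nat_lit 10], [nat_lit 3, nat_lit 0, nat_lit 5, nat_lit 2]) ::
  ([nat_lit 11, nat_lit 9, nat_lit 8, nat_lit 10], [nat_lit 1, nat_lit 0, nat_lit 5]) ::
  ([nat_lit 11, nat_lit 11, nat_lit 8, nat_lit 10], [nat_lit 0, nat_lit 1]) ::
  ([nat_lit 10, nat_lit 8, nat_lit 11, nat_lit 10], [nat_lit 2, nat_lit 1, nat_lit 0]) ::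
  ([nat_lit 7, nat_lit 4, nat_lit 4, nat_lit 11], [nat_lit 5, nat_lit 3, nat_lit 2, nat_lit 0]) ::
  ([nat_lit 6, nat_lit 8, nat_lit 8, nat_lit 11], [nat_lit 1, nat_lit 3, nat_lit 0]) ::
  ([nat_lit 7, nat_lit 8, nat_lit 8, nat_lit 11], [nat_lit 0, nat_lit 2, nat_lit 1, nat_lit 2]) ::
  ([nat_lit 9, nat_lit 8, nat_lit 8, nat_lit 11], [nat_lit 2, nat_lit 0, nat_lit 1]) ::
  ([nat_lit 10, nat_lit 8, nat_lit 8, nat_lit 11], [nat_lit 0, nat_lit 1, nat_lit 5]) ::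
  ([nat_lit 6, nat_lit 8, nat_lit 5, nat_lit 4, nat_lit 5], [nat_lit 2, nat_lit 3, nat_lit 0, nat_lit 2]) ::
  ([nat_lit 10, nat_lit 6, nat_lit 8, nat_lit 4, nat_lit 5], [nat_lit 1, nat_lit 0, nat_lit 2]) ::
  ([nat_lit 6, nat_lit 8, nat_lit 9, nat_lit 4, nat_lit 5], [nat_lit 5, nat_lit 0, nat_lit 1, nat_lit 4]) ::
  ([nat_lit 9, nat_lit 8, nat_lit 9, nat_lit 4, nat_lit 5], [nat_lit 2, nat_lit 3, nat_lit 0, nat_lit 1]) ::
  ([nat_lit 8, nat_lit 4, nat_lit 10, nat_lit 4, nat_lit 5], [nat_lit 3, nat_lit 0, nat_lit 1]) ::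
  ([nat_lit 11, nat_lit 4, nat_lit 10, nat_lit 4, nat_lit 5], [nat_lit 1, nat_lit 5, nat_lit 0]) ::
  ([nat_lit 7, nat_lit 4, nat_lit 6, nat_lit 8, nat_lit 5], [nat_lit 0, nat_lit 5, nat_lit 2, nat_lit 1]) ::
  ([nat_lit 8, nat_lit 8, nat_lit 6, nat_lit 8, nat_lit 5], [nat_lit 3, nat_lit 0, nat_lit 4, nat_lit 1]) ::
  ([nat_lit 11, nat_lit 8, nat_lit 6, nat_lit 8, nat_lit 5], [nat_lit 5, nat_lit 3, nat_lit 4, nat_lit 2, nat_lit 0]) ::
  ([nat_lit 7, nat_lit 8, nat_lit 7, nat_lit 8, nat_lit 5], [nat_lit 0, nat_lit 1, nat_lit 5, nat_lit 3]) ::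
  ([nat_lit 11, nat_lit 8, nat_lit 7, nat_lit 8, nat_lit 5], [nat_lit 2, nat_lit 0, nat_lit 3]) ::
  ([nat_lit 8, nat_lit 7, nat_lit 8, nat_lit 8, nat_lit 5], [nat_lit 1, nat_lit 0, nat_lit 4, nat_lit 3]) ::
  ([nat_lit 10, nat_lit 4, nat_lit 9, nat_lit 8, nat_lit 5], [nat_lit 3, nat_lit 0, nat_lit 2]) ::
  ([nat_lit 8, nat_lit 4, nat_lit 10, nat_lit 8, nat_lit 5], [nat_lit 5, nat_lit 2, nat_lit 0, nat_lit 3]) ::
  ([nat_lit 7, nat_lit 4, nat_lit 4, nat_lit 11, nat_lit 5], [nat_lit 0, nat_lit 1, nat_lit 3]) ::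
  ([nat_lit 10, nat_lit 4, nat_lit 4, nat_lit 11, nat_lit 5], [nat_lit 3, nat_lit 2, nat_lit 0]) ::
  ([nat_lit 9, nat_lit 8, nat_lit 4, nat_lit 11, nat_lit 5], [nat_lit 4, nat_lit 0, nat_lit 5, nat_lit 1, nat_lit 0]) ::
  ([nat_lit 11, nat_lit 10, nat_lit 6, nat_lit 4, nat_lit 6], [nat_lit 1, nat_lit 0, nat_lit 5]) ::
  ([nat_lit 8, nat_lit 7, nat_lit 8, nat_lit 4, nat_lit 6], [nat_lit 5, nat_lit 2, nat_lit 0, nat_lit 3]) ::
  ([nat_lit 11, nat_lit 9, nat_lit 8, nat_lit 4, nat_lit 6], [nat_lit 0, nat_lit 3, nat_lit 2]) ::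
  ceW300
noncomputable def ceW200 : List (List ℕ × List ℕ) :=
  ([nat_lit 8, nat_lit 7, nat_lit 4, nat_lit 7], [nat_lit 2, nat_lit 3, nat_lit 1, nat_lit 0]) ::
  ([nat_lit 11, nat_lit 7, nat_lit 4, nat_lit 7], [nat_lit 4, nat_lit 3, nat_lit 0, nat_lit 2]) ::
  ([nat_lit 6, nat_lit 8, nat_lit 4, nat_lit 7], [nat_lit 0, nat_lit 1]) ::
  ([nat_lit 8, nat_lit 8, nat_lit 4, nat_lit 7], [nat_lit 1, nat_lit 0, nat_lit 5]) ::
  ([nat_lit 9, nat_lit 8, nat_lit 4, nat_lit 7], [nat_lit 3, nat_lit 2, nat_lit 0]) ::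
  ([nat_lit 11, nat_lit 8, nat_lit 4, nat_lit 7], [nat_lit 0, nat_lit 1, nat_lit 5, nat_lit 3, nat_lit 1]) ::
  ([nat_lit 8, nat_lit 9, nat_lit 4, nat_lit 7], [nat_lit 2, nat_lit 5, nat_lit 3, nat_lit 0]) ::
  ([nat_lit 11, nat_lit 10, nat_lit 4, nat_lit 7], [nat_lit 3, nat_lit 0, nat_lit 2, nat_lit 3, nat_lit 1]) ::
  ([nat_lit 5, nat_lit 4, nat_lit 8, nat_lit 7], [nat_lit 0, nat_lit 0, nat_lit 1]) ::
  ([nat_lit 6, nat_lit 4, nat_lit 8, nat_lit 7], [nat_lit 0, nat_lit 1, nat_lit 0, nat_lit 2]) ::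
  ([nat_lit 9, nat_lit 4, nat_lit 8, nat_lit 7], [nat_lit 5, nat_lit 0, nat_lit 1, nat_lit 5]) ::
  ([nat_lit 7, nat_lit 6, nat_lit 8, nat_lit 7], [nat_lit 0, nat_lit 1, nat_lit 0]) ::
  ([nat_lit 11, nat_lit 7, nat_lit 8, nat_lit 7], [nat_lit 1, nat_lit 0]) ::
  ([nat_lit 6, nat_lit 8, nat_lit 8, nat_lit 7], [nat_lit 1, nat_lit 0]) ::
  ([nat_lit 9, nat_lit 8, nat_lit 8, nat_lit 7], [nat_lit 1, nat_lit 0]) ::
  ([nat_lit 10, nat_lit 8, nat_lit 8, nat_lit 7], [nat_lit 1, nat_lit 0, nat_lit 2]) ::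
  ([nat_lit 11, nat_lit 10, nat_lit 8, nat_lit 7], [nat_lit 2, nat_lit 1, nat_lit 0]) ::
  ([nat_lit 8, nat_lit 11, nat_lit 8, nat_lit 7], [nat_lit 1, nat_lit 0]) ::
  ([nat_lit 5, nat_lit 4, nat_lit 11, nat_lit 7], [nat_lit 4, nat_lit 0, nat_lit 1, nat_lit 2]) ::
  ([nat_lit 8, nat_lit 4, nat_lit 11, nat_lit 7], [nat_lit 2, nat_lit 3, nat_lit 0]) ::
  ([nat_lit 9, nat_lit 4, nat_lit 11, nat_lit 7], [nat_lit 0, nat_lit 1]) ::
  ([nat_lit 10, nat_lit 4, nat_lit 11, nat_lit 7], [nat_lit 0, nat_lit 0, nat_lit 1]) ::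
  ([nat_lit 11, nat_lit 4, nat_lit 11, nat_lit 7], [nat_lit 3, nat_lit 0, nat_lit 1, nat_lit 2]) ::
  ([nat_lit 7, nat_lit 8, nat_lit 11, nat_lit 7], [nat_lit 0, nat_lit 1, nat_lit 3]) ::
  ([nat_lit 8, nat_lit 8, nat_lit 11, nat_lit 7], [nat_lit 0, nat_lit 2, nat_lit 1]) ::
  ([nat_lit 10, nat_lit 8, nat_lit 11, nat_lit 7], [nat_lit 0, nat_lit 1]) ::
  ([nat_lit 11, nat_lit 8, nat_lit 11, nat_lit 7], [nat_lit 4, nat_lit 5, nat_lit 1, nat_lit 0]) ::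
  ([nat_lit 9, nat_lit 4, nat_lit 4, nat_lit 8], [nat_lit 0, nat_lit 1, nat_lit 5]) ::
  ([nat_lit 10, nat_lit 4, nat_lit 4, nat_lit 8], [nat_lit 5, nat_lit 1, nat_lit 0]) ::
  ([nat_lit 6, nat_lit 4, nat_lit 6, nat_lit 8], [nat_lit 0, nat_lit 2, nat_lit 3]) ::
  ([nat_lit 8, nat_lit 4, nat_lit 6, nat_lit 8], [nat_lit 3, nat_lit 2, nat_lit 0]) ::
  ([nat_lit 9, nat_lit 4, nat_lit 6, nat_lit 8], [nat_lit 3, nat_lit 2, nat_lit 0]) ::
  ([nat_lit 8, nat_lit 8, nat_lit 6, nat_lit 8], [nat_lit 0, nat_lit 5, nat_lit 1]) ::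
  ([nat_lit 11, nat_lit 8, nat_lit 6, nat_lit 8], [nat_lit 0, nat_lit 3, nat_lit 0, nat_lit 1]) ::
  ([nat_lit 11, nat_lit 10, nat_lit 6, nat_lit 8], [nat_lit 0, nat_lit 1]) ::
  ([nat_lit 7, nat_lit 4, nat_lit 7, nat_lit 8], [nat_lit 1, nat_lit 0, nat_lit 5]) ::
  ([nat_lit 6, nat_lit 8, nat_lit 7, nat_lit 8], [nat_lit 3, nat_lit 0, nat_lit 2]) ::
  ([nat_lit 7, nat_lit 8, nat_lit 7, nat_lit 8], [nat_lit 2, nat_lit 3, nat_lit 1, nat_lit 0]) ::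
  ([nat_lit 9, nat_lit 8, nat_lit 7, nat_lit 8], [nat_lit 0, nat_lit 1, nat_lit 3]) ::
  ([nat_lit 8, nat_lit 11, nat_lit 7, nat_lit 8], [nat_lit 0, nat_lit 3, nat_lit 2]) ::
  ([nat_lit 8, nat_lit 6, nat_lit 8, nat_lit 8], [nat_lit 1, nat_lit 2, nat_lit 0, nat_lit 3]) ::
  ([nat_lit 11, nat_lit 6, nat_lit 8, nat_lit 8], [nat_lit 2, nat_lit 0, nat_lit 3]) ::
  ([nat_lit 8, nat_lit 9, nat_lit 8, nat_lit 8], [nat_lit 1, nat_lit 2, nat_lit 0]) ::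
  ([nat_lit 11, nat_lit 9, nat_lit 8, nat_lit 8], [nat_lit 0, nat_lit 0, nat_lit 1, nat_lit 2, nat_lit 3]) ::
  ([nat_lit 11, nat_lit 10, nat_lit 8, nat_lit 8], [nat_lit 3, nat_lit 1, nat_lit 2, nat_lit 0]) ::
  ([nat_lit 5, nat_lit 4, nat_lit 9, nat_lit 8], [nat_lit 4, nat_lit 0, nat_lit 1]) ::
  ([nat_lit 8, nat_lit 4, nat_lit 9, nat_lit 8], [nat_lit 2, nat_lit 0, nat_lit 1]) ::
  ([nat_lit 9, nat_lit 4, nat_lit 9, nat_lit 8], [nat_lit 5, nat_lit 0, nat_lit 1]) ::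
  ([nat_lit 8, nat_lit 8, nat_lit 9, nat_lit 8], [nat_lit 2, nat_lit 0, nat_lit 4, nat_lit 1]) ::
  ([nat_lit 10, nat_lit 8, nat_lit 9, nat_lit 8], [nat_lit 0, nat_lit 1, nat_lit 4]) ::
  ceW250
noncomputable def ceW150 : List (List ℕ × List ℕ) :=
  ([nat_lit 11, nat_lit 4, nat_lit 11, nat_lit 5], [nat_lit 1, nat_lit 5, nat_lit 0]) ::
  ([nat_lit 7, nat_lit 8, nat_lit 11, nat_lit 5], [nat_lit 5, nat_lit 4, nat_lit 0, nat_lit 1]) ::
  ([nat_lit 8, nat_lit 6, nat_lit 4, nat_lit 6], [nat_lit 1, nat_lit 2, nat_lit 0, nat_lit 5]) ::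
  ([nat_lit 11, nat_lit 6, nat_lit 4, nat_lit 6], [nat_lit 2, nat_lit 1, nat_lit 0]) ::
  ([nat_lit 8, nat_lit 7, nat_lit 4, nat_lit 6], [nat_lit 5, nat_lit 0, nat_lit 4, nat_lit 0, nat_lit 1]) ::
  ([nat_lit 11, nat_lit 7, nat_lit 4, nat_lit 6], [nat_lit 3, nat_lit 0, nat_lit 2, nat_lit 0]) ::
  ([nat_lit 6, nat_lit 8, nat_lit 4, nat_lit 6], [nat_lit 5, nat_lit 2, nat_lit 3, nat_lit 0]) ::
  ([nat_lit 9, nat_lit 8, nat_lit 4, nat_lit 6], [nat_lit 3, nat_lit 2, nat_lit 5, nat_lit 0]) ::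
  ([nat_lit 10, nat_lit 8, nat_lit 4, nat_lit 6], [nat_lit 0, nat_lit 1, nat_lit 2]) ::
  ([nat_lit 8, nat_lit 9, nat_lit 4, nat_lit 6], [nat_lit 0, nat_lit 3, nat_lit 5, nat_lit 2]) ::
  ([nat_lit 11, nat_lit 9, nat_lit 4, nat_lit 6], [nat_lit 2, nat_lit 1, nat_lit 0]) ::
  ([nat_lit 8, nat_lit 10, nat_lit 4, nat_lit 6], [nat_lit 1, nat_lit 0, nat_lit 4]) ::
  ([nat_lit 11, nat_lit 10, nat_lit 4, nat_lit 6], [nat_lit 1, nat_lit 0, nat_lit 3]) ::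
  ([nat_lit 8, nat_lit 4, nat_lit 7, nat_lit 6], [nat_lit 3, nat_lit 3, nat_lit 0, nat_lit 1]) ::
  ([nat_lit 11, nat_lit 4, nat_lit 7, nat_lit 6], [nat_lit 2, nat_lit 3, nat_lit 1, nat_lit 0]) ::
  ([nat_lit 8, nat_lit 8, nat_lit 7, nat_lit 6], [nat_lit 4, nat_lit 1, nat_lit 0, nat_lit 1, nat_lit 5]) ::
  ([nat_lit 9, nat_lit 8, nat_lit 7, nat_lit 6], [nat_lit 1, nat_lit 5, nat_lit 0]) ::
  ([nat_lit 8, nat_lit 11, nat_lit 7, nat_lit 6], [nat_lit 0, nat_lit 1, nat_lit 3]) ::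
  ([nat_lit 11, nat_lit 11, nat_lit 7, nat_lit 6], [nat_lit 5, nat_lit 0, nat_lit 1]) ::
  ([nat_lit 5, nat_lit 4, nat_lit 8, nat_lit 6], [nat_lit 1, nat_lit 0, nat_lit 4]) ::
  ([nat_lit 7, nat_lit 4, nat_lit 8, nat_lit 6], [nat_lit 2, nat_lit 4, nat_lit 0, nat_lit 3]) ::
  ([nat_lit 9, nat_lit 4, nat_lit 8, nat_lit 6], [nat_lit 3, nat_lit 2, nat_lit 0]) ::
  ([nat_lit 11, nat_lit 4, nat_lit 8, nat_lit 6], [nat_lit 0, nat_lit 1, nat_lit 2]) ::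
  ([nat_lit 7, nat_lit 6, nat_lit 8, nat_lit 6], [nat_lit 5, nat_lit 1, nat_lit 0, nat_lit 1]) ::
  ([nat_lit 10, nat_lit 6, nat_lit 8, nat_lit 6], [nat_lit 0, nat_lit 4, nat_lit 1]) ::
  ([nat_lit 11, nat_lit 6, nat_lit 8, nat_lit 6], [nat_lit 0, nat_lit 1, nat_lit 4]) ::
  ([nat_lit 8, nat_lit 7, nat_lit 8, nat_lit 6], [nat_lit 0, nat_lit 1, nat_lit 3, nat_lit 3]) ::
  ([nat_lit 6, nat_lit 8, nat_lit 8, nat_lit 6], [nat_lit 1, nat_lit 0]) ::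
  ([nat_lit 7, nat_lit 8, nat_lit 8, nat_lit 6], [nat_lit 0, nat_lit 0, nat_lit 0, nat_lit 1]) ::
  ([nat_lit 9, nat_lit 8, nat_lit 8, nat_lit 6], [nat_lit 1, nat_lit 0]) ::
  ([nat_lit 8, nat_lit 9, nat_lit 8, nat_lit 6], [nat_lit 1, nat_lit 5, nat_lit 0]) ::
  ([nat_lit 11, nat_lit 9, nat_lit 8, nat_lit 6], [nat_lit 2, nat_lit 5, nat_lit 0, nat_lit 1]) ::
  ([nat_lit 8, nat_lit 10, nat_lit 8, nat_lit 6], [nat_lit 0, nat_lit 1]) ::
  ([nat_lit 7, nat_lit 4, nat_lit 10, nat_lit 6], [nat_lit 1, nat_lit 0, nat_lit 0]) ::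
  ([nat_lit 8, nat_lit 4, nat_lit 10, nat_lit 6], [nat_lit 0, nat_lit 0, nat_lit 1, nat_lit 5]) ::
  ([nat_lit 11, nat_lit 4, nat_lit 10, nat_lit 6], [nat_lit 0, nat_lit 1, nat_lit 2]) ::
  ([nat_lit 8, nat_lit 8, nat_lit 10, nat_lit 6], [nat_lit 5, nat_lit 2, nat_lit 3, nat_lit 0]) ::
  ([nat_lit 9, nat_lit 8, nat_lit 10, nat_lit 6], [nat_lit 0, nat_lit 1, nat_lit 3]) ::
  ([nat_lit 11, nat_lit 8, nat_lit 10, nat_lit 6], [nat_lit 5, nat_lit 0, nat_lit 1]) ::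
  ([nat_lit 8, nat_lit 11, nat_lit 10, nat_lit 6], [nat_lit 0, nat_lit 5, nat_lit 2, nat_lit 1]) ::
  ([nat_lit 5, nat_lit 4, nat_lit 11, nat_lit 6], [nat_lit 0, nat_lit 1, nat_lit 2]) ::
  ([nat_lit 8, nat_lit 4, nat_lit 11, nat_lit 6], [nat_lit 5, nat_lit 1, nat_lit 2, nat_lit 0]) ::
  ([nat_lit 9, nat_lit 4, nat_lit 11, nat_lit 6], [nat_lit 0, nat_lit 4, nat_lit 5, nat_lit 1]) ::
  ([nat_lit 10, nat_lit 4, nat_lit 11, nat_lit 6], [nat_lit 0, nat_lit 5, nat_lit 1]) ::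
  ([nat_lit 8, nat_lit 8, nat_lit 11, nat_lit 6], [nat_lit 3, nat_lit 3, nat_lit 1, nat_lit 0]) ::
  ([nat_lit 11, nat_lit 8, nat_lit 11, nat_lit 6], [nat_lit 0, nat_lit 1]) ::
  ([nat_lit 8, nat_lit 5, nat_lit 4, nat_lit 7], [nat_lit 1, nat_lit 2, nat_lit 0]) ::
  ([nat_lit 11, nat_lit 5, nat_lit 4, nat_lit 7], [nat_lit 1, nat_lit 0, nat_lit 2]) ::
  ([nat_lit 8, nat_lit 6, nat_lit 4, nat_lit 7], [nat_lit 1, nat_lit 5, nat_lit 3, nat_lit 0]) ::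
  ([nat_lit 11, nat_lit 6, nat_lit 4, nat_lit 7], [nat_lit 1, nat_lit 5, nat_lit 0]) ::
  ceW200
noncomputable def ceW100 : List (List ℕ × List ℕ) :=
  ([nat_lit 11, nat_lit 11, nat_lit 9], [nat_lit 1, nat_lit 5, nat_lit 1, nat_lit 0]) ::
  ([nat_lit 7, nat_lit 4, nat_lit 10], [nat_lit 3, nat_lit 1, nat_lit 0]) ::
  ([nat_lit 8, nat_lit 4, nat_lit 10], [nat_lit 2, nat_lit 3, nat_lit 0, nat_lit 4]) ::
  ([nat_lit 10, nat_lit 4, nat_lit 10], [nat_lit 0, nat_lit 0, nat_lit 1]) ::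
  ([nat_lit 11, nat_lit 4, nat_lit 10], [nat_lit 0, nat_lit 1]) ::
  ([nat_lit 6, nat_lit 8, nat_lit 10], [nat_lit 3, nat_lit 1, nat_lit 0, nat_lit 4]) ::
  ([nat_lit 7, nat_lit 8, nat_lit 10], [nat_lit 0, nat_lit 1, nat_lit 3, nat_lit 1]) ::
  ([nat_lit 8, nat_lit 8, nat_lit 10], [nat_lit 4, nat_lit 1, nat_lit 0]) ::
  ([nat_lit 9, nat_lit 8, nat_lit 10], [nat_lit 0, nat_lit 1, nat_lit 2]) ::
  ([nat_lit 10, nat_lit 8, nat_lit 10], [nat_lit 1, nat_lit 0, nat_lit 4]) ::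
  ([nat_lit 11, nat_lit 8, nat_lit 10], [nat_lit 1, nat_lit 0, nat_lit 1, nat_lit 5]) ::
  ([nat_lit 8, nat_lit 11, nat_lit 10], [nat_lit 0, nat_lit 3, nat_lit 0, nat_lit 1]) ::
  ([nat_lit 5, nat_lit 4, nat_lit 11], [nat_lit 4, nat_lit 0, nat_lit 3, nat_lit 1]) ::
  ([nat_lit 6, nat_lit 4, nat_lit 11], [nat_lit 0, nat_lit 2, nat_lit 5, nat_lit 3]) ::
  ([nat_lit 8, nat_lit 4, nat_lit 11], [nat_lit 1, nat_lit 0, nat_lit 2]) ::
  ([nat_lit 9, nat_lit 4, nat_lit 11], [nat_lit 5, nat_lit 0, nat_lit 1]) ::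
  ([nat_lit 10, nat_lit 4, nat_lit 11], [nat_lit 1, nat_lit 0]) ::
  ([nat_lit 11, nat_lit 4, nat_lit 11], [nat_lit 1, nat_lit 5, nat_lit 0]) ::
  ([nat_lit 8, nat_lit 8, nat_lit 11], [nat_lit 3, nat_lit 0, nat_lit 2]) ::
  ([nat_lit 8, nat_lit 5, nat_lit 4, nat_lit 5], [nat_lit 2, nat_lit 1, nat_lit 0]) ::
  ([nat_lit 11, nat_lit 5, nat_lit 4, nat_lit 5], [nat_lit 0, nat_lit 5, nat_lit 1]) ::
  ([nat_lit 11, nat_lit 7, nat_lit 4, nat_lit 5], [nat_lit 2, nat_lit 2, nat_lit 0, nat_lit 1]) ::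
  ([nat_lit 6, nat_lit 8, nat_lit 4, nat_lit 5], [nat_lit 4, nat_lit 1, nat_lit 0]) ::
  ([nat_lit 7, nat_lit 8, nat_lit 4, nat_lit 5], [nat_lit 1, nat_lit 0, nat_lit 2, nat_lit 3, nat_lit 5]) ::
  ([nat_lit 8, nat_lit 8, nat_lit 4, nat_lit 5], [nat_lit 1, nat_lit 0, nat_lit 4]) ::
  ([nat_lit 9, nat_lit 8, nat_lit 4, nat_lit 5], [nat_lit 0, nat_lit 3, nat_lit 2, nat_lit 4]) ::
  ([nat_lit 10, nat_lit 8, nat_lit 4, nat_lit 5], [nat_lit 2, nat_lit 0, nat_lit 1, nat_lit 2]) ::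
  ([nat_lit 11, nat_lit 8, nat_lit 4, nat_lit 5], [nat_lit 2, nat_lit 0, nat_lit 1]) ::
  ([nat_lit 8, nat_lit 9, nat_lit 4, nat_lit 5], [nat_lit 3, nat_lit 0, nat_lit 0, nat_lit 5, nat_lit 2]) ::
  ([nat_lit 11, nat_lit 9, nat_lit 4, nat_lit 5], [nat_lit 5, nat_lit 1, nat_lit 0]) ::
  ([nat_lit 11, nat_lit 10, nat_lit 4, nat_lit 5], [nat_lit 3, nat_lit 1, nat_lit 0, nat_lit 0]) ::
  ([nat_lit 7, nat_lit 4, nat_lit 8, nat_lit 5], [nat_lit 0, nat_lit 2, nat_lit 1]) ::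
  ([nat_lit 9, nat_lit 4, nat_lit 8, nat_lit 5], [nat_lit 1, nat_lit 0, nat_lit 5, nat_lit 5]) ::
  ([nat_lit 10, nat_lit 4, nat_lit 8, nat_lit 5], [nat_lit 3, nat_lit 0, nat_lit 1]) ::
  ([nat_lit 7, nat_lit 6, nat_lit 8, nat_lit 5], [nat_lit 4, nat_lit 0, nat_lit 0, nat_lit 1]) ::
  ([nat_lit 8, nat_lit 6, nat_lit 8, nat_lit 5], [nat_lit 2, nat_lit 5, nat_lit 0, nat_lit 1]) ::
  ([nat_lit 10, nat_lit 6, nat_lit 8, nat_lit 5], [nat_lit 1, nat_lit 0, nat_lit 3, nat_lit 5]) ::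
  ([nat_lit 8, nat_lit 7, nat_lit 8, nat_lit 5], [nat_lit 5, nat_lit 1, nat_lit 0, nat_lit 2]) ::
  ([nat_lit 11, nat_lit 7, nat_lit 8, nat_lit 5], [nat_lit 5, nat_lit 0, nat_lit 3, nat_lit 2]) ::
  ([nat_lit 6, nat_lit 8, nat_lit 8, nat_lit 5], [nat_lit 1, nat_lit 3, nat_lit 0]) ::
  ([nat_lit 7, nat_lit 8, nat_lit 8, nat_lit 5], [nat_lit 0, nat_lit 1]) ::
  ([nat_lit 9, nat_lit 8, nat_lit 8, nat_lit 5], [nat_lit 0, nat_lit 1]) ::
  ([nat_lit 8, nat_lit 9, nat_lit 8, nat_lit 5], [nat_lit 4, nat_lit 0, nat_lit 1, nat_lit 5]) ::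
  ([nat_lit 11, nat_lit 9, nat_lit 8, nat_lit 5], [nat_lit 1, nat_lit 0]) ::
  ([nat_lit 8, nat_lit 10, nat_lit 8, nat_lit 5], [nat_lit 3, nat_lit 1, nat_lit 5, nat_lit 0]) ::
  ([nat_lit 8, nat_lit 11, nat_lit 8, nat_lit 5], [nat_lit 0, nat_lit 5, nat_lit 0, nat_lit 1]) ::
  ([nat_lit 11, nat_lit 11, nat_lit 8, nat_lit 5], [nat_lit 3, nat_lit 2, nat_lit 0, nat_lit 5]) ::
  ([nat_lit 7, nat_lit 4, nat_lit 11, nat_lit 5], [nat_lit 0, nat_lit 1]) ::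
  ([nat_lit 9, nat_lit 4, nat_lit 11, nat_lit 5], [nat_lit 5, nat_lit 1, nat_lit 4, nat_lit 0]) ::
  ([nat_lit 10, nat_lit 4, nat_lit 11, nat_lit 5], [nat_lit 3, nat_lit 0, nat_lit 0, nat_lit 2]) ::
  ceW150
noncomputable def ceW50 : List (List ℕ × List ℕ) :=
  ([nat_lit 9, nat_lit 8, nat_lit 6], [nat_lit 1, nat_lit 0, nat_lit 5]) ::
  ([nat_lit 10, nat_lit 8, nat_lit 6], [nat_lit 1, nat_lit 0]) ::
  ([nat_lit 11, nat_lit 8, nat_lit 6], [nat_lit 0, nat_lit 5, nat_lit 1, nat_lit 3]) ::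
  ([nat_lit 11, nat_lit 10, nat_lit 6], [nat_lit 0, nat_lit 1, nat_lit 2, nat_lit 1]) ::
  ([nat_lit 8, nat_lit 11, nat_lit 6], [nat_lit 0, nat_lit 2, nat_lit 1, nat_lit 2]) ::
  ([nat_lit 11, nat_lit 11, nat_lit 6], [nat_lit 1, nat_lit 0, nat_lit 4]) ::
  ([nat_lit 7, nat_lit 4, nat_lit 7], [nat_lit 1, nat_lit 0, nat_lit 0]) ::
  ([nat_lit 8, nat_lit 4, nat_lit 7], [nat_lit 1, nat_lit 2, nat_lit 0, nat_lit 5]) ::
  ([nat_lit 10, nat_lit 4, nat_lit 7], [nat_lit 4, nat_lit 1, nat_lit 5, nat_lit 0]) ::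
  ([nat_lit 11, nat_lit 4, nat_lit 7], [nat_lit 0, nat_lit 2, nat_lit 1]) ::
  ([nat_lit 6, nat_lit 8, nat_lit 7], [nat_lit 5, nat_lit 1, nat_lit 2, nat_lit 0]) ::
  ([nat_lit 7, nat_lit 8, nat_lit 7], [nat_lit 0, nat_lit 3, nat_lit 1]) ::
  ([nat_lit 8, nat_lit 8, nat_lit 7], [nat_lit 0, nat_lit 2, nat_lit 4, nat_lit 3]) ::
  ([nat_lit 9, nat_lit 8, nat_lit 7], [nat_lit 5, nat_lit 0, nat_lit 2, nat_lit 1]) ::
  ([nat_lit 10, nat_lit 8, nat_lit 7], [nat_lit 2, nat_lit 2, nat_lit 1, nat_lit 0]) ::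
  ([nat_lit 11, nat_lit 8, nat_lit 7], [nat_lit 3, nat_lit 0, nat_lit 1, nat_lit 2]) ::
  ([nat_lit 8, nat_lit 11, nat_lit 7], [nat_lit 5, nat_lit 4, nat_lit 1, nat_lit 0]) ::
  ([nat_lit 11, nat_lit 11, nat_lit 7], [nat_lit 0, nat_lit 1]) ::
  ([nat_lit 5, nat_lit 4, nat_lit 8], [nat_lit 3, nat_lit 2, nat_lit 0]) ::
  ([nat_lit 6, nat_lit 4, nat_lit 8], [nat_lit 5, nat_lit 0, nat_lit 1]) ::
  ([nat_lit 7, nat_lit 4, nat_lit 8], [nat_lit 0, nat_lit 0, nat_lit 1]) ::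
  ([nat_lit 9, nat_lit 4, nat_lit 8], [nat_lit 0, nat_lit 2, nat_lit 1]) ::
  ([nat_lit 11, nat_lit 4, nat_lit 8], [nat_lit 1, nat_lit 0]) ::
  ([nat_lit 7, nat_lit 6, nat_lit 8], [nat_lit 3, nat_lit 1, nat_lit 0, nat_lit 1]) ::
  ([nat_lit 8, nat_lit 6, nat_lit 8], [nat_lit 3, nat_lit 1, nat_lit 0, nat_lit 0]) ::
  ([nat_lit 10, nat_lit 6, nat_lit 8], [nat_lit 2, nat_lit 1, nat_lit 2, nat_lit 0, nat_lit 5]) ::
  ([nat_lit 11, nat_lit 6, nat_lit 8], [nat_lit 5, nat_lit 2, nat_lit 1, nat_lit 0]) ::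
  ([nat_lit 8, nat_lit 7, nat_lit 8], [nat_lit 0, nat_lit 5, nat_lit 2, nat_lit 3]) ::
  ([nat_lit 11, nat_lit 7, nat_lit 8], [nat_lit 0, nat_lit 2, nat_lit 1]) ::
  ([nat_lit 6, nat_lit 8, nat_lit 8], [nat_lit 1, nat_lit 4, nat_lit 0]) ::
  ([nat_lit 7, nat_lit 8, nat_lit 8], [nat_lit 0, nat_lit 5, nat_lit 1, nat_lit 5]) ::
  ([nat_lit 9, nat_lit 8, nat_lit 8], [nat_lit 0, nat_lit 0, nat_lit 3, nat_lit 1]) ::
  ([nat_lit 10, nat_lit 8, nat_lit 8], [nat_lit 3, nat_lit 0, nat_lit 1, nat_lit 5]) ::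
  ([nat_lit 8, nat_lit 9, nat_lit 8], [nat_lit 3, nat_lit 3, nat_lit 0, nat_lit 1]) ::
  ([nat_lit 11, nat_lit 9, nat_lit 8], [nat_lit 5, nat_lit 1, nat_lit 0, nat_lit 0]) ::
  ([nat_lit 11, nat_lit 10, nat_lit 8], [nat_lit 0, nat_lit 3, nat_lit 2]) ::
  ([nat_lit 8, nat_lit 11, nat_lit 8], [nat_lit 5, nat_lit 0, nat_lit 1]) ::
  ([nat_lit 11, nat_lit 11, nat_lit 8], [nat_lit 1, nat_lit 3, nat_lit 0, nat_lit 5]) ::
  ([nat_lit 5, nat_lit 4, nat_lit 9], [nat_lit 1, nat_lit 3, nat_lit 0, nat_lit 2]) ::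
  ([nat_lit 7, nat_lit 4, nat_lit 9], [nat_lit 3, nat_lit 1, nat_lit 0, nat_lit 5]) ::
  ([nat_lit 8, nat_lit 4, nat_lit 9], [nat_lit 2, nat_lit 0, nat_lit 3, nat_lit 2]) ::
  ([nat_lit 10, nat_lit 4, nat_lit 9], [nat_lit 2, nat_lit 0, nat_lit 0, nat_lit 1]) ::
  ([nat_lit 11, nat_lit 4, nat_lit 9], [nat_lit 0, nat_lit 5, nat_lit 1]) ::
  ([nat_lit 6, nat_lit 8, nat_lit 9], [nat_lit 0, nat_lit 1]) ::
  ([nat_lit 7, nat_lit 8, nat_lit 9], [nat_lit 0, nat_lit 5, nat_lit 1]) ::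
  ([nat_lit 8, nat_lit 8, nat_lit 9], [nat_lit 3, nat_lit 1, nat_lit 0]) ::
  ([nat_lit 9, nat_lit 8, nat_lit 9], [nat_lit 3, nat_lit 0, nat_lit 2, nat_lit 1]) ::
  ([nat_lit 10, nat_lit 8, nat_lit 9], [nat_lit 0, nat_lit 1]) ::
  ([nat_lit 11, nat_lit 8, nat_lit 9], [nat_lit 0, nat_lit 1, nat_lit 4, nat_lit 3]) ::
  ([nat_lit 8, nat_lit 11, nat_lit 9], [nat_lit 0, nat_lit 4, nat_lit 1]) ::
  ceW100
noncomputable def ceW : List (List ℕ × List ℕ) :=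
  ([], []) ::
  ([nat_lit 5], [nat_lit 1, nat_lit 5, nat_lit 0, nat_lit 3]) ::
  ([nat_lit 6], [nat_lit 1, nat_lit 5, nat_lit 0]) ::
  ([nat_lit 7], [nat_lit 0, nat_lit 1, nat_lit 5]) ::
  ([nat_lit 8], [nat_lit 4, nat_lit 1, nat_lit 0, nat_lit 3]) ::
  ([nat_lit 9], [nat_lit 1, nat_lit 0, nat_lit 5, nat_lit 0]) ::
  ([nat_lit 10], [nat_lit 4, nat_lit 0, nat_lit 5, nat_lit 1]) ::
  ([nat_lit 11], [nat_lit 1, nat_lit 2, nat_lit 2, nat_lit 0]) ::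
  ([nat_lit 8, nat_lit 5], [nat_lit 1, nat_lit 0, nat_lit 5]) ::
  ([nat_lit 11, nat_lit 5], [nat_lit 1, nat_lit 0, nat_lit 3, nat_lit 0]) ::
  ([nat_lit 7, nat_lit 6], [nat_lit 3, nat_lit 1, nat_lit 0]) ::
  ([nat_lit 8, nat_lit 6], [nat_lit 1, nat_lit 4, nat_lit 0]) ::
  ([nat_lit 10, nat_lit 6], [nat_lit 1, nat_lit 0, nat_lit 5, nat_lit 0]) ::
  ([nat_lit 11, nat_lit 6], [nat_lit 2, nat_lit 1, nat_lit 0, nat_lit 2]) ::
  ([nat_lit 8, nat_lit 7], [nat_lit 1, nat_lit 4, nat_lit 5, nat_lit 0]) ::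
  ([nat_lit 11, nat_lit 7], [nat_lit 0, nat_lit 2, nat_lit 1, nat_lit 0]) ::
  ([nat_lit 6, nat_lit 8], [nat_lit 1, nat_lit 0]) ::
  ([nat_lit 7, nat_lit 8], [nat_lit 3, nat_lit 0, nat_lit 1]) ::
  ([nat_lit 8, nat_lit 8], [nat_lit 1, nat_lit 3, nat_lit 5, nat_lit 0]) ::
  ([nat_lit 9, nat_lit 8], [nat_lit 0, nat_lit 1, nat_lit 5]) ::
  ([nat_lit 10, nat_lit 8], [nat_lit 1, nat_lit 2, nat_lit 0]) ::
  ([nat_lit 11, nat_lit 8], [nat_lit 0, nat_lit 1, nat_lit 4]) ::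
  ([nat_lit 8, nat_lit 9], [nat_lit 5, nat_lit 2, nat_lit 0, nat_lit 1]) ::
  ([nat_lit 11, nat_lit 9], [nat_lit 1, nat_lit 0]) ::
  ([nat_lit 8, nat_lit 10], [nat_lit 2, nat_lit 0, nat_lit 3]) ::
  ([nat_lit 11, nat_lit 10], [nat_lit 1, nat_lit 0]) ::
  ([nat_lit 8, nat_lit 11], [nat_lit 0, nat_lit 1, nat_lit 3]) ::
  ([nat_lit 5, nat_lit 4, nat_lit 5], [nat_lit 1, nat_lit 0]) ::
  ([nat_lit 6, nat_lit 4, nat_lit 5], [nat_lit 0, nat_lit 1, nat_lit 3]) ::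
  ([nat_lit 7, nat_lit 4, nat_lit 5], [nat_lit 4, nat_lit 0, nat_lit 1]) ::
  ([nat_lit 8, nat_lit 4, nat_lit 5], [nat_lit 5, nat_lit 0, nat_lit 1]) ::
  ([nat_lit 10, nat_lit 4, nat_lit 5], [nat_lit 3, nat_lit 0, nat_lit 1]) ::
  ([nat_lit 11, nat_lit 4, nat_lit 5], [nat_lit 0, nat_lit 0, nat_lit 2, nat_lit 3]) ::
  ([nat_lit 6, nat_lit 8, nat_lit 5], [nat_lit 3, nat_lit 0, nat_lit 0, nat_lit 2]) ::
  ([nat_lit 7, nat_lit 8, nat_lit 5], [nat_lit 5, nat_lit 1, nat_lit 0]) ::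
  ([nat_lit 8, nat_lit 8, nat_lit 5], [nat_lit 3, nat_lit 0, nat_lit 2]) ::
  ([nat_lit 9, nat_lit 8, nat_lit 5], [nat_lit 0, nat_lit 5, nat_lit 2, nat_lit 3]) ::
  ([nat_lit 10, nat_lit 8, nat_lit 5], [nat_lit 0, nat_lit 0, nat_lit 1, nat_lit 5]) ::
  ([nat_lit 11, nat_lit 8, nat_lit 5], [nat_lit 3, nat_lit 0, nat_lit 1]) ::
  ([nat_lit 11, nat_lit 11, nat_lit 5], [nat_lit 1, nat_lit 0, nat_lit 2, nat_lit 0]) ::
  ([nat_lit 7, nat_lit 4, nat_lit 6], [nat_lit 1, nat_lit 4, nat_lit 2, nat_lit 0]) ::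
  ([nat_lit 8, nat_lit 4, nat_lit 6], [nat_lit 0, nat_lit 3, nat_lit 1]) ::
  ([nat_lit 9, nat_lit 4, nat_lit 6], [nat_lit 0, nat_lit 4, nat_lit 1]) ::
  ([nat_lit 10, nat_lit 4, nat_lit 6], [nat_lit 0, nat_lit 4, nat_lit 1]) ::
  ([nat_lit 11, nat_lit 4, nat_lit 6], [nat_lit 0, nat_lit 5, nat_lit 1]) ::
  ([nat_lit 8, nat_lit 7, nat_lit 6], [nat_lit 1, nat_lit 0, nat_lit 2]) ::
  ([nat_lit 11, nat_lit 7, nat_lit 6], [nat_lit 3, nat_lit 2, nat_lit 0, nat_lit 1]) ::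
  ([nat_lit 6, nat_lit 8, nat_lit 6], [nat_lit 1, nat_lit 0]) ::
  ([nat_lit 7, nat_lit 8, nat_lit 6], [nat_lit 3, nat_lit 2, nat_lit 4, nat_lit 0]) ::
  ([nat_lit 8, nat_lit 8, nat_lit 6], [nat_lit 1, nat_lit 0]) ::
  ceW50
noncomputable def ceE850 : List (List ℕ × ℕ × List ℕ × ℕ) :=
  ([nat_lit 4], (nat_lit 222), [], (nat_lit 959595208)) ::
  ([nat_lit 4, nat_lit 4], (nat_lit 220), [], (nat_lit 960036563)) ::
  ([nat_lit 4, nat_lit 4], (nat_lit 288), [], (nat_lit 960284446)) ::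
  ([], (nat_lit 236), [], (nat_lit 961552326)) ::
  ([], (nat_lit 112), [], (nat_lit 961768165)) ::
  ([], (nat_lit 129), [], (nat_lit 961873503)) ::
  ([nat_lit 4, nat_lit 4], (nat_lit 49), [], (nat_lit 962164940)) ::
  ([nat_lit 4], (nat_lit 258), [], (nat_lit 962677376)) ::
  ([nat_lit 4], (nat_lit 170), [], (nat_lit 963657227)) ::
  ([], (nat_lit 57), [], (nat_lit 964925171)) ::
  ([nat_lit 4], (nat_lit 125), [], (nat_lit 968136231)) ::
  ([nat_lit 4, nat_lit 4], (nat_lit 190), [], (nat_lit 968375896)) ::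
  ([nat_lit 4, nat_lit 4], (nat_lit 75), [], (nat_lit 968673287)) ::
  ([nat_lit 4, nat_lit 4], (nat_lit 187), [], (nat_lit 969395496)) ::
  ([], (nat_lit 2), [], (nat_lit 969519054)) ::
  ([], (nat_lit 180), [], (nat_lit 971290107)) ::
  ([nat_lit 4, nat_lit 4], (nat_lit 224), [], (nat_lit 973180800)) ::
  ([], (nat_lit 181), [], (nat_lit 974505654)) ::
  ([], (nat_lit 183), [], (nat_lit 974762341)) ::
  ([], (nat_lit 214), [], (nat_lit 975163915)) ::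
  ([], (nat_lit 106), [], (nat_lit 975301987)) ::
  ([nat_lit 4, nat_lit 4], (nat_lit 185), [], (nat_lit 975970615)) ::
  ([nat_lit 4], (nat_lit 295), [], (nat_lit 976256017)) ::
  ([nat_lit 4, nat_lit 4], (nat_lit 109), [], (nat_lit 976550983)) ::
  ([nat_lit 4], (nat_lit 185), [], (nat_lit 976584128)) ::
  ([nat_lit 4], (nat_lit 60), [], (nat_lit 976602976)) ::
  ([nat_lit 4], (nat_lit 46), [], (nat_lit 979746178)) ::
  ([nat_lit 4], (nat_lit 11), [], (nat_lit 980062618)) ::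
  ([], (nat_lit 204), [], (nat_lit 980869556)) ::
  ([nat_lit 4, nat_lit 4], (nat_lit 20), [], (nat_lit 980890780)) ::
  ([nat_lit 4], (nat_lit 166), [], (nat_lit 982373070)) ::
  ([nat_lit 4, nat_lit 4], (nat_lit 11), [], (nat_lit 987861048)) ::
  ([], (nat_lit 155), [], (nat_lit 988535823)) ::
  ([nat_lit 4, nat_lit 4], (nat_lit 155), [], (nat_lit 988813336)) ::
  ([], (nat_lit 76), [], (nat_lit 988932407)) ::
  ([nat_lit 4, nat_lit 4], (nat_lit 21), [], (nat_lit 989504385)) ::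
  ([], (nat_lit 4), [], (nat_lit 990260699)) ::
  ([nat_lit 4], (nat_lit 251), [], (nat_lit 991273099)) ::
  ([], (nat_lit 162), [], (nat_lit 993156089)) ::
  ([nat_lit 4, nat_lit 4], (nat_lit 199), [], (nat_lit 994488820)) ::
  ([nat_lit 4, nat_lit 4], (nat_lit 66), [], (nat_lit 995047266)) ::
  ([nat_lit 4, nat_lit 4], (nat_lit 284), [], (nat_lit 995458221)) ::
  ([nat_lit 4], (nat_lit 8), [], (nat_lit 995637679)) ::
  ([], (nat_lit 41), [], (nat_lit 995801491)) ::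
  ([nat_lit 4], (nat_lit 249), [], (nat_lit 997361301)) ::
  ([nat_lit 4, nat_lit 4], (nat_lit 40), [], (nat_lit 999616661)) ::
  []
noncomputable def ceE800 : List (List ℕ × ℕ × List ℕ × ℕ) :=
  ([], (nat_lit 5), [], (nat_lit 902254308)) ::
  ([nat_lit 4, nat_lit 4], (nat_lit 84), [], (nat_lit 904412844)) ::
  ([nat_lit 4, nat_lit 4], (nat_lit 23), [], (nat_lit 910548819)) ::
  ([nat_lit 4], (nat_lit 96), [], (nat_lit 910640134)) ::
  ([nat_lit 4], (nat_lit 226), [], (nat_lit 910865625)) ::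
  ([nat_lit 4], (nat_lit 178), [], (nat_lit 913909437)) ::
  ([], (nat_lit 122), [], (nat_lit 914672656)) ::
  ([], (nat_lit 34), [], (nat_lit 915366542)) ::
  ([], (nat_lit 209), [], (nat_lit 915825692)) ::
  ([], (nat_lit 104), [], (nat_lit 915844389)) ::
  ([nat_lit 4, nat_lit 4], (nat_lit 278), [], (nat_lit 917933680)) ::
  ([nat_lit 4], (nat_lit 181), [], (nat_lit 919943589)) ::
  ([nat_lit 4], (nat_lit 58), [], (nat_lit 921242964)) ::
  ([nat_lit 4, nat_lit 4], (nat_lit 178), [], (nat_lit 922309398)) ::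
  ([nat_lit 4], (nat_lit 285), [], (nat_lit 922831262)) ::
  ([], (nat_lit 123), [], (nat_lit 923001509)) ::
  ([], (nat_lit 244), [], (nat_lit 923535905)) ::
  ([nat_lit 4, nat_lit 4], (nat_lit 246), [], (nat_lit 923665096)) ::
  ([nat_lit 4], (nat_lit 79), [], (nat_lit 924587820)) ::
  ([nat_lit 4], (nat_lit 215), [], (nat_lit 926017724)) ::
  ([nat_lit 4], (nat_lit 265), [], (nat_lit 926294007)) ::
  ([nat_lit 4, nat_lit 4], (nat_lit 229), [], (nat_lit 926313809)) ::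
  ([nat_lit 4], (nat_lit 297), [], (nat_lit 927179263)) ::
  ([nat_lit 4, nat_lit 4], (nat_lit 59), [], (nat_lit 927395500)) ::
  ([], (nat_lit 46), [], (nat_lit 928202689)) ::
  ([], (nat_lit 80), [], (nat_lit 928749649)) ::
  ([], (nat_lit 84), [], (nat_lit 928784708)) ::
  ([], (nat_lit 195), [], (nat_lit 929525691)) ::
  ([], (nat_lit 296), [], (nat_lit 929884682)) ::
  ([nat_lit 4], (nat_lit 218), [], (nat_lit 930518428)) ::
  ([], (nat_lit 211), [], (nat_lit 931000772)) ::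
  ([nat_lit 4], (nat_lit 198), [], (nat_lit 932466021)) ::
  ([], (nat_lit 222), [], (nat_lit 933465983)) ::
  ([nat_lit 4], (nat_lit 298), [], (nat_lit 934626443)) ::
  ([nat_lit 4], (nat_lit 234), [], (nat_lit 936454004)) ::
  ([nat_lit 4, nat_lit 4], (nat_lit 54), [], (nat_lit 937997132)) ::
  ([nat_lit 4], (nat_lit 288), [], (nat_lit 938268799)) ::
  ([nat_lit 4, nat_lit 4], (nat_lit 202), [], (nat_lit 941247940)) ::
  ([], (nat_lit 67), [], (nat_lit 941722129)) ::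
  ([], (nat_lit 161), [], (nat_lit 942115189)) ::
  ([], (nat_lit 247), [], (nat_lit 942807796)) ::
  ([], (nat_lit 197), [], (nat_lit 943593212)) ::
  ([], (nat_lit 289), [], (nat_lit 944060537)) ::
  ([nat_lit 4, nat_lit 4], (nat_lit 285), [], (nat_lit 948222548)) ::
  ([], (nat_lit 283), [], (nat_lit 948289232)) ::
  ([nat_lit 4], (nat_lit 219), [], (nat_lit 950021814)) ::
  ([nat_lit 4], (nat_lit 184), [], (nat_lit 951886623)) ::
  ([nat_lit 4], (nat_lit 207), [], (nat_lit 955948272)) ::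
  ([], (nat_lit 23), [], (nat_lit 958195914)) ::
  ([nat_lit 4], (nat_lit 34), [], (nat_lit 958459445)) ::
  ceE850
noncomputable def ceE750 : List (List ℕ × ℕ × List ℕ × ℕ) :=
  ([nat_lit 4], (nat_lit 15), [], (nat_lit 840180538)) ::
  ([nat_lit 4, nat_lit 4], (nat_lit 170), [], (nat_lit 840322662)) ::
  ([], (nat_lit 164), [], (nat_lit 842733247)) ::
  ([nat_lit 4], (nat_lit 135), [], (nat_lit 844858773)) ::
  ([nat_lit 4], (nat_lit 21), [], (nat_lit 845411181)) ::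
  ([], (nat_lit 286), [], (nat_lit 846917782)) ::
  ([], (nat_lit 224), [], (nat_lit 847843953)) ::
  ([nat_lit 4, nat_lit 4], (nat_lit 260), [], (nat_lit 848656845)) ::
  ([nat_lit 4], (nat_lit 85), [], (nat_lit 853668824)) ::
  ([nat_lit 4], (nat_lit 2), [], (nat_lit 856577666)) ::
  ([nat_lit 4], (nat_lit 177), [], (nat_lit 856993765)) ::
  ([nat_lit 4, nat_lit 4], (nat_lit 227), [], (nat_lit 857444984)) ::
  ([], (nat_lit 89), [], (nat_lit 859302201)) ::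
  ([nat_lit 4], (nat_lit 123), [], (nat_lit 859923795)) ::
  ([nat_lit 4, nat_lit 4], (nat_lit 226), [], (nat_lit 861057078)) ::
  ([], (nat_lit 284), [], (nat_lit 861645240)) ::
  ([nat_lit 4], (nat_lit 217), [], (nat_lit 864351177)) ::
  ([nat_lit 4], (nat_lit 149), [], (nat_lit 867239905)) ::
  ([], (nat_lit 47), [], (nat_lit 867497693)) ::
  ([nat_lit 4], (nat_lit 138), [], (nat_lit 868511757)) ::
  ([nat_lit 4], (nat_lit 90), [], (nat_lit 868838480)) ::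
  ([nat_lit 4, nat_lit 4], (nat_lit 104), [], (nat_lit 869628666)) ::
  ([nat_lit 4], (nat_lit 264), [], (nat_lit 870942243)) ::
  ([], (nat_lit 227), [], (nat_lit 872345238)) ::
  ([nat_lit 4, nat_lit 4], (nat_lit 197), [], (nat_lit 874346312)) ::
  ([], (nat_lit 59), [], (nat_lit 875758336)) ::
  ([nat_lit 4, nat_lit 4], (nat_lit 47), [], (nat_lit 876886999)) ::
  ([], (nat_lit 257), [], (nat_lit 879131161)) ::
  ([nat_lit 4, nat_lit 4], (nat_lit 164), [], (nat_lit 879373241)) ::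
  ([nat_lit 4, nat_lit 4], (nat_lit 287), [], (nat_lit 879805897)) ::
  ([nat_lit 4, nat_lit 4], (nat_lit 71), [], (nat_lit 881432976)) ::
  ([], (nat_lit 149), [], (nat_lit 881625750)) ::
  ([nat_lit 4, nat_lit 4], (nat_lit 146), [], (nat_lit 882540062)) ::
  ([nat_lit 4], (nat_lit 169), [], (nat_lit 883934303)) ::
  ([nat_lit 4], (nat_lit 114), [], (nat_lit 886094658)) ::
  ([], (nat_lit 142), [], (nat_lit 886991385)) ::
  ([], (nat_lit 72), [], (nat_lit 887028030)) ::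
  ([nat_lit 4, nat_lit 4], (nat_lit 140), [], (nat_lit 887318523)) ::
  ([], (nat_lit 14), [], (nat_lit 888338546)) ::
  ([nat_lit 4], (nat_lit 76), [], (nat_lit 888421118)) ::
  ([], (nat_lit 287), [], (nat_lit 889040420)) ::
  ([], (nat_lit 254), [], (nat_lit 891068104)) ::
  ([nat_lit 4, nat_lit 4], (nat_lit 38), [], (nat_lit 891725161)) ::
  ([], (nat_lit 141), [], (nat_lit 893404609)) ::
  ([], (nat_lit 193), [], (nat_lit 893889800)) ::
  ([nat_lit 4], (nat_lit 162), [], (nat_lit 895352414)) ::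
  ([nat_lit 4, nat_lit 4], (nat_lit 90), [], (nat_lit 896067533)) ::
  ([], (nat_lit 188), [], (nat_lit 896117121)) ::
  ([nat_lit 4, nat_lit 4], (nat_lit 72), [], (nat_lit 896656057)) ::
  ([], (nat_lit 96), [], (nat_lit 900389572)) ::
  ceE800
noncomputable def ceE700 : List (List ℕ × ℕ × List ℕ × ℕ) :=
  ([], (nat_lit 252), [], (nat_lit 780607528)) ::
  ([], (nat_lit 179), [], (nat_lit 780893859)) ::
  ([], (nat_lit 191), [], (nat_lit 781377114)) ::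
  ([], (nat_lit 147), [], (nat_lit 781450644)) ::
  ([nat_lit 4, nat_lit 4], (nat_lit 107), [], (nat_lit 784346429)) ::
  ([nat_lit 4, nat_lit 4], (nat_lit 95), [], (nat_lit 785079398)) ::
  ([], (nat_lit 249), [], (nat_lit 788185341)) ::
  ([nat_lit 4], (nat_lit 194), [], (nat_lit 788978750)) ::
  ([nat_lit 4, nat_lit 4], (nat_lit 186), [], (nat_lit 789956853)) ::
  ([], (nat_lit 212), [], (nat_lit 790088972)) ::
  ([nat_lit 4, nat_lit 4], (nat_lit 7), [], (nat_lit 790818028)) ::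
  ([nat_lit 4, nat_lit 4], (nat_lit 137), [], (nat_lit 791916658)) ::
  ([nat_lit 4, nat_lit 4], (nat_lit 165), [], (nat_lit 792394094)) ::
  ([], (nat_lit 136), [], (nat_lit 792658495)) ::
  ([nat_lit 4], (nat_lit 116), [], (nat_lit 793088777)) ::
  ([nat_lit 4], (nat_lit 262), [], (nat_lit 794650377)) ::
  ([], (nat_lit 170), [], (nat_lit 796627272)) ::
  ([nat_lit 4, nat_lit 4], (nat_lit 298), [], (nat_lit 796938720)) ::
  ([nat_lit 4, nat_lit 4], (nat_lit 74), [], (nat_lit 800429383)) ::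
  ([], (nat_lit 273), [], (nat_lit 800999287)) ::
  ([nat_lit 4], (nat_lit 105), [], (nat_lit 801078513)) ::
  ([nat_lit 4, nat_lit 4], (nat_lit 89), [], (nat_lit 803674180)) ::
  ([nat_lit 4], (nat_lit 30), [], (nat_lit 806571332)) ::
  ([], (nat_lit 178), [], (nat_lit 810392158)) ::
  ([nat_lit 4, nat_lit 4], (nat_lit 201), [], (nat_lit 813694249)) ::
  ([], (nat_lit 49), [], (nat_lit 814020327)) ::
  ([nat_lit 4, nat_lit 4], (nat_lit 98), [], (nat_lit 814117002)) ::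
  ([nat_lit 4], (nat_lit 214), [], (nat_lit 814977267)) ::
  ([], (nat_lit 226), [], (nat_lit 815494821)) ::
  ([nat_lit 4], (nat_lit 67), [], (nat_lit 816661013)) ::
  ([nat_lit 4, nat_lit 4], (nat_lit 271), [], (nat_lit 817077426)) ::
  ([nat_lit 4], (nat_lit 121), [], (nat_lit 818249664)) ::
  ([nat_lit 4], (nat_lit 78), [], (nat_lit 820567521)) ::
  ([nat_lit 4], (nat_lit 41), [], (nat_lit 821723501)) ::
  ([], (nat_lit 86), [], (nat_lit 822147711)) ::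
  ([nat_lit 4], (nat_lit 32), [], (nat_lit 822799108)) ::
  ([nat_lit 4, nat_lit 4], (nat_lit 143), [], (nat_lit 823948128)) ::
  ([nat_lit 4, nat_lit 4], (nat_lit 273), [], (nat_lit 824042132)) ::
  ([nat_lit 4], (nat_lit 109), [], (nat_lit 824148692)) ::
  ([nat_lit 4, nat_lit 4], (nat_lit 261), [], (nat_lit 827082620)) ::
  ([], (nat_lit 221), [], (nat_lit 828679360)) ::
  ([nat_lit 4], (nat_lit 300), [], (nat_lit 829738147)) ::
  ([nat_lit 4, nat_lit 4], (nat_lit 247), [], (nat_lit 830340171)) ::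
  ([nat_lit 4], (nat_lit 101), [], (nat_lit 831524840)) ::
  ([nat_lit 4, nat_lit 4], (nat_lit 130), [], (nat_lit 833256519)) ::
  ([], (nat_lit 270), [], (nat_lit 834601549)) ::
  ([nat_lit 4], (nat_lit 221), [], (nat_lit 835935224)) ::
  ([nat_lit 4, nat_lit 4], (nat_lit 29), [], (nat_lit 836731412)) ::
  ([nat_lit 4, nat_lit 4], (nat_lit 228), [], (nat_lit 837609336)) ::
  ([nat_lit 4, nat_lit 4], (nat_lit 188), [], (nat_lit 838748701)) ::
  ceE750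
noncomputable def ceE650 : List (List ℕ × ℕ × List ℕ × ℕ) :=
  ([nat_lit 4], (nat_lit 294), [], (nat_lit 729160048)) ::
  ([nat_lit 4], (nat_lit 49), [], (nat_lit 729589602)) ::
  ([], (nat_lit 56), [], (nat_lit 729675922)) ::
  ([nat_lit 4, nat_lit 4], (nat_lit 36), [], (nat_lit 730210563)) ::
  ([nat_lit 4, nat_lit 4], (nat_lit 41), [], (nat_lit 730259013)) ::
  ([nat_lit 4, nat_lit 4], (nat_lit 235), [], (nat_lit 730588760)) ::
  ([], (nat_lit 160), [], (nat_lit 730669630)) ::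
  ([nat_lit 4], (nat_lit 9), [], (nat_lit 731903849)) ::
  ([], (nat_lit 206), [], (nat_lit 733765209)) ::
  ([], (nat_lit 272), [], (nat_lit 737270233)) ::
  ([nat_lit 4], (nat_lit 103), [], (nat_lit 737650943)) ::
  ([nat_lit 4], (nat_lit 196), [], (nat_lit 738154772)) ::
  ([nat_lit 4, nat_lit 4], (nat_lit 258), [], (nat_lit 738355242)) ::
  ([], (nat_lit 102), [], (nat_lit 738889227)) ::
  ([nat_lit 4, nat_lit 4], (nat_lit 30), [], (nat_lit 740042907)) ::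
  ([], (nat_lit 189), [], (nat_lit 743164479)) ::
  ([nat_lit 4, nat_lit 4], (nat_lit 108), [], (nat_lit 743185788)) ::
  ([nat_lit 4, nat_lit 4], (nat_lit 119), [], (nat_lit 743622140)) ::
  ([], (nat_lit 259), [], (nat_lit 745374927)) ::
  ([], (nat_lit 17), [], (nat_lit 746745417)) ::
  ([], (nat_lit 118), [], (nat_lit 747789084)) ::
  ([nat_lit 4], (nat_lit 87), [], (nat_lit 748133540)) ::
  ([], (nat_lit 291), [], (nat_lit 751637416)) ::
  ([nat_lit 4], (nat_lit 19), [], (nat_lit 754962963)) ::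
  ([nat_lit 4, nat_lit 4], (nat_lit 34), [], (nat_lit 757990463)) ::
  ([nat_lit 4, nat_lit 4], (nat_lit 189), [], (nat_lit 758318332)) ::
  ([nat_lit 4, nat_lit 4], (nat_lit 175), [], (nat_lit 758984116)) ::
  ([], (nat_lit 158), [], (nat_lit 760367331)) ::
  ([nat_lit 4, nat_lit 4], (nat_lit 86), [], (nat_lit 762506738)) ::
  ([], (nat_lit 210), [], (nat_lit 762552857)) ::
  ([], (nat_lit 119), [], (nat_lit 762897360)) ::
  ([nat_lit 4, nat_lit 4], (nat_lit 267), [], (nat_lit 763646287)) ::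
  ([nat_lit 4], (nat_lit 97), [], (nat_lit 765892930)) ::
  ([nat_lit 4], (nat_lit 13), [], (nat_lit 766441617)) ::
  ([nat_lit 4, nat_lit 4], (nat_lit 183), [], (nat_lit 766523338)) ::
  ([], (nat_lit 292), [], (nat_lit 766619659)) ::
  ([nat_lit 4, nat_lit 4], (nat_lit 18), [], (nat_lit 766662618)) ::
  ([nat_lit 4], (nat_lit 290), [], (nat_lit 769675478)) ::
  ([], (nat_lit 91), [], (nat_lit 770125917)) ::
  ([nat_lit 4], (nat_lit 244), [], (nat_lit 771287861)) ::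
  ([nat_lit 4, nat_lit 4], (nat_lit 237), [], (nat_lit 771899171)) ::
  ([], (nat_lit 168), [], (nat_lit 773630836)) ::
  ([nat_lit 4, nat_lit 4], (nat_lit 51), [], (nat_lit 775195054)) ::
  ([nat_lit 4, nat_lit 4], (nat_lit 70), [], (nat_lit 775639301)) ::
  ([nat_lit 4, nat_lit 4], (nat_lit 85), [], (nat_lit 776057165)) ::
  ([nat_lit 4], (nat_lit 98), [], (nat_lit 776068630)) ::
  ([nat_lit 4], (nat_lit 33), [], (nat_lit 777127316)) ::
  ([nat_lit 4, nat_lit 4], (nat_lit 162), [], (nat_lit 778693546)) ::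
  ([nat_lit 4, nat_lit 4], (nat_lit 279), [], (nat_lit 778981590)) ::
  ([nat_lit 4], (nat_lit 191), [], (nat_lit 780242475)) ::
  ceE700
noncomputable def ceE600 : List (List ℕ × ℕ × List ℕ × ℕ) :=
  ([nat_lit 4], (nat_lit 51), [], (nat_lit 673794264)) ::
  ([nat_lit 4, nat_lit 4], (nat_lit 151), [], (nat_lit 674820535)) ::
  ([nat_lit 4], (nat_lit 246), [], (nat_lit 675756568)) ::
  ([], (nat_lit 276), [], (nat_lit 677921612)) ::
  ([nat_lit 4], (nat_lit 23), [], (nat_lit 677952503)) ::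
  ([nat_lit 4], (nat_lit 296), [], (nat_lit 678239104)) ::
  ([nat_lit 4], (nat_lit 20), [], (nat_lit 681641474)) ::
  ([nat_lit 4], (nat_lit 267), [], (nat_lit 683362656)) ::
  ([nat_lit 4], (nat_lit 136), [], (nat_lit 684580686)) ::
  ([nat_lit 4], (nat_lit 277), [], (nat_lit 687093855)) ::
  ([nat_lit 4, nat_lit 4], (nat_lit 208), [], (nat_lit 687162854)) ::
  ([nat_lit 4], (nat_lit 14), [], (nat_lit 687327734)) ::
  ([nat_lit 4, nat_lit 4], (nat_lit 281), [], (nat_lit 688509561)) ::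
  ([nat_lit 4, nat_lit 4], (nat_lit 65), [], (nat_lit 688820438)) ::
  ([nat_lit 4], (nat_lit 102), [], (nat_lit 689438775)) ::
  ([], (nat_lit 54), [], (nat_lit 691543811)) ::
  ([], (nat_lit 33), [], (nat_lit 692740270)) ::
  ([], (nat_lit 215), [], (nat_lit 693158146)) ::
  ([], (nat_lit 174), [], (nat_lit 694528606)) ::
  ([nat_lit 4], (nat_lit 275), [], (nat_lit 696824349)) ::
  ([], (nat_lit 38), [], (nat_lit 697795981)) ::
  ([nat_lit 4], (nat_lit 212), [], (nat_lit 699816024)) ::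
  ([nat_lit 4], (nat_lit 73), [], (nat_lit 700617508)) ::
  ([nat_lit 4], (nat_lit 104), [], (nat_lit 702217420)) ::
  ([], (nat_lit 151), [], (nat_lit 702588147)) ::
  ([nat_lit 4, nat_lit 4], (nat_lit 3), [], (nat_lit 702959179)) ::
  ([nat_lit 4], (nat_lit 253), [], (nat_lit 703121417)) ::
  ([], (nat_lit 73), [], (nat_lit 705989132)) ::
  ([], (nat_lit 117), [], (nat_lit 708768027)) ::
  ([nat_lit 4, nat_lit 4], (nat_lit 174), [], (nat_lit 709524005)) ::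
  ([nat_lit 4, nat_lit 4], (nat_lit 94), [], (nat_lit 710102782)) ::
  ([nat_lit 4, nat_lit 4], (nat_lit 32), [], (nat_lit 711399382)) ::
  ([nat_lit 4, nat_lit 4], (nat_lit 27), [], (nat_lit 711456506)) ::
  ([nat_lit 4], (nat_lit 63), [], (nat_lit 711819988)) ::
  ([nat_lit 4], (nat_lit 56), [], (nat_lit 712016885)) ::
  ([], (nat_lit 90), [], (nat_lit 712288426)) ::
  ([nat_lit 4], (nat_lit 157), [], (nat_lit 713262445)) ::
  ([nat_lit 4, nat_lit 4], (nat_lit 295), [], (nat_lit 715033900)) ::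
  ([], (nat_lit 35), [], (nat_lit 717557518)) ::
  ([nat_lit 4, nat_lit 4], (nat_lit 127), [], (nat_lit 718103329)) ::
  ([], (nat_lit 43), [], (nat_lit 718197616)) ::
  ([], (nat_lit 246), [], (nat_lit 719999897)) ::
  ([nat_lit 4], (nat_lit 183), [], (nat_lit 722827199)) ::
  ([], (nat_lit 235), [], (nat_lit 723901663)) ::
  ([], (nat_lit 126), [], (nat_lit 724146617)) ::
  ([], (nat_lit 77), [], (nat_lit 725162857)) ::
  ([nat_lit 4], (nat_lit 137), [], (nat_lit 727773024)) ::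
  ([nat_lit 4], (nat_lit 248), [], (nat_lit 727846379)) ::
  ([], (nat_lit 3), [], (nat_lit 728064765)) ::
  ([nat_lit 4, nat_lit 4], (nat_lit 9), [], (nat_lit 728393444)) ::
  ceE650
noncomputable def ceE550 : List (List ℕ × ℕ × List ℕ × ℕ) :=
  ([nat_lit 4], (nat_lit 274), [], (nat_lit 612207627)) ::
  ([], (nat_lit 94), [], (nat_lit 612455454)) ::
  ([nat_lit 4], (nat_lit 228), [], (nat_lit 614783519)) ::
  ([], (nat_lit 75), [], (nat_lit 615945095)) ::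
  ([nat_lit 4, nat_lit 4], (nat_lit 236), [], (nat_lit 617830475)) ::
  ([nat_lit 4, nat_lit 4], (nat_lit 124), [], (nat_lit 617980975)) ::
  ([nat_lit 4], (nat_lit 235), [], (nat_lit 619001646)) ::
  ([], (nat_lit 300), [], (nat_lit 619043733)) ::
  ([nat_lit 4, nat_lit 4], (nat_lit 106), [], (nat_lit 620380995)) ::
  ([nat_lit 4, nat_lit 4], (nat_lit 117), [], (nat_lit 623178548)) ::
  ([nat_lit 4, nat_lit 4], (nat_lit 157), [], (nat_lit 623580390)) ::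
  ([nat_lit 4], (nat_lit 211), [], (nat_lit 624302096)) ::
  ([], (nat_lit 7), [], (nat_lit 624337514)) ::
  ([nat_lit 4], (nat_lit 118), [], (nat_lit 626214593)) ::
  ([nat_lit 4, nat_lit 4], (nat_lit 61), [], (nat_lit 626324165)) ::
  ([nat_lit 4], (nat_lit 6), [], (nat_lit 627005146)) ::
  ([nat_lit 4], (nat_lit 190), [], (nat_lit 627613795)) ::
  ([nat_lit 4], (nat_lit 39), [], (nat_lit 628272691)) ::
  ([nat_lit 4, nat_lit 4], (nat_lit 274), [], (nat_lit 629190644)) ::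
  ([nat_lit 4, nat_lit 4], (nat_lit 241), [], (nat_lit 629657015)) ::
  ([nat_lit 4, nat_lit 4], (nat_lit 158), [], (nat_lit 634381525)) ::
  ([nat_lit 4], (nat_lit 134), [], (nat_lit 635894284)) ::
  ([], (nat_lit 166), [], (nat_lit 640056284)) ::
  ([nat_lit 4, nat_lit 4], (nat_lit 111), [], (nat_lit 641205581)) ::
  ([nat_lit 4, nat_lit 4], (nat_lit 115), [], (nat_lit 642519091)) ::
  ([nat_lit 4, nat_lit 4], (nat_lit 103), [], (nat_lit 642870907)) ::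
  ([nat_lit 4], (nat_lit 257), [], (nat_lit 644279617)) ::
  ([], (nat_lit 295), [], (nat_lit 646593233)) ::
  ([nat_lit 4], (nat_lit 286), [], (nat_lit 647104437)) ::
  ([nat_lit 4], (nat_lit 158), [], (nat_lit 648490062)) ::
  ([nat_lit 4], (nat_lit 188), [], (nat_lit 651038733)) ::
  ([nat_lit 4], (nat_lit 47), [], (nat_lit 651242078)) ::
  ([nat_lit 4, nat_lit 4], (nat_lit 116), [], (nat_lit 655397702)) ::
  ([nat_lit 4, nat_lit 4], (nat_lit 300), [], (nat_lit 657037957)) ::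
  ([nat_lit 4], (nat_lit 155), [], (nat_lit 659760209)) ::
  ([nat_lit 4], (nat_lit 69), [], (nat_lit 659880494)) ::
  ([nat_lit 4, nat_lit 4], (nat_lit 4), [], (nat_lit 659994502)) ::
  ([nat_lit 4], (nat_lit 5), [], (nat_lit 660374727)) ::
  ([nat_lit 4], (nat_lit 91), [], (nat_lit 660616170)) ::
  ([nat_lit 4, nat_lit 4], (nat_lit 191), [], (nat_lit 660664455)) ::
  ([nat_lit 4], (nat_lit 54), [], (nat_lit 662284255)) ::
  ([], (nat_lit 132), [], (nat_lit 663955126)) ::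
  ([nat_lit 4, nat_lit 4], (nat_lit 195), [], (nat_lit 664420226)) ::
  ([nat_lit 4, nat_lit 4], (nat_lit 148), [], (nat_lit 666891466)) ::
  ([nat_lit 4], (nat_lit 202), [], (nat_lit 668772764)) ::
  ([], (nat_lit 198), [], (nat_lit 669992170)) ::
  ([nat_lit 4], (nat_lit 189), [], (nat_lit 670128182)) ::
  ([], (nat_lit 223), [], (nat_lit 670694417)) ::
  ([nat_lit 4], (nat_lit 50), [], (nat_lit 670855298)) ::
  ([], (nat_lit 274), [], (nat_lit 672261233)) ::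
  ceE600
noncomputable def ceE500 : List (List ℕ × ℕ × List ℕ × ℕ) :=
  ([nat_lit 4, nat_lit 4], (nat_lit 52), [], (nat_lit 558098381)) ::
  ([nat_lit 4], (nat_lit 71), [], (nat_lit 558384253)) ::
  ([nat_lit 4], (nat_lit 176), [], (nat_lit 559936513)) ::
  ([nat_lit 4], (nat_lit 3), [], (nat_lit 560777180)) ::
  ([nat_lit 4, nat_lit 4], (nat_lit 83), [], (nat_lit 560978656)) ::
  ([nat_lit 4, nat_lit 4], (nat_lit 280), [], (nat_lit 561276852)) ::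
  ([nat_lit 4], (nat_lit 229), [], (nat_lit 561992098)) ::
  ([], (nat_lit 251), [], (nat_lit 564431065)) ::
  ([], (nat_lit 70), [], (nat_lit 564575071)) ::
  ([], (nat_lit 269), [], (nat_lit 564971073)) ::
  ([nat_lit 4], (nat_lit 107), [], (nat_lit 566021471)) ::
  ([nat_lit 4, nat_lit 4], (nat_lit 156), [], (nat_lit 566202105)) ::
  ([nat_lit 4], (nat_lit 45), [], (nat_lit 567696917)) ::
  ([nat_lit 4, nat_lit 4], (nat_lit 96), [], (nat_lit 568575197)) ::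
  ([], (nat_lit 51), [], (nat_lit 571419969)) ::
  ([nat_lit 4], (nat_lit 299), [], (nat_lit 571848956)) ::
  ([nat_lit 4], (nat_lit 133), [], (nat_lit 572412261)) ::
  ([nat_lit 4], (nat_lit 132), [], (nat_lit 573168796)) ::
  ([nat_lit 4, nat_lit 4], (nat_lit 114), [], (nat_lit 574276393)) ::
  ([nat_lit 4], (nat_lit 174), [], (nat_lit 574842746)) ::
  ([], (nat_lit 229), [], (nat_lit 576438392)) ::
  ([nat_lit 4], (nat_lit 238), [], (nat_lit 576926806)) ::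
  ([], (nat_lit 125), [], (nat_lit 577050840)) ::
  ([], (nat_lit 30), [], (nat_lit 578561200)) ::
  ([], (nat_lit 218), [], (nat_lit 579961359)) ::
  ([nat_lit 4], (nat_lit 70), [], (nat_lit 583874505)) ::
  ([nat_lit 4], (nat_lit 148), [], (nat_lit 585334956)) ::
  ([], (nat_lit 92), [], (nat_lit 586276138)) ::
  ([], (nat_lit 135), [], (nat_lit 587523849)) ::
  ([nat_lit 4, nat_lit 4], (nat_lit 181), [], (nat_lit 591073962)) ::
  ([nat_lit 4], (nat_lit 44), [], (nat_lit 591297984)) ::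
  ([nat_lit 4, nat_lit 4], (nat_lit 263), [], (nat_lit 593321730)) ::
  ([], (nat_lit 37), [], (nat_lit 594934346)) ::
  ([nat_lit 4, nat_lit 4], (nat_lit 209), [], (nat_lit 597639088)) ::
  ([], (nat_lit 101), [], (nat_lit 598567032)) ::
  ([nat_lit 4, nat_lit 4], (nat_lit 152), [], (nat_lit 598628473)) ::
  ([nat_lit 4], (nat_lit 173), [], (nat_lit 598780828)) ::
  ([nat_lit 4], (nat_lit 231), [], (nat_lit 600051786)) ::
  ([nat_lit 4, nat_lit 4], (nat_lit 270), [], (nat_lit 600215499)) ::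
  ([], (nat_lit 15), [], (nat_lit 601058710)) ::
  ([nat_lit 4, nat_lit 4], (nat_lit 13), [], (nat_lit 601169383)) ::
  ([], (nat_lit 120), [], (nat_lit 601385509)) ::
  ([nat_lit 4], (nat_lit 17), [], (nat_lit 601980705)) ::
  ([nat_lit 4], (nat_lit 276), [], (nat_lit 603033264)) ::
  ([], (nat_lit 71), [], (nat_lit 604387921)) ::
  ([nat_lit 4], (nat_lit 280), [], (nat_lit 605922905)) ::
  ([nat_lit 4, nat_lit 4], (nat_lit 257), [], (nat_lit 608923422)) ::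
  ([nat_lit 4, nat_lit 4], (nat_lit 55), [], (nat_lit 609020141)) ::
  ([], (nat_lit 243), [], (nat_lit 610898832)) ::
  ([nat_lit 4, nat_lit 4], (nat_lit 302), [], (nat_lit 610977603)) ::
  ceE550
noncomputable def ceE450 : List (List ℕ × ℕ × List ℕ × ℕ) :=
  ([nat_lit 4], (nat_lit 252), [], (nat_lit 505586448)) ::
  ([], (nat_lit 299), [], (nat_lit 505925833)) ::
  ([nat_lit 4, nat_lit 4], (nat_lit 204), [], (nat_lit 507776314)) ::
  ([nat_lit 4, nat_lit 4], (nat_lit 142), [], (nat_lit 508234475)) ::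
  ([], (nat_lit 32), [], (nat_lit 509348318)) ::
  ([nat_lit 4], (nat_lit 287), [], (nat_lit 509370758)) ::
  ([nat_lit 4, nat_lit 4], (nat_lit 163), [], (nat_lit 509712272)) ::
  ([], (nat_lit 145), [], (nat_lit 510652621)) ::
  ([nat_lit 4, nat_lit 4], (nat_lit 22), [], (nat_lit 512374755)) ::
  ([], (nat_lit 105), [], (nat_lit 512586516)) ::
  ([], (nat_lit 110), [], (nat_lit 513751497)) ::
  ([nat_lit 4], (nat_lit 83), [], (nat_lit 514068839)) ::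
  ([], (nat_lit 78), [], (nat_lit 515091443)) ::
  ([nat_lit 4], (nat_lit 1), [], (nat_lit 515390506)) ::
  ([nat_lit 4, nat_lit 4], (nat_lit 275), [], (nat_lit 515584857)) ::
  ([nat_lit 4], (nat_lit 227), [], (nat_lit 516700273)) ::
  ([nat_lit 4], (nat_lit 236), [], (nat_lit 518296904)) ::
  ([nat_lit 4], (nat_lit 89), [], (nat_lit 518617082)) ::
  ([nat_lit 4, nat_lit 4], (nat_lit 290), [], (nat_lit 519601959)) ::
  ([nat_lit 4, nat_lit 4], (nat_lit 239), [], (nat_lit 521636896)) ::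
  ([], (nat_lit 64), [], (nat_lit 524209136)) ::
  ([], (nat_lit 267), [], (nat_lit 528688138)) ::
  ([nat_lit 4], (nat_lit 268), [], (nat_lit 528728672)) ::
  ([], (nat_lit 230), [], (nat_lit 529516671)) ::
  ([], (nat_lit 20), [], (nat_lit 529971253)) ::
  ([], (nat_lit 62), [], (nat_lit 530609904)) ::
  ([nat_lit 4, nat_lit 4], (nat_lit 5), [], (nat_lit 531520531)) ::
  ([nat_lit 4], (nat_lit 216), [], (nat_lit 533304888)) ::
  ([nat_lit 4, nat_lit 4], (nat_lit 68), [], (nat_lit 534303773)) ::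
  ([nat_lit 4], (nat_lit 250), [], (nat_lit 534589660)) ::
  ([nat_lit 4], (nat_lit 270), [], (nat_lit 539769256)) ::
  ([nat_lit 4, nat_lit 4], (nat_lit 211), [], (nat_lit 540652394)) ::
  ([], (nat_lit 213), [], (nat_lit 540707970)) ::
  ([], (nat_lit 26), [], (nat_lit 541012138)) ::
  ([nat_lit 4], (nat_lit 80), [], (nat_lit 541325354)) ::
  ([nat_lit 4, nat_lit 4], (nat_lit 122), [], (nat_lit 543718165)) ::
  ([nat_lit 4], (nat_lit 35), [], (nat_lit 543875307)) ::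
  ([], (nat_lit 115), [], (nat_lit 544992744)) ::
  ([nat_lit 4], (nat_lit 241), [], (nat_lit 545538077)) ::
  ([nat_lit 4, nat_lit 4], (nat_lit 222), [], (nat_lit 546770806)) ::
  ([nat_lit 4], (nat_lit 293), [], (nat_lit 548913339)) ::
  ([nat_lit 4], (nat_lit 284), [], (nat_lit 549045667)) ::
  ([nat_lit 4, nat_lit 4], (nat_lit 56), [], (nat_lit 550531093)) ::
  ([nat_lit 4, nat_lit 4], (nat_lit 99), [], (nat_lit 551154078)) ::
  ([], (nat_lit 253), [], (nat_lit 553113004)) ::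
  ([nat_lit 4, nat_lit 4], (nat_lit 17), [], (nat_lit 553483713)) ::
  ([], (nat_lit 190), [], (nat_lit 554317010)) ::
  ([], (nat_lit 173), [], (nat_lit 554490042)) ::
  ([], (nat_lit 281), [], (nat_lit 554518943)) ::
  ([], (nat_lit 163), [], (nat_lit 555273988)) ::
  ceE500
noncomputable def ceE400 : List (List ℕ × ℕ × List ℕ × ℕ) :=
  ([nat_lit 4], (nat_lit 147), [], (nat_lit 440951562)) ::
  ([], (nat_lit 95), [], (nat_lit 442759374)) ::
  ([nat_lit 4], (nat_lit 164), [], (nat_lit 443419003)) ::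
  ([], (nat_lit 124), [], (nat_lit 445265013)) ::
  ([nat_lit 4], (nat_lit 232), [], (nat_lit 448456830)) ::
  ([], (nat_lit 103), [], (nat_lit 450190047)) ::
  ([nat_lit 4, nat_lit 4], (nat_lit 248), [], (nat_lit 451567115)) ::
  ([nat_lit 4, nat_lit 4], (nat_lit 168), [], (nat_lit 451821706)) ::
  ([nat_lit 4, nat_lit 4], (nat_lit 167), [], (nat_lit 452516891)) ::
  ([nat_lit 4], (nat_lit 22), [], (nat_lit 453045695)) ::
  ([], (nat_lit 242), [], (nat_lit 455283553)) ::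
  ([], (nat_lit 44), [], (nat_lit 456918955)) ::
  ([], (nat_lit 205), [], (nat_lit 457971843)) ::
  ([nat_lit 4, nat_lit 4], (nat_lit 45), [], (nat_lit 458718892)) ::
  ([nat_lit 4], (nat_lit 192), [], (nat_lit 459142005)) ::
  ([], (nat_lit 11), [], (nat_lit 459247549)) ::
  ([nat_lit 4], (nat_lit 273), [], (nat_lit 460374757)) ::
  ([nat_lit 4, nat_lit 4], (nat_lit 213), [], (nat_lit 461731953)) ::
  ([nat_lit 4], (nat_lit 95), [], (nat_lit 462161615)) ::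
  ([nat_lit 4, nat_lit 4], (nat_lit 82), [], (nat_lit 462332880)) ::
  ([], (nat_lit 216), [], (nat_lit 462371725)) ::
  ([nat_lit 4, nat_lit 4], (nat_lit 216), [], (nat_lit 464313574)) ::
  ([], (nat_lit 278), [], (nat_lit 468646781)) ::
  ([], (nat_lit 280), [], (nat_lit 468854495)) ::
  ([nat_lit 4, nat_lit 4], (nat_lit 136), [], (nat_lit 469041263)) ::
  ([], (nat_lit 25), [], (nat_lit 469407311)) ::
  ([], (nat_lit 65), [], (nat_lit 471594263)) ::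
  ([], (nat_lit 186), [], (nat_lit 473195043)) ::
  ([nat_lit 4], (nat_lit 99), [], (nat_lit 473684802)) ::
  ([], (nat_lit 13), [], (nat_lit 474592369)) ::
  ([nat_lit 4, nat_lit 4], (nat_lit 292), [], (nat_lit 475657468)) ::
  ([nat_lit 4, nat_lit 4], (nat_lit 252), [], (nat_lit 475797314)) ::
  ([nat_lit 4], (nat_lit 26), [], (nat_lit 476986133)) ::
  ([], (nat_lit 81), [], (nat_lit 477772326)) ::
  ([nat_lit 4, nat_lit 4], (nat_lit 33), [], (nat_lit 479714146)) ::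
  ([], (nat_lit 225), [], (nat_lit 480901368)) ::
  ([nat_lit 4, nat_lit 4], (nat_lit 97), [], (nat_lit 482051462)) ::
  ([nat_lit 4, nat_lit 4], (nat_lit 50), [], (nat_lit 483744159)) ::
  ([nat_lit 4], (nat_lit 261), [], (nat_lit 486990286)) ::
  ([], (nat_lit 258), [], (nat_lit 494544053)) ::
  ([nat_lit 4], (nat_lit 230), [], (nat_lit 494627409)) ::
  ([], (nat_lit 144), [], (nat_lit 494697320)) ::
  ([], (nat_lit 58), [], (nat_lit 494808344)) ::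
  ([nat_lit 4, nat_lit 4], (nat_lit 144), [], (nat_lit 495130681)) ::
  ([nat_lit 4, nat_lit 4], (nat_lit 262), [], (nat_lit 495306375)) ::
  ([nat_lit 4, nat_lit 4], (nat_lit 93), [], (nat_lit 498134881)) ::
  ([], (nat_lit 134), [], (nat_lit 498609060)) ::
  ([], (nat_lit 277), [], (nat_lit 501759634)) ::
  ([nat_lit 4], (nat_lit 64), [], (nat_lit 502690326)) ::
  ([nat_lit 4, nat_lit 4], (nat_lit 134), [], (nat_lit 504763707)) ::
  ceE450
noncomputable def ceE350 : List (List ℕ × ℕ × List ℕ × ℕ) :=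
  ([], (nat_lit 232), [], (nat_lit 389541047)) ::
  ([nat_lit 4, nat_lit 4], (nat_lit 218), [], (nat_lit 390767284)) ::
  ([], (nat_lit 140), [], (nat_lit 391223854)) ::
  ([], (nat_lit 6), [], (nat_lit 391640592)) ::
  ([nat_lit 4, nat_lit 4], (nat_lit 149), [], (nat_lit 392779066)) ::
  ([nat_lit 4], (nat_lit 124), [], (nat_lit 393501159)) ::
  ([nat_lit 4], (nat_lit 237), [], (nat_lit 395048276)) ::
  ([nat_lit 4, nat_lit 4], (nat_lit 233), [], (nat_lit 395473791)) ::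
  ([], (nat_lit 16), [], (nat_lit 396350770)) ::
  ([nat_lit 4], (nat_lit 259), [], (nat_lit 396509681)) ::
  ([nat_lit 4], (nat_lit 113), [], (nat_lit 400130474)) ::
  ([], (nat_lit 61), [], (nat_lit 401152775)) ::
  ([], (nat_lit 157), [], (nat_lit 401206468)) ::
  ([nat_lit 4, nat_lit 4], (nat_lit 173), [], (nat_lit 401671919)) ::
  ([], (nat_lit 9), [], (nat_lit 404141611)) ::
  ([nat_lit 4], (nat_lit 152), [], (nat_lit 405242927)) ::
  ([], (nat_lit 10), [], (nat_lit 406955536)) ::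
  ([], (nat_lit 50), [], (nat_lit 408382279)) ::
  ([nat_lit 4, nat_lit 4], (nat_lit 147), [], (nat_lit 408815702)) ::
  ([nat_lit 4, nat_lit 4], (nat_lit 14), [], (nat_lit 410300279)) ::
  ([nat_lit 4, nat_lit 4], (nat_lit 219), [], (nat_lit 410347192)) ::
  ([nat_lit 4], (nat_lit 10), [], (nat_lit 410579627)) ::
  ([nat_lit 4], (nat_lit 210), [], (nat_lit 411013284)) ::
  ([], (nat_lit 100), [], (nat_lit 411383901)) ::
  ([nat_lit 4, nat_lit 4], (nat_lit 48), [], (nat_lit 414835078)) ::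
  ([], (nat_lit 290), [], (nat_lit 415271366)) ::
  ([nat_lit 4, nat_lit 4], (nat_lit 240), [], (nat_lit 416899239)) ::
  ([nat_lit 4], (nat_lit 278), [], (nat_lit 417160062)) ::
  ([nat_lit 4], (nat_lit 48), [], (nat_lit 419201033)) ::
  ([nat_lit 4], (nat_lit 40), [], (nat_lit 419897926)) ::
  ([nat_lit 4, nat_lit 4], (nat_lit 200), [], (nat_lit 420065242)) ::
  ([], (nat_lit 63), [], (nat_lit 420769510)) ::
  ([nat_lit 4, nat_lit 4], (nat_lit 19), [], (nat_lit 421235934)) ::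
  ([nat_lit 4, nat_lit 4], (nat_lit 73), [], (nat_lit 423307870)) ::
  ([], (nat_lit 24), [], (nat_lit 424308057)) ::
  ([nat_lit 4, nat_lit 4], (nat_lit 26), [], (nat_lit 425519315)) ::
  ([nat_lit 4, nat_lit 4], (nat_lit 205), [], (nat_lit 425520418)) ::
  ([nat_lit 4], (nat_lit 16), [], (nat_lit 428462398)) ::
  ([nat_lit 4], (nat_lit 77), [], (nat_lit 428682437)) ::
  ([nat_lit 4, nat_lit 4], (nat_lit 133), [], (nat_lit 430445998)) ::
  ([], (nat_lit 265), [], (nat_lit 430526574)) ::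
  ([nat_lit 4, nat_lit 4], (nat_lit 206), [], (nat_lit 430542071)) ::
  ([nat_lit 4, nat_lit 4], (nat_lit 80), [], (nat_lit 431874211)) ::
  ([], (nat_lit 138), [], (nat_lit 435250520)) ::
  ([nat_lit 4, nat_lit 4], (nat_lit 118), [], (nat_lit 435302047)) ::
  ([nat_lit 4], (nat_lit 163), [], (nat_lit 436814000)) ::
  ([nat_lit 4, nat_lit 4], (nat_lit 225), [], (nat_lit 436904987)) ::
  ([], (nat_lit 167), [], (nat_lit 437631409)) ::
  ([nat_lit 4, nat_lit 4], (nat_lit 141), [], (nat_lit 438374966)) ::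
  ([nat_lit 4, nat_lit 4], (nat_lit 81), [], (nat_lit 440697976)) ::
  ceE400
noncomputable def ceE300 : List (List ℕ × ℕ × List ℕ × ℕ) :=
  ([nat_lit 4], (nat_lit 206), [], (nat_lit 333201465)) ::
  ([], (nat_lit 131), [], (nat_lit 336126711)) ::
  ([], (nat_lit 279), [], (nat_lit 336396037)) ::
  ([], (nat_lit 294), [], (nat_lit 336883925)) ::
  ([nat_lit 4], (nat_lit 182), [], (nat_lit 336992551)) ::
  ([], (nat_lit 152), [], (nat_lit 338018925)) ::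
  ([nat_lit 4], (nat_lit 199), [], (nat_lit 340188038)) ::
  ([], (nat_lit 148), [], (nat_lit 340467592)) ::
  ([nat_lit 4, nat_lit 4], (nat_lit 250), [], (nat_lit 341336008)) ::
  ([nat_lit 4], (nat_lit 106), [], (nat_lit 342227057)) ::
  ([nat_lit 4], (nat_lit 55), [], (nat_lit 343697871)) ::
  ([nat_lit 4, nat_lit 4], (nat_lit 244), [], (nat_lit 344456945)) ::
  ([nat_lit 4, nat_lit 4], (nat_lit 132), [], (nat_lit 344527248)) ::
  ([], (nat_lit 40), [], (nat_lit 346002256)) ::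
  ([nat_lit 4], (nat_lit 115), [], (nat_lit 346044934)) ::
  ([nat_lit 4], (nat_lit 172), [], (nat_lit 346218115)) ::
  ([nat_lit 4], (nat_lit 29), [], (nat_lit 350592695)) ::
  ([], (nat_lit 177), [], (nat_lit 353379973)) ::
  ([], (nat_lit 238), [], (nat_lit 355069850)) ::
  ([], (nat_lit 285), [], (nat_lit 357233055)) ::
  ([nat_lit 4], (nat_lit 283), [], (nat_lit 357638515)) ::
  ([], (nat_lit 154), [], (nat_lit 361285352)) ::
  ([nat_lit 4, nat_lit 4], (nat_lit 172), [], (nat_lit 361696081)) ::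
  ([nat_lit 4, nat_lit 4], (nat_lit 289), [], (nat_lit 362338451)) ::
  ([nat_lit 4], (nat_lit 282), [], (nat_lit 362472122)) ::
  ([], (nat_lit 42), [], (nat_lit 362585697)) ::
  ([], (nat_lit 12), [], (nat_lit 364561405)) ::
  ([], (nat_lit 172), [], (nat_lit 364716341)) ::
  ([nat_lit 4], (nat_lit 247), [], (nat_lit 365890777)) ::
  ([nat_lit 4, nat_lit 4], (nat_lit 10), [], (nat_lit 366255118)) ::
  ([nat_lit 4, nat_lit 4], (nat_lit 230), [], (nat_lit 367555238)) ::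
  ([], (nat_lit 231), [], (nat_lit 369414541)) ::
  ([], (nat_lit 116), [], (nat_lit 371442257)) ::
  ([], (nat_lit 69), [], (nat_lit 372389431)) ::
  ([], (nat_lit 256), [], (nat_lit 373131784)) ::
  ([nat_lit 4, nat_lit 4], (nat_lit 129), [], (nat_lit 373966777)) ::
  ([nat_lit 4, nat_lit 4], (nat_lit 215), [], (nat_lit 374559207)) ::
  ([nat_lit 4, nat_lit 4], (nat_lit 254), [], (nat_lit 376145981)) ::
  ([nat_lit 4, nat_lit 4], (nat_lit 269), [], (nat_lit 376352496)) ::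
  ([nat_lit 4], (nat_lit 100), [], (nat_lit 376414553)) ::
  ([nat_lit 4, nat_lit 4], (nat_lit 268), [], (nat_lit 381853810)) ::
  ([nat_lit 4, nat_lit 4], (nat_lit 37), [], (nat_lit 382197687)) ::
  ([nat_lit 4, nat_lit 4], (nat_lit 128), [], (nat_lit 382611910)) ::
  ([], (nat_lit 266), [], (nat_lit 384726450)) ::
  ([], (nat_lit 202), [], (nat_lit 386084905)) ::
  ([], (nat_lit 79), [], (nat_lit 386423159)) ::
  ([], (nat_lit 208), [], (nat_lit 388208861)) ::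
  ([nat_lit 4, nat_lit 4], (nat_lit 39), [], (nat_lit 388753581)) ::
  ([nat_lit 4], (nat_lit 38), [], (nat_lit 388952314)) ::
  ([nat_lit 4], (nat_lit 52), [], (nat_lit 389337684)) ::
  ceE350
noncomputable def ceE250 : List (List ℕ × ℕ × List ℕ × ℕ) :=
  ([nat_lit 4, nat_lit 4], (nat_lit 161), [], (nat_lit 272648827)) ::
  ([nat_lit 4, nat_lit 4], (nat_lit 266), [], (nat_lit 273883154)) ::
  ([nat_lit 4], (nat_lit 203), [], (nat_lit 274343746)) ::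
  ([nat_lit 4, nat_lit 4], (nat_lit 139), [], (nat_lit 274541522)) ::
  ([], (nat_lit 53), [], (nat_lit 274739054)) ::
  ([], (nat_lit 93), [], (nat_lit 277890014)) ::
  ([nat_lit 4, nat_lit 4], (nat_lit 154), [], (nat_lit 279855172)) ::
  ([], (nat_lit 245), [], (nat_lit 280229380)) ::
  ([], (nat_lit 98), [], (nat_lit 282359159)) ::
  ([], (nat_lit 301), [], (nat_lit 284122607)) ::
  ([nat_lit 4], (nat_lit 12), [], (nat_lit 285584750)) ::
  ([], (nat_lit 156), [], (nat_lit 286946629)) ::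
  ([nat_lit 4], (nat_lit 180), [], (nat_lit 288974237)) ::
  ([nat_lit 4], (nat_lit 68), [], (nat_lit 289726795)) ::
  ([], (nat_lit 97), [], (nat_lit 291626018)) ::
  ([nat_lit 4, nat_lit 4], (nat_lit 255), [], (nat_lit 292673942)) ::
  ([nat_lit 4, nat_lit 4], (nat_lit 76), [], (nat_lit 292854265)) ::
  ([nat_lit 4], (nat_lit 117), [], (nat_lit 293023649)) ::
  ([nat_lit 4, nat_lit 4], (nat_lit 198), [], (nat_lit 293228376)) ::
  ([nat_lit 4, nat_lit 4], (nat_lit 125), [], (nat_lit 297155435)) ::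
  ([], (nat_lit 36), [], (nat_lit 298217864)) ::
  ([], (nat_lit 66), [], (nat_lit 298803581)) ::
  ([nat_lit 4, nat_lit 4], (nat_lit 177), [], (nat_lit 301425717)) ::
  ([nat_lit 4, nat_lit 4], (nat_lit 150), [], (nat_lit 301866302)) ::
  ([], (nat_lit 203), [], (nat_lit 302157851)) ::
  ([nat_lit 4, nat_lit 4], (nat_lit 53), [], (nat_lit 303138728)) ::
  ([], (nat_lit 171), [], (nat_lit 303381151)) ::
  ([nat_lit 4], (nat_lit 53), [], (nat_lit 304259880)) ::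
  ([nat_lit 4], (nat_lit 75), [], (nat_lit 304910363)) ::
  ([nat_lit 4, nat_lit 4], (nat_lit 6), [], (nat_lit 307660835)) ::
  ([nat_lit 4], (nat_lit 127), [], (nat_lit 307821913)) ::
  ([nat_lit 4, nat_lit 4], (nat_lit 31), [], (nat_lit 308978510)) ::
  ([nat_lit 4, nat_lit 4], (nat_lit 180), [], (nat_lit 309601973)) ::
  ([nat_lit 4], (nat_lit 279), [], (nat_lit 311684946)) ::
  ([nat_lit 4], (nat_lit 239), [], (nat_lit 313990138)) ::
  ([nat_lit 4, nat_lit 4], (nat_lit 1), [], (nat_lit 316326711)) ::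
  ([nat_lit 4], (nat_lit 209), [], (nat_lit 316639162)) ::
  ([], (nat_lit 107), [], (nat_lit 317592794)) ::
  ([nat_lit 4], (nat_lit 254), [], (nat_lit 319842114)) ::
  ([nat_lit 4], (nat_lit 156), [], (nat_lit 322613616)) ::
  ([nat_lit 4], (nat_lit 281), [], (nat_lit 323004644)) ::
  ([nat_lit 4], (nat_lit 266), [], (nat_lit 324450114)) ::
  ([], (nat_lit 87), [], (nat_lit 325881308)) ::
  ([nat_lit 4, nat_lit 4], (nat_lit 253), [], (nat_lit 328143216)) ::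
  ([nat_lit 4, nat_lit 4], (nat_lit 110), [], (nat_lit 328175273)) ::
  ([nat_lit 4], (nat_lit 7), [], (nat_lit 328230550)) ::
  ([nat_lit 4], (nat_lit 65), [], (nat_lit 329215929)) ::
  ([], (nat_lit 85), [], (nat_lit 330242955)) ::
  ([nat_lit 4], (nat_lit 240), [], (nat_lit 332443664)) ::
  ([nat_lit 4, nat_lit 4], (nat_lit 210), [], (nat_lit 332627463)) ::
  ceE300
noncomputable def ceE200 : List (List ℕ × ℕ × List ℕ × ℕ) :=
  ([nat_lit 4], (nat_lit 200), [], (nat_lit 218894364)) ::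
  ([], (nat_lit 240), [], (nat_lit 220106701)) ::
  ([], (nat_lit 99), [], (nat_lit 224784889)) ::
  ([], (nat_lit 233), [], (nat_lit 225880554)) ::
  ([nat_lit 4], (nat_lit 18), [], (nat_lit 225908460)) ::
  ([nat_lit 4, nat_lit 4], (nat_lit 249), [], (nat_lit 226966207)) ::
  ([nat_lit 4, nat_lit 4], (nat_lit 276), [], (nat_lit 227415879)) ::
  ([nat_lit 4], (nat_lit 161), [], (nat_lit 227489559)) ::
  ([nat_lit 4, nat_lit 4], (nat_lit 286), [], (nat_lit 229949988)) ::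
  ([nat_lit 4, nat_lit 4], (nat_lit 8), [], (nat_lit 229996402)) ::
  ([], (nat_lit 143), [], (nat_lit 230605526)) ::
  ([nat_lit 4, nat_lit 4], (nat_lit 145), [], (nat_lit 232483700)) ::
  ([], (nat_lit 109), [], (nat_lit 233894479)) ::
  ([nat_lit 4, nat_lit 4], (nat_lit 113), [], (nat_lit 235436470)) ::
  ([], (nat_lit 196), [], (nat_lit 235556392)) ::
  ([nat_lit 4, nat_lit 4], (nat_lit 265), [], (nat_lit 235746579)) ::
  ([nat_lit 4], (nat_lit 120), [], (nat_lit 235791964)) ::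
  ([], (nat_lit 199), [], (nat_lit 237208833)) ::
  ([nat_lit 4, nat_lit 4], (nat_lit 12), [], (nat_lit 238875961)) ::
  ([nat_lit 4, nat_lit 4], (nat_lit 245), [], (nat_lit 239318923)) ::
  ([], (nat_lit 39), [], (nat_lit 239392109)) ::
  ([], (nat_lit 200), [], (nat_lit 240388809)) ::
  ([nat_lit 4], (nat_lit 129), [], (nat_lit 240744962)) ::
  ([], (nat_lit 297), [], (nat_lit 241477477)) ::
  ([], (nat_lit 139), [], (nat_lit 242180536)) ::
  ([nat_lit 4, nat_lit 4], (nat_lit 256), [], (nat_lit 242882718)) ::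
  ([nat_lit 4], (nat_lit 179), [], (nat_lit 244138908)) ::
  ([nat_lit 4], (nat_lit 86), [], (nat_lit 244242570)) ::
  ([nat_lit 4], (nat_lit 27), [], (nat_lit 245496307)) ::
  ([], (nat_lit 114), [], (nat_lit 247232466)) ::
  ([nat_lit 4, nat_lit 4], (nat_lit 24), [], (nat_lit 247987189)) ::
  ([nat_lit 4, nat_lit 4], (nat_lit 120), [], (nat_lit 248606357)) ::
  ([], (nat_lit 45), [], (nat_lit 249035876)) ::
  ([], (nat_lit 60), [], (nat_lit 251679855)) ::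
  ([nat_lit 4, nat_lit 4], (nat_lit 243), [], (nat_lit 251924668)) ::
  ([nat_lit 4], (nat_lit 36), [], (nat_lit 253837789)) ::
  ([nat_lit 4], (nat_lit 204), [], (nat_lit 254291703)) ::
  ([nat_lit 4, nat_lit 4], (nat_lit 63), [], (nat_lit 255434547)) ::
  ([], (nat_lit 228), [], (nat_lit 256266834)) ::
  ([nat_lit 4, nat_lit 4], (nat_lit 264), [], (nat_lit 256718055)) ::
  ([nat_lit 4, nat_lit 4], (nat_lit 58), [], (nat_lit 258777044)) ::
  ([nat_lit 4], (nat_lit 233), [], (nat_lit 259410551)) ::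
  ([nat_lit 4, nat_lit 4], (nat_lit 212), [], (nat_lit 260427334)) ::
  ([], (nat_lit 239), [], (nat_lit 261871760)) ::
  ([], (nat_lit 0), [], (nat_lit 261982981)) ::
  ([], (nat_lit 263), [], (nat_lit 263162901)) ::
  ([nat_lit 4, nat_lit 4], (nat_lit 171), [], (nat_lit 263770055)) ::
  ([nat_lit 4], (nat_lit 208), [], (nat_lit 268682432)) ::
  ([nat_lit 4, nat_lit 4], (nat_lit 91), [], (nat_lit 269023353)) ::
  ([nat_lit 4, nat_lit 4], (nat_lit 232), [], (nat_lit 271781110)) ::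
  ceE250
noncomputable def ceE150 : List (List ℕ × ℕ × List ℕ × ℕ) :=
  ([], (nat_lit 165), [], (nat_lit 156628814)) ::
  ([nat_lit 4, nat_lit 4], (nat_lit 160), [], (nat_lit 156787924)) ::
  ([nat_lit 4], (nat_lit 165), [], (nat_lit 158245762)) ::
  ([nat_lit 4, nat_lit 4], (nat_lit 296), [], (nat_lit 158572368)) ::
  ([nat_lit 4, nat_lit 4], (nat_lit 101), [], (nat_lit 158627207)) ::
  ([nat_lit 4, nat_lit 4], (nat_lit 105), [], (nat_lit 160277957)) ::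
  ([], (nat_lit 201), [], (nat_lit 163192760)) ::
  ([nat_lit 4], (nat_lit 143), [], (nat_lit 163562965)) ::
  ([nat_lit 4, nat_lit 4], (nat_lit 203), [], (nat_lit 164318609)) ::
  ([], (nat_lit 18), [], (nat_lit 164541584)) ::
  ([nat_lit 4, nat_lit 4], (nat_lit 299), [], (nat_lit 165395945)) ::
  ([], (nat_lit 128), [], (nat_lit 165742715)) ::
  ([nat_lit 4], (nat_lit 110), [], (nat_lit 166224504)) ::
  ([nat_lit 4], (nat_lit 269), [], (nat_lit 168391645)) ::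
  ([], (nat_lit 250), [], (nat_lit 171865432)) ::
  ([nat_lit 4, nat_lit 4], (nat_lit 169), [], (nat_lit 172512735)) ::
  ([nat_lit 4], (nat_lit 81), [], (nat_lit 174788744)) ::
  ([nat_lit 4, nat_lit 4], (nat_lit 62), [], (nat_lit 176337652)) ::
  ([nat_lit 4, nat_lit 4], (nat_lit 69), [], (nat_lit 176406062)) ::
  ([], (nat_lit 29), [], (nat_lit 177999106)) ::
  ([nat_lit 4, nat_lit 4], (nat_lit 294), [], (nat_lit 178030978)) ::
  ([], (nat_lit 52), [], (nat_lit 181957161)) ::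
  ([nat_lit 4, nat_lit 4], (nat_lit 138), [], (nat_lit 182740984)) ::
  ([nat_lit 4], (nat_lit 61), [], (nat_lit 183343657)) ::
  ([], (nat_lit 302), [], (nat_lit 183461433)) ::
  ([nat_lit 4, nat_lit 4], (nat_lit 194), [], (nat_lit 185024407)) ::
  ([], (nat_lit 8), [], (nat_lit 185521644)) ::
  ([nat_lit 4, nat_lit 4], (nat_lit 131), [], (nat_lit 187352899)) ::
  ([], (nat_lit 83), [], (nat_lit 193297392)) ::
  ([], (nat_lit 282), [], (nat_lit 194351578)) ::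
  ([], (nat_lit 262), [], (nat_lit 195220086)) ::
  ([nat_lit 4], (nat_lit 66), [], (nat_lit 195461754)) ::
  ([], (nat_lit 220), [], (nat_lit 195800264)) ::
  ([nat_lit 4], (nat_lit 72), [], (nat_lit 197141130)) ::
  ([nat_lit 4, nat_lit 4], (nat_lit 291), [], (nat_lit 197917548)) ::
  ([], (nat_lit 271), [], (nat_lit 199491486)) ::
  ([nat_lit 4, nat_lit 4], (nat_lit 184), [], (nat_lit 200670777)) ::
  ([nat_lit 4], (nat_lit 92), [], (nat_lit 202124070)) ::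
  ([nat_lit 4, nat_lit 4], (nat_lit 193), [], (nat_lit 208412893)) ::
  ([nat_lit 4], (nat_lit 263), [], (nat_lit 208429499)) ::
  ([nat_lit 4, nat_lit 4], (nat_lit 25), [], (nat_lit 208610627)) ::
  ([nat_lit 4], (nat_lit 224), [], (nat_lit 211351097)) ::
  ([nat_lit 4], (nat_lit 153), [], (nat_lit 212700100)) ::
  ([nat_lit 4], (nat_lit 225), [], (nat_lit 214028481)) ::
  ([nat_lit 4], (nat_lit 291), [], (nat_lit 215347569)) ::
  ([nat_lit 4], (nat_lit 159), [], (nat_lit 216537207)) ::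
  ([], (nat_lit 241), [], (nat_lit 216845106)) ::
  ([nat_lit 4, nat_lit 4], (nat_lit 259), [], (nat_lit 217527985)) ::
  ([nat_lit 4, nat_lit 4], (nat_lit 297), [], (nat_lit 217555316)) ::
  ([], (nat_lit 187), [], (nat_lit 218150319)) ::
  ceE200
noncomputable def ceE100 : List (List ℕ × ℕ × List ℕ × ℕ) :=
  ([], (nat_lit 255), [], (nat_lit 106402165)) ::
  ([nat_lit 4, nat_lit 4], (nat_lit 234), [], (nat_lit 106883525)) ::
  ([nat_lit 4], (nat_lit 205), [], (nat_lit 107636327)) ::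
  ([nat_lit 4], (nat_lit 201), [], (nat_lit 109547866)) ::
  ([nat_lit 4], (nat_lit 213), [], (nat_lit 111321831)) ::
  ([nat_lit 4], (nat_lit 171), [], (nat_lit 111636538)) ::
  ([nat_lit 4], (nat_lit 220), [], (nat_lit 111672737)) ::
  ([], (nat_lit 48), [], (nat_lit 111730968)) ::
  ([nat_lit 4], (nat_lit 197), [], (nat_lit 113269750)) ::
  ([nat_lit 4], (nat_lit 289), [], (nat_lit 113566991)) ::
  ([], (nat_lit 31), [], (nat_lit 113647758)) ::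
  ([nat_lit 4, nat_lit 4], (nat_lit 196), [], (nat_lit 113870918)) ::
  ([], (nat_lit 207), [], (nat_lit 114811437)) ::
  ([], (nat_lit 19), [], (nat_lit 115775063)) ::
  ([nat_lit 4], (nat_lit 74), [], (nat_lit 116784187)) ::
  ([], (nat_lit 27), [], (nat_lit 117175030)) ::
  ([nat_lit 4, nat_lit 4], (nat_lit 112), [], (nat_lit 121392487)) ::
  ([], (nat_lit 303), [], (nat_lit 121409577)) ::
  ([nat_lit 4], (nat_lit 112), [], (nat_lit 122809650)) ::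
  ([nat_lit 4], (nat_lit 131), [], (nat_lit 122868394)) ::
  ([nat_lit 4, nat_lit 4], (nat_lit 44), [], (nat_lit 122940378)) ::
  ([], (nat_lit 260), [], (nat_lit 123117108)) ::
  ([nat_lit 4], (nat_lit 255), [], (nat_lit 123929887)) ::
  ([], (nat_lit 248), [], (nat_lit 124244968)) ::
  ([nat_lit 4], (nat_lit 122), [], (nat_lit 124596033)) ::
  ([], (nat_lit 219), [], (nat_lit 126860073)) ::
  ([nat_lit 4], (nat_lit 142), [], (nat_lit 129643303)) ::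
  ([], (nat_lit 234), [], (nat_lit 130194488)) ::
  ([nat_lit 4], (nat_lit 140), [], (nat_lit 131697874)) ::
  ([], (nat_lit 275), [], (nat_lit 132792886)) ::
  ([nat_lit 4, nat_lit 4], (nat_lit 87), [], (nat_lit 134576146)) ::
  ([nat_lit 4], (nat_lit 108), [], (nat_lit 137106901)) ::
  ([], (nat_lit 137), [], (nat_lit 138044422)) ::
  ([nat_lit 4, nat_lit 4], (nat_lit 60), [], (nat_lit 139724432)) ::
  ([], (nat_lit 21), [], (nat_lit 139981160)) ::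
  ([nat_lit 4, nat_lit 4], (nat_lit 135), [], (nat_lit 144230041)) ::
  ([nat_lit 4], (nat_lit 175), [], (nat_lit 144643794)) ::
  ([nat_lit 4], (nat_lit 37), [], (nat_lit 145010331)) ::
  ([nat_lit 4], (nat_lit 243), [], (nat_lit 145990600)) ::
  ([], (nat_lit 217), [], (nat_lit 147100785)) ::
  ([], (nat_lit 288), [], (nat_lit 148165359)) ::
  ([nat_lit 4, nat_lit 4], (nat_lit 126), [], (nat_lit 148346054)) ::
  ([], (nat_lit 146), [], (nat_lit 149644246)) ::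
  ([nat_lit 4, nat_lit 4], (nat_lit 293), [], (nat_lit 152095421)) ::
  ([nat_lit 4, nat_lit 4], (nat_lit 283), [], (nat_lit 153557808)) ::
  ([], (nat_lit 55), [], (nat_lit 154229280)) ::
  ([], (nat_lit 169), [], (nat_lit 154478722)) ::
  ([nat_lit 4], (nat_lit 302), [], (nat_lit 154808670)) ::
  ([], (nat_lit 130), [], (nat_lit 154851050)) ::
  ([nat_lit 4], (nat_lit 272), [], (nat_lit 155475203)) ::
  ceE150
noncomputable def ceE50 : List (List ℕ × ℕ × List ℕ × ℕ) :=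
  ([nat_lit 4, nat_lit 4], (nat_lit 2), [], (nat_lit 49622808)) ::
  ([nat_lit 4, nat_lit 4], (nat_lit 221), [], (nat_lit 51205212)) ::
  ([nat_lit 4, nat_lit 4], (nat_lit 159), [], (nat_lit 51611536)) ::
  ([nat_lit 4, nat_lit 4], (nat_lit 179), [], (nat_lit 51799152)) ::
  ([nat_lit 4, nat_lit 4], (nat_lit 214), [], (nat_lit 52904096)) ::
  ([nat_lit 4], (nat_lit 145), [], (nat_lit 54057332)) ::
  ([nat_lit 4, nat_lit 4], (nat_lit 57), [], (nat_lit 55131503)) ::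
  ([], (nat_lit 111), [], (nat_lit 55255608)) ::
  ([], (nat_lit 184), [], (nat_lit 57496530)) ::
  ([], (nat_lit 192), [], (nat_lit 62175206)) ::
  ([nat_lit 4], (nat_lit 82), [], (nat_lit 62258797)) ::
  ([nat_lit 4, nat_lit 4], (nat_lit 67), [], (nat_lit 62368460)) ::
  ([nat_lit 4, nat_lit 4], (nat_lit 251), [], (nat_lit 62416035)) ::
  ([nat_lit 4], (nat_lit 93), [], (nat_lit 63911863)) ::
  ([nat_lit 4], (nat_lit 193), [], (nat_lit 63930430)) ::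
  ([nat_lit 4], (nat_lit 126), [], (nat_lit 65096818)) ::
  ([], (nat_lit 108), [], (nat_lit 65758717)) ::
  ([], (nat_lit 264), [], (nat_lit 68409928)) ::
  ([], (nat_lit 176), [], (nat_lit 71129515)) ::
  ([nat_lit 4], (nat_lit 167), [], (nat_lit 71794252)) ::
  ([nat_lit 4, nat_lit 4], (nat_lit 79), [], (nat_lit 72461411)) ::
  ([nat_lit 4, nat_lit 4], (nat_lit 153), [], (nat_lit 72660861)) ::
  ([], (nat_lit 298), [], (nat_lit 73346591)) ::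
  ([], (nat_lit 150), [], (nat_lit 75009691)) ::
  ([nat_lit 4, nat_lit 4], (nat_lit 192), [], (nat_lit 75556641)) ::
  ([], (nat_lit 68), [], (nat_lit 75985669)) ::
  ([nat_lit 4, nat_lit 4], (nat_lit 217), [], (nat_lit 77371462)) ::
  ([nat_lit 4], (nat_lit 160), [], (nat_lit 78384441)) ::
  ([], (nat_lit 175), [], (nat_lit 79920227)) ::
  ([nat_lit 4], (nat_lit 59), [], (nat_lit 80264738)) ::
  ([nat_lit 4], (nat_lit 154), [], (nat_lit 80482217)) ::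
  ([nat_lit 4], (nat_lit 25), [], (nat_lit 83809428)) ::
  ([nat_lit 4, nat_lit 4], (nat_lit 78), [], (nat_lit 85563169)) ::
  ([nat_lit 4], (nat_lit 245), [], (nat_lit 86682224)) ::
  ([nat_lit 4], (nat_lit 57), [], (nat_lit 86928127)) ::
  ([], (nat_lit 293), [], (nat_lit 87416020)) ::
  ([nat_lit 4], (nat_lit 31), [], (nat_lit 89273053)) ::
  ([nat_lit 4], (nat_lit 84), [], (nat_lit 89934283)) ::
  ([nat_lit 4], (nat_lit 4), [], (nat_lit 93555881)) ::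
  ([], (nat_lit 182), [], (nat_lit 94544460)) ::
  ([nat_lit 4, nat_lit 4], (nat_lit 207), [], (nat_lit 95732549)) ::
  ([], (nat_lit 185), [], (nat_lit 96684541)) ::
  ([], (nat_lit 88), [], (nat_lit 97936253)) ::
  ([nat_lit 4], (nat_lit 151), [], (nat_lit 98642532)) ::
  ([nat_lit 4], (nat_lit 128), [], (nat_lit 99866002)) ::
  ([nat_lit 4], (nat_lit 94), [], (nat_lit 99879388)) ::
  ([], (nat_lit 194), [], (nat_lit 100801643)) ::
  ([nat_lit 4, nat_lit 4], (nat_lit 176), [], (nat_lit 100953014)) ::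
  ([nat_lit 4, nat_lit 4], (nat_lit 277), [], (nat_lit 103112178)) ::
  ([nat_lit 4], (nat_lit 150), [], (nat_lit 105518398)) ::
  ceE100
noncomputable def ceE : List (List ℕ × ℕ × List ℕ × ℕ) :=
  ([], (nat_lit 153), [], (nat_lit 502866)) ::
  ([nat_lit 4, nat_lit 4], (nat_lit 238), [], (nat_lit 613510)) ::
  ([nat_lit 4], (nat_lit 24), [], (nat_lit 3334019)) ::
  ([nat_lit 4], (nat_lit 130), [], (nat_lit 4920835)) ::
  ([], (nat_lit 237), [], (nat_lit 5341590)) ::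
  ([], (nat_lit 268), [], (nat_lit 5452995)) ::
  ([nat_lit 4], (nat_lit 141), [], (nat_lit 10903714)) ::
  ([nat_lit 4], (nat_lit 186), [], (nat_lit 11341346)) ::
  ([], (nat_lit 113), [], (nat_lit 11674452)) ::
  ([nat_lit 4], (nat_lit 260), [], (nat_lit 11944082)) ::
  ([], (nat_lit 22), [], (nat_lit 13314500)) ::
  ([nat_lit 4], (nat_lit 119), [], (nat_lit 13337683)) ::
  ([nat_lit 4], (nat_lit 146), [], (nat_lit 14508671)) ::
  ([nat_lit 4], (nat_lit 256), [], (nat_lit 14689195)) ::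
  ([nat_lit 4], (nat_lit 62), [], (nat_lit 15019913)) ::
  ([nat_lit 4, nat_lit 4], (nat_lit 77), [], (nat_lit 16393992)) ::
  ([nat_lit 4, nat_lit 4], (nat_lit 182), [], (nat_lit 17402820)) ::
  ([nat_lit 4], (nat_lit 271), [], (nat_lit 17611273)) ::
  ([], (nat_lit 1), [], (nat_lit 18693475)) ::
  ([nat_lit 4, nat_lit 4], (nat_lit 102), [], (nat_lit 20205046)) ::
  ([nat_lit 4, nat_lit 4], (nat_lit 166), [], (nat_lit 21750818)) ::
  ([nat_lit 4, nat_lit 4], (nat_lit 272), [], (nat_lit 21811681)) ::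
  ([], (nat_lit 82), [], (nat_lit 25099950)) ::
  ([], (nat_lit 121), [], (nat_lit 25983276)) ::
  ([nat_lit 4], (nat_lit 168), [], (nat_lit 27434794)) ::
  ([nat_lit 4, nat_lit 4], (nat_lit 46), [], (nat_lit 27905700)) ::
  ([], (nat_lit 159), [], (nat_lit 28630412)) ::
  ([nat_lit 4], (nat_lit 139), [], (nat_lit 29056762)) ::
  ([nat_lit 4, nat_lit 4], (nat_lit 121), [], (nat_lit 30436996)) ::
  ([nat_lit 4], (nat_lit 187), [], (nat_lit 30634521)) ::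
  ([nat_lit 4], (nat_lit 144), [], (nat_lit 30753140)) ::
  ([nat_lit 4], (nat_lit 292), [], (nat_lit 31542969)) ::
  ([], (nat_lit 74), [], (nat_lit 32147039)) ::
  ([], (nat_lit 261), [], (nat_lit 33730834)) ::
  ([nat_lit 4, nat_lit 4], (nat_lit 15), [], (nat_lit 33895442)) ::
  ([nat_lit 4, nat_lit 4], (nat_lit 16), [], (nat_lit 34225646)) ::
  ([nat_lit 4], (nat_lit 111), [], (nat_lit 34646853)) ::
  ([], (nat_lit 127), [], (nat_lit 36671160)) ::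
  ([nat_lit 4, nat_lit 4], (nat_lit 123), [], (nat_lit 37186071)) ::
  ([nat_lit 4], (nat_lit 195), [], (nat_lit 40242191)) ::
  ([], (nat_lit 133), [], (nat_lit 40282671)) ::
  ([nat_lit 4, nat_lit 4], (nat_lit 231), [], (nat_lit 40858063)) ::
  ([nat_lit 4, nat_lit 4], (nat_lit 35), [], (nat_lit 42813468)) ::
  ([nat_lit 4, nat_lit 4], (nat_lit 92), [], (nat_lit 45312952)) ::
  ([nat_lit 4, nat_lit 4], (nat_lit 100), [], (nat_lit 47503711)) ::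
  ([nat_lit 4, nat_lit 4], (nat_lit 64), [], (nat_lit 47608523)) ::
  ([nat_lit 4, nat_lit 4], (nat_lit 43), [], (nat_lit 48078041)) ::
  ([], (nat_lit 28), [], (nat_lit 48854444)) ::
  ([nat_lit 4], (nat_lit 43), [], (nat_lit 49101785)) ::
  ([nat_lit 4, nat_lit 4], (nat_lit 282), [], (nat_lit 49362788)) ::
  ceE50
noncomputable def ce : Cv := ⟨(nat_lit 4), (nat_lit 5), (nat_lit 13), (nat_lit 0x4000020408002000810200001000000000040010204001000400000000010004000020008002000000200001000400100040800204080000400002040810204000000008002040810200080000008102040000204001020400000000000004080), (nat_lit 1000000007), (nat_lit 4), [nat_lit 0, nat_lit 1, nat_lit 1, nat_lit 0, nat_lit 0], [], ceW, ceE⟩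
noncomputable def ceV300 : List (List ℕ × List ℕ) :=
  ([nat_lit 8, nat_lit 9, nat_lit 4, nat_lit 10, nat_lit 6], [nat_lit 1, nat_lit 3, nat_lit 0, nat_lit 2, nat_lit 3]) ::
  ([nat_lit 10, nat_lit 8, nat_lit 11, nat_lit 10, nat_lit 6], [nat_lit 0, nat_lit 2, nat_lit 3, nat_lit 1]) ::
  ([nat_lit 7, nat_lit 8, nat_lit 5, nat_lit 4, nat_lit 7], [nat_lit 2, nat_lit 3, nat_lit 0]) ::
  ([nat_lit 10, nat_lit 4, nat_lit 8, nat_lit 6, nat_lit 8], [nat_lit 2, nat_lit 1, nat_lit 1, nat_lit 0, nat_lit 4, nat_lit 1, nat_lit 3, nat_lit 0, nat_lit 1]) ::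
  []
noncomputable def ceV250 : List (List ℕ × List ℕ) :=
  ([nat_lit 11, nat_lit 11, nat_lit 9, nat_lit 8], [nat_lit 0, nat_lit 1, nat_lit 3, nat_lit 3]) ::
  ([nat_lit 9, nat_lit 4, nat_lit 10, nat_lit 8], [nat_lit 1, nat_lit 0, nat_lit 5]) ::
  ([nat_lit 11, nat_lit 4, nat_lit 10, nat_lit 8], [nat_lit 0, nat_lit 2, nat_lit 5, nat_lit 4, nat_lit 1]) ::
  ([nat_lit 7, nat_lit 8, nat_lit 10, nat_lit 8], [nat_lit 4, nat_lit 1, nat_lit 0]) ::
  ([nat_lit 10, nat_lit 8, nat_lit 10, nat_lit 8], [nat_lit 2, nat_lit 1, nat_lit 3, nat_lit 0, nat_lit 2]) ::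
  ([nat_lit 10, nat_lit 8, nat_lit 11, nat_lit 8], [nat_lit 5, nat_lit 3, nat_lit 0, nat_lit 1]) ::
  ([nat_lit 8, nat_lit 7, nat_lit 4, nat_lit 9], [nat_lit 5, nat_lit 0, nat_lit 3, nat_lit 1]) ::
  ([nat_lit 11, nat_lit 7, nat_lit 4, nat_lit 9], [nat_lit 0, nat_lit 2, nat_lit 2, nat_lit 3]) ::
  ([nat_lit 6, nat_lit 8, nat_lit 4, nat_lit 9], [nat_lit 2, nat_lit 4, nat_lit 1, nat_lit 0]) ::
  ([nat_lit 9, nat_lit 8, nat_lit 4, nat_lit 9], [nat_lit 2, nat_lit 2, nat_lit 3, nat_lit 0]) ::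
  ([nat_lit 11, nat_lit 4, nat_lit 8, nat_lit 9], [nat_lit 0, nat_lit 1, nat_lit 3, nat_lit 5]) ::
  ([nat_lit 7, nat_lit 6, nat_lit 8, nat_lit 9], [nat_lit 0, nat_lit 3, nat_lit 1]) ::
  ([nat_lit 10, nat_lit 6, nat_lit 8, nat_lit 9], [nat_lit 3, nat_lit 2, nat_lit 1, nat_lit 0]) ::
  ([nat_lit 9, nat_lit 8, nat_lit 8, nat_lit 9], [nat_lit 2, nat_lit 1, nat_lit 0]) ::
  ([nat_lit 10, nat_lit 8, nat_lit 8, nat_lit 9], [nat_lit 2, nat_lit 1, nat_lit 0]) ::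
  ([nat_lit 8, nat_lit 9, nat_lit 8, nat_lit 9], [nat_lit 5, nat_lit 0, nat_lit 1]) ::
  ([nat_lit 11, nat_lit 9, nat_lit 8, nat_lit 9], [nat_lit 0, nat_lit 3, nat_lit 1, nat_lit 0]) ::
  ([nat_lit 8, nat_lit 4, nat_lit 11, nat_lit 9], [nat_lit 0, nat_lit 1, nat_lit 5, nat_lit 1, nat_lit 5, nat_lit 0]) ::
  ([nat_lit 9, nat_lit 4, nat_lit 11, nat_lit 9], [nat_lit 0, nat_lit 2, nat_lit 2, nat_lit 1]) ::
  ([nat_lit 11, nat_lit 7, nat_lit 4, nat_lit 10], [nat_lit 0, nat_lit 0, nat_lit 3, nat_lit 1, nat_lit 4]) ::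
  ([nat_lit 8, nat_lit 9, nat_lit 4, nat_lit 10], [nat_lit 1, nat_lit 2, nat_lit 0, nat_lit 0]) ::
  ([nat_lit 8, nat_lit 9, nat_lit 8, nat_lit 10], [nat_lit 3, nat_lit 0, nat_lit 2, nat_lit 1, nat_lit 2]) ::
  ([nat_lit 11, nat_lit 9, nat_lit 8, nat_lit 10], [nat_lit 4, nat_lit 1, nat_lit 2, nat_lit 0]) ::
  ([nat_lit 11, nat_lit 11, nat_lit 8, nat_lit 10], [nat_lit 1, nat_lit 3, nat_lit 0, nat_lit 5]) ::
  ([nat_lit 10, nat_lit 8, nat_lit 11, nat_lit 10], [nat_lit 5, nat_lit 2, nat_lit 0, nat_lit 2, nat_lit 1]) ::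
  ([nat_lit 7, nat_lit 4, nat_lit 4, nat_lit 11], [nat_lit 0, nat_lit 3, nat_lit 1]) ::
  ([nat_lit 6, nat_lit 8, nat_lit 8, nat_lit 11], [nat_lit 1, nat_lit 2, nat_lit 0]) ::
  ([nat_lit 7, nat_lit 8, nat_lit 8, nat_lit 11], [nat_lit 1, nat_lit 0, nat_lit 5, nat_lit 2]) ::
  ([nat_lit 9, nat_lit 8, nat_lit 8, nat_lit 11], [nat_lit 5, nat_lit 0, nat_lit 1, nat_lit 5]) ::
  ([nat_lit 10, nat_lit 8, nat_lit 8, nat_lit 11], [nat_lit 0, nat_lit 5, nat_lit 1, nat_lit 2]) ::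
  ([nat_lit 6, nat_lit 8, nat_lit 5, nat_lit 4, nat_lit 5], [nat_lit 0, nat_lit 5, nat_lit 1, nat_lit 5]) ::
  ([nat_lit 10, nat_lit 6, nat_lit 8, nat_lit 4, nat_lit 5], [nat_lit 2, nat_lit 5, nat_lit 1, nat_lit 0]) ::
  ([nat_lit 6, nat_lit 8, nat_lit 9, nat_lit 4, nat_lit 5], [nat_lit 1, nat_lit 0, nat_lit 3]) ::
  ([nat_lit 9, nat_lit 8, nat_lit 9, nat_lit 4, nat_lit 5], [nat_lit 2, nat_lit 0, nat_lit 3, nat_lit 2]) ::
  ([nat_lit 8, nat_lit 4, nat_lit 10, nat_lit 4, nat_lit 5], [nat_lit 0, nat_lit 2, nat_lit 3, nat_lit 5]) ::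
  ([nat_lit 11, nat_lit 4, nat_lit 10, nat_lit 4, nat_lit 5], [nat_lit 0, nat_lit 3, nat_lit 2, nat_lit 4]) ::
  ([nat_lit 7, nat_lit 4, nat_lit 6, nat_lit 8, nat_lit 5], [nat_lit 2, nat_lit 0, nat_lit 3, nat_lit 1, nat_lit 4]) ::
  ([nat_lit 8, nat_lit 8, nat_lit 6, nat_lit 8, nat_lit 5], [nat_lit 2, nat_lit 0, nat_lit 5, nat_lit 3]) ::
  ([nat_lit 11, nat_lit 8, nat_lit 6, nat_lit 8, nat_lit 5], [nat_lit 5, nat_lit 4, nat_lit 2, nat_lit 1, nat_lit 0]) ::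
  ([nat_lit 7, nat_lit 8, nat_lit 7, nat_lit 8, nat_lit 5], [nat_lit 4, nat_lit 5, nat_lit 0, nat_lit 1]) ::
  ([nat_lit 11, nat_lit 8, nat_lit 7, nat_lit 8, nat_lit 5], [nat_lit 4, nat_lit 1, nat_lit 2, nat_lit 0, nat_lit 5]) ::
  ([nat_lit 8, nat_lit 7, nat_lit 8, nat_lit 8, nat_lit 5], [nat_lit 1, nat_lit 0, nat_lit 5]) ::
  ([nat_lit 10, nat_lit 4, nat_lit 9, nat_lit 8, nat_lit 5], [nat_lit 1, nat_lit 0, nat_lit 3]) ::
  ([nat_lit 8, nat_lit 4, nat_lit 10, nat_lit 8, nat_lit 5], [nat_lit 2, nat_lit 3, nat_lit 0]) ::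
  ([nat_lit 7, nat_lit 4, nat_lit 4, nat_lit 11, nat_lit 5], [nat_lit 1, nat_lit 0, nat_lit 0, nat_lit 5]) ::
  ([nat_lit 10, nat_lit 4, nat_lit 4, nat_lit 11, nat_lit 5], [nat_lit 3, nat_lit 5, nat_lit 1, nat_lit 0, nat_lit 3]) ::
  ([nat_lit 9, nat_lit 8, nat_lit 4, nat_lit 11, nat_lit 5], [nat_lit 1, nat_lit 5, nat_lit 5, nat_lit 0, nat_lit 3]) ::
  ([nat_lit 11, nat_lit 10, nat_lit 6, nat_lit 4, nat_lit 6], [nat_lit 4, nat_lit 0, nat_lit 5, nat_lit 1, nat_lit 0]) ::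
  ([nat_lit 8, nat_lit 7, nat_lit 8, nat_lit 4, nat_lit 6], [nat_lit 1, nat_lit 0, nat_lit 2, nat_lit 5]) ::
  ([nat_lit 11, nat_lit 9, nat_lit 8, nat_lit 4, nat_lit 6], [nat_lit 0, nat_lit 1, nat_lit 2, nat_lit 3]) ::
  ceV300
noncomputable def ceV200 : List (List ℕ × List ℕ) :=
  ([nat_lit 8, nat_lit 7, nat_lit 4, nat_lit 7], [nat_lit 1, nat_lit 2, nat_lit 0]) ::
  ([nat_lit 11, nat_lit 7, nat_lit 4, nat_lit 7], [nat_lit 2, nat_lit 3, nat_lit 1, nat_lit 0]) ::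
  ([nat_lit 6, nat_lit 8, nat_lit 4, nat_lit 7], [nat_lit 5, nat_lit 3, nat_lit 0, nat_lit 1]) ::
  ([nat_lit 8, nat_lit 8, nat_lit 4, nat_lit 7], [nat_lit 5, nat_lit 1, nat_lit 0, nat_lit 5]) ::
  ([nat_lit 9, nat_lit 8, nat_lit 4, nat_lit 7], [nat_lit 0, nat_lit 5, nat_lit 1]) ::
  ([nat_lit 11, nat_lit 8, nat_lit 4, nat_lit 7], [nat_lit 1, nat_lit 0, nat_lit 5, nat_lit 2]) ::
  ([nat_lit 8, nat_lit 9, nat_lit 4, nat_lit 7], [nat_lit 1, nat_lit 3, nat_lit 0]) ::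
  ([nat_lit 11, nat_lit 10, nat_lit 4, nat_lit 7], [nat_lit 2, nat_lit 4, nat_lit 5, nat_lit 0, nat_lit 1]) ::
  ([nat_lit 5, nat_lit 4, nat_lit 8, nat_lit 7], [nat_lit 1, nat_lit 2, nat_lit 5, nat_lit 0]) ::
  ([nat_lit 6, nat_lit 4, nat_lit 8, nat_lit 7], [nat_lit 2, nat_lit 2, nat_lit 0, nat_lit 1]) ::
  ([nat_lit 9, nat_lit 4, nat_lit 8, nat_lit 7], [nat_lit 2, nat_lit 1, nat_lit 5, nat_lit 0]) ::
  ([nat_lit 7, nat_lit 6, nat_lit 8, nat_lit 7], [nat_lit 0, nat_lit 1, nat_lit 5]) ::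
  ([nat_lit 11, nat_lit 7, nat_lit 8, nat_lit 7], [nat_lit 0, nat_lit 2, nat_lit 1]) ::
  ([nat_lit 6, nat_lit 8, nat_lit 8, nat_lit 7], [nat_lit 2, nat_lit 0, nat_lit 3, nat_lit 2]) ::
  ([nat_lit 9, nat_lit 8, nat_lit 8, nat_lit 7], [nat_lit 0, nat_lit 3, nat_lit 1, nat_lit 2]) ::
  ([nat_lit 10, nat_lit 8, nat_lit 8, nat_lit 7], [nat_lit 1, nat_lit 2, nat_lit 0]) ::
  ([nat_lit 11, nat_lit 10, nat_lit 8, nat_lit 7], [nat_lit 0, nat_lit 2, nat_lit 1, nat_lit 2]) ::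
  ([nat_lit 8, nat_lit 11, nat_lit 8, nat_lit 7], [nat_lit 1, nat_lit 5, nat_lit 0, nat_lit 3]) ::
  ([nat_lit 5, nat_lit 4, nat_lit 11, nat_lit 7], [nat_lit 1, nat_lit 0, nat_lit 2]) ::
  ([nat_lit 8, nat_lit 4, nat_lit 11, nat_lit 7], [nat_lit 2, nat_lit 1, nat_lit 0, nat_lit 4]) ::
  ([nat_lit 9, nat_lit 4, nat_lit 11, nat_lit 7], [nat_lit 1, nat_lit 5, nat_lit 0]) ::
  ([nat_lit 10, nat_lit 4, nat_lit 11, nat_lit 7], [nat_lit 5, nat_lit 3, nat_lit 2, nat_lit 1, nat_lit 0]) ::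
  ([nat_lit 11, nat_lit 4, nat_lit 11, nat_lit 7], [nat_lit 0, nat_lit 2, nat_lit 0, nat_lit 1]) ::
  ([nat_lit 7, nat_lit 8, nat_lit 11, nat_lit 7], [nat_lit 5, nat_lit 1, nat_lit 0, nat_lit 1, nat_lit 0, nat_lit 1, nat_lit 5]) ::
  ([nat_lit 8, nat_lit 8, nat_lit 11, nat_lit 7], [nat_lit 1, nat_lit 2, nat_lit 0, nat_lit 0, nat_lit 2]) ::
  ([nat_lit 10, nat_lit 8, nat_lit 11, nat_lit 7], [nat_lit 2, nat_lit 3, nat_lit 0, nat_lit 4, nat_lit 1]) ::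
  ([nat_lit 11, nat_lit 8, nat_lit 11, nat_lit 7], [nat_lit 3, nat_lit 2, nat_lit 0, nat_lit 1, nat_lit 4]) ::
  ([nat_lit 9, nat_lit 4, nat_lit 4, nat_lit 8], [nat_lit 3, nat_lit 1, nat_lit 5, nat_lit 0]) ::
  ([nat_lit 10, nat_lit 4, nat_lit 4, nat_lit 8], [nat_lit 0, nat_lit 1, nat_lit 5]) ::
  ([nat_lit 6, nat_lit 4, nat_lit 6, nat_lit 8], [nat_lit 2, nat_lit 0, nat_lit 1, nat_lit 3, nat_lit 0]) ::
  ([nat_lit 8, nat_lit 4, nat_lit 6, nat_lit 8], [nat_lit 2, nat_lit 3, nat_lit 1, nat_lit 0, nat_lit 2]) ::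
  ([nat_lit 9, nat_lit 4, nat_lit 6, nat_lit 8], [nat_lit 1, nat_lit 3, nat_lit 0]) ::
  ([nat_lit 8, nat_lit 8, nat_lit 6, nat_lit 8], [nat_lit 3, nat_lit 0, nat_lit 2]) ::
  ([nat_lit 11, nat_lit 8, nat_lit 6, nat_lit 8], [nat_lit 1, nat_lit 0, nat_lit 0, nat_lit 5]) ::
  ([nat_lit 11, nat_lit 10, nat_lit 6, nat_lit 8], [nat_lit 0, nat_lit 2, nat_lit 1, nat_lit 2]) ::
  ([nat_lit 7, nat_lit 4, nat_lit 7, nat_lit 8], [nat_lit 0, nat_lit 2, nat_lit 2, nat_lit 3]) ::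
  ([nat_lit 6, nat_lit 8, nat_lit 7, nat_lit 8], [nat_lit 0, nat_lit 5, nat_lit 4, nat_lit 1]) ::
  ([nat_lit 7, nat_lit 8, nat_lit 7, nat_lit 8], [nat_lit 1, nat_lit 5, nat_lit 4, nat_lit 0]) ::
  ([nat_lit 9, nat_lit 8, nat_lit 7, nat_lit 8], [nat_lit 5, nat_lit 0, nat_lit 2, nat_lit 3]) ::
  ([nat_lit 8, nat_lit 11, nat_lit 7, nat_lit 8], [nat_lit 5, nat_lit 0, nat_lit 2, nat_lit 1]) ::
  ([nat_lit 8, nat_lit 6, nat_lit 8, nat_lit 8], [nat_lit 5, nat_lit 1, nat_lit 0, nat_lit 1]) ::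
  ([nat_lit 11, nat_lit 6, nat_lit 8, nat_lit 8], [nat_lit 0, nat_lit 1, nat_lit 3, nat_lit 1]) ::
  ([nat_lit 8, nat_lit 9, nat_lit 8, nat_lit 8], [nat_lit 1, nat_lit 5, nat_lit 2, nat_lit 0, nat_lit 2, nat_lit 0]) ::
  ([nat_lit 11, nat_lit 9, nat_lit 8, nat_lit 8], [nat_lit 1, nat_lit 3, nat_lit 5, nat_lit 0]) ::
  ([nat_lit 11, nat_lit 10, nat_lit 8, nat_lit 8], [nat_lit 3, nat_lit 1, nat_lit 5, nat_lit 0]) ::
  ([nat_lit 5, nat_lit 4, nat_lit 9, nat_lit 8], [nat_lit 0, nat_lit 2, nat_lit 3, nat_lit 0]) ::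
  ([nat_lit 8, nat_lit 4, nat_lit 9, nat_lit 8], [nat_lit 1, nat_lit 0, nat_lit 5]) ::
  ([nat_lit 9, nat_lit 4, nat_lit 9, nat_lit 8], [nat_lit 4, nat_lit 0, nat_lit 3, nat_lit 1, nat_lit 5]) ::
  ([nat_lit 8, nat_lit 8, nat_lit 9, nat_lit 8], [nat_lit 2, nat_lit 0, nat_lit 1, nat_lit 2]) ::
  ([nat_lit 10, nat_lit 8, nat_lit 9, nat_lit 8], [nat_lit 0, nat_lit 1]) ::
  ceV250
noncomputable def ceV150 : List (List ℕ × List ℕ) :=
  ([nat_lit 11, nat_lit 4, nat_lit 11, nat_lit 5], [nat_lit 1, nat_lit 0, nat_lit 2]) ::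
  ([nat_lit 7, nat_lit 8, nat_lit 11, nat_lit 5], [nat_lit 1, nat_lit 4, nat_lit 0]) ::
  ([nat_lit 8, nat_lit 6, nat_lit 4, nat_lit 6], [nat_lit 1, nat_lit 0, nat_lit 4, nat_lit 1, nat_lit 0]) ::
  ([nat_lit 11, nat_lit 6, nat_lit 4, nat_lit 6], [nat_lit 5, nat_lit 2, nat_lit 1, nat_lit 0]) ::
  ([nat_lit 8, nat_lit 7, nat_lit 4, nat_lit 6], [nat_lit 1, nat_lit 2, nat_lit 3, nat_lit 0, nat_lit 2]) ::
  ([nat_lit 11, nat_lit 7, nat_lit 4, nat_lit 6], [nat_lit 0, nat_lit 1, nat_lit 4, nat_lit 2]) ::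
  ([nat_lit 6, nat_lit 8, nat_lit 4, nat_lit 6], [nat_lit 0, nat_lit 0, nat_lit 1]) ::
  ([nat_lit 9, nat_lit 8, nat_lit 4, nat_lit 6], [nat_lit 3, nat_lit 0, nat_lit 1, nat_lit 5]) ::
  ([nat_lit 10, nat_lit 8, nat_lit 4, nat_lit 6], [nat_lit 4, nat_lit 0, nat_lit 3, nat_lit 1]) ::
  ([nat_lit 8, nat_lit 9, nat_lit 4, nat_lit 6], [nat_lit 0, nat_lit 1, nat_lit 5]) ::
  ([nat_lit 11, nat_lit 9, nat_lit 4, nat_lit 6], [nat_lit 1, nat_lit 0]) ::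
  ([nat_lit 8, nat_lit 10, nat_lit 4, nat_lit 6], [nat_lit 5, nat_lit 1, nat_lit 0, nat_lit 0]) ::
  ([nat_lit 11, nat_lit 10, nat_lit 4, nat_lit 6], [nat_lit 0, nat_lit 2, nat_lit 3, nat_lit 5]) ::
  ([nat_lit 8, nat_lit 4, nat_lit 7, nat_lit 6], [nat_lit 5, nat_lit 1, nat_lit 4, nat_lit 0]) ::
  ([nat_lit 11, nat_lit 4, nat_lit 7, nat_lit 6], [nat_lit 1, nat_lit 2, nat_lit 5, nat_lit 0]) ::
  ([nat_lit 8, nat_lit 8, nat_lit 7, nat_lit 6], [nat_lit 2, nat_lit 0, nat_lit 1]) ::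
  ([nat_lit 9, nat_lit 8, nat_lit 7, nat_lit 6], [nat_lit 0, nat_lit 3, nat_lit 1]) ::
  ([nat_lit 8, nat_lit 11, nat_lit 7, nat_lit 6], [nat_lit 0, nat_lit 1, nat_lit 2, nat_lit 1]) ::
  ([nat_lit 11, nat_lit 11, nat_lit 7, nat_lit 6], [nat_lit 1, nat_lit 0, nat_lit 3, nat_lit 4]) ::
  ([nat_lit 5, nat_lit 4, nat_lit 8, nat_lit 6], [nat_lit 2, nat_lit 1, nat_lit 0]) ::
  ([nat_lit 7, nat_lit 4, nat_lit 8, nat_lit 6], [nat_lit 1, nat_lit 0, nat_lit 3]) ::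
  ([nat_lit 9, nat_lit 4, nat_lit 8, nat_lit 6], [nat_lit 3, nat_lit 0, nat_lit 5, nat_lit 2, nat_lit 2]) ::
  ([nat_lit 11, nat_lit 4, nat_lit 8, nat_lit 6], [nat_lit 4, nat_lit 2, nat_lit 0, nat_lit 1]) ::
  ([nat_lit 7, nat_lit 6, nat_lit 8, nat_lit 6], [nat_lit 0, nat_lit 5, nat_lit 0, nat_lit 1]) ::
  ([nat_lit 10, nat_lit 6, nat_lit 8, nat_lit 6], [nat_lit 2, nat_lit 0, nat_lit 1, nat_lit 3]) ::
  ([nat_lit 11, nat_lit 6, nat_lit 8, nat_lit 6], [nat_lit 3, nat_lit 2, nat_lit 0, nat_lit 1]) ::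
  ([nat_lit 8, nat_lit 7, nat_lit 8, nat_lit 6], [nat_lit 0, nat_lit 1, nat_lit 5, nat_lit 5]) ::
  ([nat_lit 6, nat_lit 8, nat_lit 8, nat_lit 6], [nat_lit 3, nat_lit 1, nat_lit 5, nat_lit 0, nat_lit 2]) ::
  ([nat_lit 7, nat_lit 8, nat_lit 8, nat_lit 6], [nat_lit 0, nat_lit 5, nat_lit 0, nat_lit 1]) ::
  ([nat_lit 9, nat_lit 8, nat_lit 8, nat_lit 6], [nat_lit 4, nat_lit 1, nat_lit 0, nat_lit 2, nat_lit 3]) ::
  ([nat_lit 8, nat_lit 9, nat_lit 8, nat_lit 6], [nat_lit 3, nat_lit 3, nat_lit 1, nat_lit 0]) ::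
  ([nat_lit 11, nat_lit 9, nat_lit 8, nat_lit 6], [nat_lit 3, nat_lit 0, nat_lit 1, nat_lit 3]) ::
  ([nat_lit 8, nat_lit 10, nat_lit 8, nat_lit 6], [nat_lit 1, nat_lit 5, nat_lit 0]) ::
  ([nat_lit 7, nat_lit 4, nat_lit 10, nat_lit 6], [nat_lit 0, nat_lit 2, nat_lit 1, nat_lit 3]) ::
  ([nat_lit 8, nat_lit 4, nat_lit 10, nat_lit 6], [nat_lit 5, nat_lit 2, nat_lit 0, nat_lit 3]) ::
  ([nat_lit 11, nat_lit 4, nat_lit 10, nat_lit 6], [nat_lit 0, nat_lit 1, nat_lit 0, nat_lit 2, nat_lit 4, nat_lit 2]) ::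
  ([nat_lit 8, nat_lit 8, nat_lit 10, nat_lit 6], [nat_lit 5, nat_lit 1, nat_lit 0, nat_lit 2]) ::
  ([nat_lit 9, nat_lit 8, nat_lit 10, nat_lit 6], [nat_lit 5, nat_lit 1, nat_lit 5, nat_lit 0, nat_lit 3]) ::
  ([nat_lit 11, nat_lit 8, nat_lit 10, nat_lit 6], [nat_lit 0, nat_lit 3, nat_lit 2]) ::
  ([nat_lit 8, nat_lit 11, nat_lit 10, nat_lit 6], [nat_lit 0, nat_lit 5, nat_lit 1, nat_lit 4]) ::
  ([nat_lit 5, nat_lit 4, nat_lit 11, nat_lit 6], [nat_lit 3, nat_lit 1, nat_lit 2, nat_lit 0]) ::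
  ([nat_lit 8, nat_lit 4, nat_lit 11, nat_lit 6], [nat_lit 1, nat_lit 3, nat_lit 2, nat_lit 0]) ::
  ([nat_lit 9, nat_lit 4, nat_lit 11, nat_lit 6], [nat_lit 0, nat_lit 1, nat_lit 5]) ::
  ([nat_lit 10, nat_lit 4, nat_lit 11, nat_lit 6], [nat_lit 3, nat_lit 1, nat_lit 5, nat_lit 0]) ::
  ([nat_lit 8, nat_lit 8, nat_lit 11, nat_lit 6], [nat_lit 4, nat_lit 0, nat_lit 5, nat_lit 1]) ::
  ([nat_lit 11, nat_lit 8, nat_lit 11, nat_lit 6], [nat_lit 0, nat_lit 1, nat_lit 2, nat_lit 2]) ::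
  ([nat_lit 8, nat_lit 5, nat_lit 4, nat_lit 7], [nat_lit 1, nat_lit 0, nat_lit 2]) ::
  ([nat_lit 11, nat_lit 5, nat_lit 4, nat_lit 7], [nat_lit 1, nat_lit 3, nat_lit 0, nat_lit 0]) ::
  ([nat_lit 8, nat_lit 6, nat_lit 4, nat_lit 7], [nat_lit 0, nat_lit 0, nat_lit 1, nat_lit 2]) ::
  ([nat_lit 11, nat_lit 6, nat_lit 4, nat_lit 7], [nat_lit 4, nat_lit 0, nat_lit 1, nat_lit 2, nat_lit 1]) ::
  ceV200
noncomputable def ceV100 : List (List ℕ × List ℕ) :=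
  ([nat_lit 11, nat_lit 11, nat_lit 9], [nat_lit 0, nat_lit 1, nat_lit 3, nat_lit 5, nat_lit 2, nat_lit 5, nat_lit 3]) ::
  ([nat_lit 7, nat_lit 4, nat_lit 10], [nat_lit 5, nat_lit 0, nat_lit 4, nat_lit 1, nat_lit 2]) ::
  ([nat_lit 8, nat_lit 4, nat_lit 10], [nat_lit 4, nat_lit 1, nat_lit 0, nat_lit 3]) ::
  ([nat_lit 10, nat_lit 4, nat_lit 10], [nat_lit 2, nat_lit 0, nat_lit 1, nat_lit 0]) ::
  ([nat_lit 11, nat_lit 4, nat_lit 10], [nat_lit 0, nat_lit 1, nat_lit 3, nat_lit 3, nat_lit 1]) ::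
  ([nat_lit 6, nat_lit 8, nat_lit 10], [nat_lit 1, nat_lit 3, nat_lit 2, nat_lit 0]) ::
  ([nat_lit 7, nat_lit 8, nat_lit 10], [nat_lit 5, nat_lit 0, nat_lit 4, nat_lit 1]) ::
  ([nat_lit 8, nat_lit 8, nat_lit 10], [nat_lit 0, nat_lit 1, nat_lit 3, nat_lit 2]) ::
  ([nat_lit 9, nat_lit 8, nat_lit 10], [nat_lit 0, nat_lit 2, nat_lit 2, nat_lit 3]) ::
  ([nat_lit 10, nat_lit 8, nat_lit 10], [nat_lit 1, nat_lit 5, nat_lit 0]) ::
  ([nat_lit 11, nat_lit 8, nat_lit 10], [nat_lit 1, nat_lit 5, nat_lit 0, nat_lit 5, nat_lit 4]) ::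
  ([nat_lit 8, nat_lit 11, nat_lit 10], [nat_lit 1, nat_lit 5, nat_lit 0, nat_lit 3, nat_lit 0]) ::
  ([nat_lit 5, nat_lit 4, nat_lit 11], [nat_lit 0, nat_lit 5, nat_lit 2, nat_lit 1]) ::
  ([nat_lit 6, nat_lit 4, nat_lit 11], [nat_lit 1, nat_lit 5, nat_lit 0]) ::
  ([nat_lit 8, nat_lit 4, nat_lit 11], [nat_lit 3, nat_lit 0, nat_lit 2]) ::
  ([nat_lit 9, nat_lit 4, nat_lit 11], [nat_lit 0, nat_lit 1]) ::
  ([nat_lit 10, nat_lit 4, nat_lit 11], [nat_lit 3, nat_lit 1, nat_lit 2, nat_lit 0]) ::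
  ([nat_lit 11, nat_lit 4, nat_lit 11], [nat_lit 3, nat_lit 0, nat_lit 1]) ::
  ([nat_lit 8, nat_lit 8, nat_lit 11], [nat_lit 5, nat_lit 1, nat_lit 5, nat_lit 0]) ::
  ([nat_lit 8, nat_lit 5, nat_lit 4, nat_lit 5], [nat_lit 5, nat_lit 1, nat_lit 0]) ::
  ([nat_lit 11, nat_lit 5, nat_lit 4, nat_lit 5], [nat_lit 0, nat_lit 1, nat_lit 3, nat_lit 1, nat_lit 3]) ::
  ([nat_lit 11, nat_lit 7, nat_lit 4, nat_lit 5], [nat_lit 3, nat_lit 0, nat_lit 0, nat_lit 1]) ::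
  ([nat_lit 6, nat_lit 8, nat_lit 4, nat_lit 5], [nat_lit 0, nat_lit 3, nat_lit 5, nat_lit 1, nat_lit 4]) ::
  ([nat_lit 7, nat_lit 8, nat_lit 4, nat_lit 5], [nat_lit 2, nat_lit 1, nat_lit 0, nat_lit 2]) ::
  ([nat_lit 8, nat_lit 8, nat_lit 4, nat_lit 5], [nat_lit 4, nat_lit 2, nat_lit 5, nat_lit 3, nat_lit 0]) ::
  ([nat_lit 9, nat_lit 8, nat_lit 4, nat_lit 5], [nat_lit 1, nat_lit 0, nat_lit 5]) ::
  ([nat_lit 10, nat_lit 8, nat_lit 4, nat_lit 5], [nat_lit 4, nat_lit 2, nat_lit 1, nat_lit 0, nat_lit 1]) ::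
  ([nat_lit 11, nat_lit 8, nat_lit 4, nat_lit 5], [nat_lit 5, nat_lit 0, nat_lit 1, nat_lit 3]) ::
  ([nat_lit 8, nat_lit 9, nat_lit 4, nat_lit 5], [nat_lit 0, nat_lit 2, nat_lit 3, nat_lit 0]) ::
  ([nat_lit 11, nat_lit 9, nat_lit 4, nat_lit 5], [nat_lit 0, nat_lit 0, nat_lit 1, nat_lit 5]) ::
  ([nat_lit 11, nat_lit 10, nat_lit 4, nat_lit 5], [nat_lit 0, nat_lit 5, nat_lit 1, nat_lit 5, nat_lit 0]) ::
  ([nat_lit 7, nat_lit 4, nat_lit 8, nat_lit 5], [nat_lit 2, nat_lit 0, nat_lit 2, nat_lit 1]) ::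
  ([nat_lit 9, nat_lit 4, nat_lit 8, nat_lit 5], [nat_lit 0, nat_lit 1, nat_lit 0, nat_lit 5]) ::
  ([nat_lit 10, nat_lit 4, nat_lit 8, nat_lit 5], [nat_lit 3, nat_lit 0, nat_lit 2, nat_lit 2]) ::
  ([nat_lit 7, nat_lit 6, nat_lit 8, nat_lit 5], [nat_lit 4, nat_lit 3, nat_lit 0, nat_lit 2, nat_lit 2]) ::
  ([nat_lit 8, nat_lit 6, nat_lit 8, nat_lit 5], [nat_lit 4, nat_lit 0, nat_lit 5, nat_lit 1, nat_lit 3]) ::
  ([nat_lit 10, nat_lit 6, nat_lit 8, nat_lit 5], [nat_lit 2, nat_lit 1, nat_lit 0, nat_lit 2]) ::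
  ([nat_lit 8, nat_lit 7, nat_lit 8, nat_lit 5], [nat_lit 0, nat_lit 2, nat_lit 1, nat_lit 2, nat_lit 5]) ::
  ([nat_lit 11, nat_lit 7, nat_lit 8, nat_lit 5], [nat_lit 1, nat_lit 5, nat_lit 0, nat_lit 0]) ::
  ([nat_lit 6, nat_lit 8, nat_lit 8, nat_lit 5], [nat_lit 0, nat_lit 3, nat_lit 0, nat_lit 1]) ::
  ([nat_lit 7, nat_lit 8, nat_lit 8, nat_lit 5], [nat_lit 2, nat_lit 0, nat_lit 1]) ::
  ([nat_lit 9, nat_lit 8, nat_lit 8, nat_lit 5], [nat_lit 0, nat_lit 3, nat_lit 1, nat_lit 3]) ::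
  ([nat_lit 8, nat_lit 9, nat_lit 8, nat_lit 5], [nat_lit 0, nat_lit 1, nat_lit 3, nat_lit 2]) ::
  ([nat_lit 11, nat_lit 9, nat_lit 8, nat_lit 5], [nat_lit 0, nat_lit 5, nat_lit 1, nat_lit 2]) ::
  ([nat_lit 8, nat_lit 10, nat_lit 8, nat_lit 5], [nat_lit 3, nat_lit 1, nat_lit 0]) ::
  ([nat_lit 8, nat_lit 11, nat_lit 8, nat_lit 5], [nat_lit 0, nat_lit 5, nat_lit 1, nat_lit 4]) ::
  ([nat_lit 11, nat_lit 11, nat_lit 8, nat_lit 5], [nat_lit 0, nat_lit 2, nat_lit 5, nat_lit 1, nat_lit 4]) ::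
  ([nat_lit 7, nat_lit 4, nat_lit 11, nat_lit 5], [nat_lit 5, nat_lit 2, nat_lit 0, nat_lit 3]) ::
  ([nat_lit 9, nat_lit 4, nat_lit 11, nat_lit 5], [nat_lit 0, nat_lit 1, nat_lit 5, nat_lit 0]) ::
  ([nat_lit 10, nat_lit 4, nat_lit 11, nat_lit 5], [nat_lit 0, nat_lit 4, nat_lit 0, nat_lit 1, nat_lit 2]) ::
  ceV150
noncomputable def ceV50 : List (List ℕ × List ℕ) :=
  ([nat_lit 9, nat_lit 8, nat_lit 6], [nat_lit 0, nat_lit 1, nat_lit 2, nat_lit 4]) ::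
  ([nat_lit 10, nat_lit 8, nat_lit 6], [nat_lit 2, nat_lit 1, nat_lit 0]) ::
  ([nat_lit 11, nat_lit 8, nat_lit 6], [nat_lit 0, nat_lit 1, nat_lit 2]) ::
  ([nat_lit 11, nat_lit 10, nat_lit 6], [nat_lit 3, nat_lit 4, nat_lit 0, nat_lit 1]) ::
  ([nat_lit 8, nat_lit 11, nat_lit 6], [nat_lit 1, nat_lit 3, nat_lit 1, nat_lit 0]) ::
  ([nat_lit 11, nat_lit 11, nat_lit 6], [nat_lit 0, nat_lit 1, nat_lit 3, nat_lit 5, nat_lit 1]) ::
  ([nat_lit 7, nat_lit 4, nat_lit 7], [nat_lit 1, nat_lit 5, nat_lit 2, nat_lit 1, nat_lit 0]) ::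
  ([nat_lit 8, nat_lit 4, nat_lit 7], [nat_lit 0, nat_lit 0, nat_lit 1, nat_lit 3]) ::
  ([nat_lit 10, nat_lit 4, nat_lit 7], [nat_lit 0, nat_lit 1, nat_lit 5, nat_lit 2]) ::
  ([nat_lit 11, nat_lit 4, nat_lit 7], [nat_lit 0, nat_lit 2, nat_lit 1, nat_lit 2]) ::
  ([nat_lit 6, nat_lit 8, nat_lit 7], [nat_lit 1, nat_lit 5, nat_lit 0]) ::
  ([nat_lit 7, nat_lit 8, nat_lit 7], [nat_lit 2, nat_lit 0, nat_lit 1, nat_lit 5]) ::
  ([nat_lit 8, nat_lit 8, nat_lit 7], [nat_lit 1, nat_lit 5, nat_lit 4, nat_lit 0]) ::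
  ([nat_lit 9, nat_lit 8, nat_lit 7], [nat_lit 3, nat_lit 0, nat_lit 2]) ::
  ([nat_lit 10, nat_lit 8, nat_lit 7], [nat_lit 0, nat_lit 1, nat_lit 5]) ::
  ([nat_lit 11, nat_lit 8, nat_lit 7], [nat_lit 1, nat_lit 0]) ::
  ([nat_lit 8, nat_lit 11, nat_lit 7], [nat_lit 4, nat_lit 1, nat_lit 0]) ::
  ([nat_lit 11, nat_lit 11, nat_lit 7], [nat_lit 1, nat_lit 0, nat_lit 4]) ::
  ([nat_lit 5, nat_lit 4, nat_lit 8], [nat_lit 0, nat_lit 1]) ::
  ([nat_lit 6, nat_lit 4, nat_lit 8], [nat_lit 0, nat_lit 1, nat_lit 4, nat_lit 2]) ::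
  ([nat_lit 7, nat_lit 4, nat_lit 8], [nat_lit 1, nat_lit 0, nat_lit 1, nat_lit 5]) ::
  ([nat_lit 9, nat_lit 4, nat_lit 8], [nat_lit 4, nat_lit 1, nat_lit 0, nat_lit 3]) ::
  ([nat_lit 11, nat_lit 4, nat_lit 8], [nat_lit 1, nat_lit 3, nat_lit 2, nat_lit 0]) ::
  ([nat_lit 7, nat_lit 6, nat_lit 8], [nat_lit 0, nat_lit 0, nat_lit 1]) ::
  ([nat_lit 8, nat_lit 6, nat_lit 8], [nat_lit 1, nat_lit 0, nat_lit 4, nat_lit 5, nat_lit 5]) ::
  ([nat_lit 10, nat_lit 6, nat_lit 8], [nat_lit 3, nat_lit 0, nat_lit 2]) ::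
  ([nat_lit 11, nat_lit 6, nat_lit 8], [nat_lit 0, nat_lit 3, nat_lit 1]) ::
  ([nat_lit 8, nat_lit 7, nat_lit 8], [nat_lit 1, nat_lit 0]) ::
  ([nat_lit 11, nat_lit 7, nat_lit 8], [nat_lit 0, nat_lit 0, nat_lit 5, nat_lit 1]) ::
  ([nat_lit 6, nat_lit 8, nat_lit 8], [nat_lit 0, nat_lit 0, nat_lit 1, nat_lit 3]) ::
  ([nat_lit 7, nat_lit 8, nat_lit 8], [nat_lit 1, nat_lit 0, nat_lit 5]) ::
  ([nat_lit 9, nat_lit 8, nat_lit 8], [nat_lit 1, nat_lit 0, nat_lit 3]) ::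
  ([nat_lit 10, nat_lit 8, nat_lit 8], [nat_lit 1, nat_lit 2, nat_lit 5, nat_lit 0]) ::
  ([nat_lit 8, nat_lit 9, nat_lit 8], [nat_lit 4, nat_lit 3, nat_lit 0, nat_lit 2]) ::
  ([nat_lit 11, nat_lit 9, nat_lit 8], [nat_lit 5, nat_lit 0, nat_lit 1]) ::
  ([nat_lit 11, nat_lit 10, nat_lit 8], [nat_lit 5, nat_lit 1, nat_lit 0, nat_lit 3, nat_lit 0]) ::
  ([nat_lit 8, nat_lit 11, nat_lit 8], [nat_lit 2, nat_lit 0, nat_lit 5, nat_lit 1]) ::
  ([nat_lit 11, nat_lit 11, nat_lit 8], [nat_lit 5, nat_lit 4, nat_lit 1, nat_lit 0, nat_lit 0]) ::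
  ([nat_lit 5, nat_lit 4, nat_lit 9], [nat_lit 1, nat_lit 3, nat_lit 0]) ::
  ([nat_lit 7, nat_lit 4, nat_lit 9], [nat_lit 1, nat_lit 2, nat_lit 4, nat_lit 5, nat_lit 0]) ::
  ([nat_lit 8, nat_lit 4, nat_lit 9], [nat_lit 2, nat_lit 0, nat_lit 1, nat_lit 5, nat_lit 3]) ::
  ([nat_lit 10, nat_lit 4, nat_lit 9], [nat_lit 2, nat_lit 0, nat_lit 1]) ::
  ([nat_lit 11, nat_lit 4, nat_lit 9], [nat_lit 2, nat_lit 1, nat_lit 0, nat_lit 3]) ::
  ([nat_lit 6, nat_lit 8, nat_lit 9], [nat_lit 0, nat_lit 5, nat_lit 5, nat_lit 2, nat_lit 0, nat_lit 1]) ::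
  ([nat_lit 7, nat_lit 8, nat_lit 9], [nat_lit 2, nat_lit 1, nat_lit 5, nat_lit 0]) ::
  ([nat_lit 8, nat_lit 8, nat_lit 9], [nat_lit 0, nat_lit 4, nat_lit 1, nat_lit 5, nat_lit 2]) ::
  ([nat_lit 9, nat_lit 8, nat_lit 9], [nat_lit 5, nat_lit 0, nat_lit 1, nat_lit 3]) ::
  ([nat_lit 10, nat_lit 8, nat_lit 9], [nat_lit 0, nat_lit 2, nat_lit 2, nat_lit 3]) ::
  ([nat_lit 11, nat_lit 8, nat_lit 9], [nat_lit 0, nat_lit 0, nat_lit 1, nat_lit 3]) ::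
  ([nat_lit 8, nat_lit 11, nat_lit 9], [nat_lit 1, nat_lit 5, nat_lit 0, nat_lit 4]) ::
  ceV100
noncomputable def ceV : List (List ℕ × List ℕ) :=
  ([], []) ::
  ([nat_lit 5], [nat_lit 1, nat_lit 2, nat_lit 0, nat_lit 3, nat_lit 5]) ::
  ([nat_lit 6], [nat_lit 2, nat_lit 0, nat_lit 2, nat_lit 1]) ::
  ([nat_lit 7], [nat_lit 2, nat_lit 0, nat_lit 1]) ::
  ([nat_lit 8], [nat_lit 0, nat_lit 2, nat_lit 3, nat_lit 4, nat_lit 2]) ::
  ([nat_lit 9], [nat_lit 2, nat_lit 0, nat_lit 1, nat_lit 0, nat_lit 1]) ::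
  ([nat_lit 10], [nat_lit 2, nat_lit 0, nat_lit 0, nat_lit 0, nat_lit 1]) ::
  ([nat_lit 11], [nat_lit 4, nat_lit 2, nat_lit 1, nat_lit 2, nat_lit 0]) ::
  ([nat_lit 8, nat_lit 5], [nat_lit 2, nat_lit 0, nat_lit 5, nat_lit 1]) ::
  ([nat_lit 11, nat_lit 5], [nat_lit 0, nat_lit 3, nat_lit 1, nat_lit 4]) ::
  ([nat_lit 7, nat_lit 6], [nat_lit 2, nat_lit 0, nat_lit 1, nat_lit 5]) ::
  ([nat_lit 8, nat_lit 6], [nat_lit 0, nat_lit 0, nat_lit 3, nat_lit 1]) ::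
  ([nat_lit 10, nat_lit 6], [nat_lit 5, nat_lit 1, nat_lit 0, nat_lit 1, nat_lit 4]) ::
  ([nat_lit 11, nat_lit 6], [nat_lit 2, nat_lit 0, nat_lit 2, nat_lit 1, nat_lit 3]) ::
  ([nat_lit 8, nat_lit 7], [nat_lit 0, nat_lit 3, nat_lit 2, nat_lit 5]) ::
  ([nat_lit 11, nat_lit 7], [nat_lit 5, nat_lit 1, nat_lit 0, nat_lit 3, nat_lit 5]) ::
  ([nat_lit 6, nat_lit 8], [nat_lit 1, nat_lit 3, nat_lit 0]) ::
  ([nat_lit 7, nat_lit 8], [nat_lit 4, nat_lit 3, nat_lit 0, nat_lit 2]) ::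
  ([nat_lit 8, nat_lit 8], [nat_lit 0, nat_lit 2, nat_lit 5, nat_lit 2, nat_lit 3]) ::
  ([nat_lit 9, nat_lit 8], [nat_lit 0, nat_lit 2, nat_lit 5, nat_lit 1]) ::
  ([nat_lit 10, nat_lit 8], [nat_lit 4, nat_lit 1, nat_lit 0, nat_lit 5, nat_lit 5]) ::
  ([nat_lit 11, nat_lit 8], [nat_lit 2, nat_lit 0, nat_lit 1, nat_lit 2, nat_lit 1, nat_lit 5]) ::
  ([nat_lit 8, nat_lit 9], [nat_lit 0, nat_lit 0, nat_lit 1, nat_lit 5]) ::
  ([nat_lit 11, nat_lit 9], [nat_lit 1, nat_lit 0, nat_lit 3]) ::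
  ([nat_lit 8, nat_lit 10], [nat_lit 4, nat_lit 0, nat_lit 2, nat_lit 3]) ::
  ([nat_lit 11, nat_lit 10], [nat_lit 0, nat_lit 2, nat_lit 5, nat_lit 1]) ::
  ([nat_lit 8, nat_lit 11], [nat_lit 1, nat_lit 2, nat_lit 0]) ::
  ([nat_lit 5, nat_lit 4, nat_lit 5], [nat_lit 4, nat_lit 3, nat_lit 1, nat_lit 0]) ::
  ([nat_lit 6, nat_lit 4, nat_lit 5], [nat_lit 2, nat_lit 1, nat_lit 0, nat_lit 5]) ::
  ([nat_lit 7, nat_lit 4, nat_lit 5], [nat_lit 1, nat_lit 2, nat_lit 0]) ::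
  ([nat_lit 8, nat_lit 4, nat_lit 5], [nat_lit 2, nat_lit 0, nat_lit 3, nat_lit 2]) ::
  ([nat_lit 10, nat_lit 4, nat_lit 5], [nat_lit 5, nat_lit 0, nat_lit 1]) ::
  ([nat_lit 11, nat_lit 4, nat_lit 5], [nat_lit 1, nat_lit 5, nat_lit 0]) ::
  ([nat_lit 6, nat_lit 8, nat_lit 5], [nat_lit 4, nat_lit 0, nat_lit 3, nat_lit 1, nat_lit 2]) ::
  ([nat_lit 7, nat_lit 8, nat_lit 5], [nat_lit 0, nat_lit 2, nat_lit 3, nat_lit 1]) ::
  ([nat_lit 8, nat_lit 8, nat_lit 5], [nat_lit 1, nat_lit 3, nat_lit 2, nat_lit 0]) ::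
  ([nat_lit 9, nat_lit 8, nat_lit 5], [nat_lit 3, nat_lit 0, nat_lit 1, nat_lit 0]) ::
  ([nat_lit 10, nat_lit 8, nat_lit 5], [nat_lit 1, nat_lit 0]) ::
  ([nat_lit 11, nat_lit 8, nat_lit 5], [nat_lit 3, nat_lit 0, nat_lit 1, nat_lit 4]) ::
  ([nat_lit 11, nat_lit 11, nat_lit 5], [nat_lit 5, nat_lit 1, nat_lit 3, nat_lit 2, nat_lit 5, nat_lit 0]) ::
  ([nat_lit 7, nat_lit 4, nat_lit 6], [nat_lit 1, nat_lit 5, nat_lit 0]) ::
  ([nat_lit 8, nat_lit 4, nat_lit 6], [nat_lit 0, nat_lit 3, nat_lit 2]) ::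
  ([nat_lit 9, nat_lit 4, nat_lit 6], [nat_lit 0, nat_lit 0, nat_lit 1, nat_lit 4, nat_lit 4, nat_lit 3, nat_lit 3, nat_lit 0, nat_lit 1, nat_lit 0]) ::
  ([nat_lit 10, nat_lit 4, nat_lit 6], [nat_lit 2, nat_lit 1, nat_lit 5, nat_lit 0]) ::
  ([nat_lit 11, nat_lit 4, nat_lit 6], [nat_lit 0, nat_lit 2, nat_lit 1]) ::
  ([nat_lit 8, nat_lit 7, nat_lit 6], [nat_lit 0, nat_lit 3, nat_lit 1, nat_lit 3, nat_lit 1]) ::
  ([nat_lit 11, nat_lit 7, nat_lit 6], [nat_lit 5, nat_lit 1, nat_lit 0, nat_lit 1]) ::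
  ([nat_lit 6, nat_lit 8, nat_lit 6], [nat_lit 5, nat_lit 2, nat_lit 3, nat_lit 0, nat_lit 2]) ::
  ([nat_lit 7, nat_lit 8, nat_lit 6], [nat_lit 4, nat_lit 0, nat_lit 1]) ::
  ([nat_lit 8, nat_lit 8, nat_lit 6], [nat_lit 0, nat_lit 1, nat_lit 2, nat_lit 2]) ::
  ceV50

end H16.JNT
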